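import Cfsg.Agent.H15.YB.L2.C0
import Cfsg.Agent.H15.YB.L2.C1

/-! Generated by tools/h15/yb.py. -/

set_option maxRecDepth 100000
set_option maxHeartbeats 0
set_option Elab.async false

namespace H15.YB.L2

open H16 H16.DC
open H26 (jn)

theorem rt : RT c := RT.of rtc
theorem v1 : DH.VL c (nat_lit 1) := DH.VL.one rfl
theorem v150 : DH.VL c (nat_lit 150) := DH.VL.step rt v1 v150c
theorem v219 : DH.VL c (nat_lit 219) := DH.VL.step rt v150 v219c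
theorem v273 : DH.VL c (nat_lit 273) := DH.VL.step rt v219 v273c
theorem v309 : DH.VL c (nat_lit 309) := DH.VL.step rt v273 v309c
theorem v350 : DH.VL c (nat_lit 350) := DH.VL.step rt v309 v350c
theorem v386 : DH.VL c (nat_lit 386) := DH.VL.step rt v350 v386c
theorem v424 : DH.VL c (nat_lit 424) := DH.VL.step rt v386 v424c
theorem v479 : DH.VL c (nat_lit 479) := DH.VL.step rt v424 v479c
theorem actc : Act X2.T.π id (SP X2.T H26.F23.R0 (nat_lit 19)) X2.T.n c.K := X2.act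
theorem st0 : DH.SL c V (nat_lit 0) H15.YB.X2.WH := se0 ▸ DH.SL.of v479 st0c
theorem l0_0_0 : DH.LS c X2.T V (nat_lit 0) (nat_lit 0) (Nat.lor (nat_lit 0) H15.YB.X2.mH0_1) :=
  DH.LS.add DH.LS.zero st0 H15.YB.X2.oH0 (DH.LL.edges v479 actc DH.LL.zero e0_0_0) actc u0_0_0
theorem l0_1_0 : DH.LS c X2.T V (nat_lit 0) (nat_lit 1) (Nat.lor (nat_lit 0) H15.YB.X2.mH2_2) :=
  DH.LS.add DH.LS.zero st0 H15.YB.X2.oH2 (DH.LL.edges v479 actc DH.LL.zero e0_1_0) actc u0_1_0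
theorem l0_5_0 : DH.LS c X2.T V (nat_lit 0) (nat_lit 5) (Nat.lor (nat_lit 0) H15.YB.X2.mH1_1) :=
  DH.LS.add DH.LS.zero st0 H15.YB.X2.oH1 (DH.LL.edges v479 actc DH.LL.zero e0_5_0) actc u0_5_0
theorem row0 : DH.RowL c X2.T V PL 0 aL := DH.RowL.of (ms := [(Nat.lor (nat_lit 0) H15.YB.X2.mH0_1), (Nat.lor (nat_lit 0) H15.YB.X2.mH2_2), (nat_lit 0), (nat_lit 0), (nat_lit 0), (Nat.lor (nat_lit 0) H15.YB.X2.mH1_1), (nat_lit 0), (nat_lit 0)]) (.cons l0_0_0 (.cons l0_1_0 (.cons DH.LS.zero (.cons DH.LS.zero (.cons DH.LS.zero (.cons l0_5_0 (.cons DH.LS.zero (.cons DH.LS.zero .nil)))))))) pc0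
theorem st1 : DH.SL c V (nat_lit 1) H15.YB.X2.WP := se1 ▸ DH.SL.of v479 st1c
theorem l1_0_0 : DH.LS c X2.T V (nat_lit 1) (nat_lit 0) (Nat.lor (nat_lit 0) H15.YB.X2.mP0_1) :=
  DH.LS.add DH.LS.zero st1 H15.YB.X2.oP0 (DH.LL.edges v479 actc DH.LL.zero e1_0_0) actc u1_0_0
theorem l1_1_0 : DH.LS c X2.T V (nat_lit 1) (nat_lit 1) (Nat.lor (nat_lit 0) H15.YB.X2.mP2_1) :=
  DH.LS.add DH.LS.zero st1 H15.YB.X2.oP2 (DH.LL.edges v479 actc DH.LL.zero e1_1_0) actc u1_1_0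
theorem l1_2_0 : DH.LS c X2.T V (nat_lit 1) (nat_lit 2) (Nat.lor (nat_lit 0) H15.YB.X2.mP4_1) :=
  DH.LS.add DH.LS.zero st1 H15.YB.X2.oP4 (DH.LL.edges v479 actc DH.LL.zero e1_2_0) actc u1_2_0
theorem l1_3_0 : DH.LS c X2.T V (nat_lit 1) (nat_lit 3) (Nat.lor (nat_lit 0) H15.YB.X2.mP3_1) :=
  DH.LS.add DH.LS.zero st1 H15.YB.X2.oP3 (DH.LL.edges v479 actc DH.LL.zero e1_3_0) actc u1_3_0
theorem l1_6_0 : DH.LS c X2.T V (nat_lit 1) (nat_lit 6) (Nat.lor (nat_lit 0) H15.YB.X2.mP1_1) :=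
  DH.LS.add DH.LS.zero st1 H15.YB.X2.oP1 (DH.LL.edges v479 actc DH.LL.zero e1_6_0) actc u1_6_0
theorem row1 : DH.RowL c X2.T V PL 1 aL := DH.RowL.of (ms := [(Nat.lor (nat_lit 0) H15.YB.X2.mP0_1), (Nat.lor (nat_lit 0) H15.YB.X2.mP2_1), (Nat.lor (nat_lit 0) H15.YB.X2.mP4_1), (Nat.lor (nat_lit 0) H15.YB.X2.mP3_1), (nat_lit 0), (nat_lit 0), (Nat.lor (nat_lit 0) H15.YB.X2.mP1_1), (nat_lit 0)]) (.cons l1_0_0 (.cons l1_1_0 (.cons l1_2_0 (.cons l1_3_0 (.cons DH.LS.zero (.cons DH.LS.zero (.cons l1_6_0 (.cons DH.LS.zero .nil)))))))) pc1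
theorem st2 : DH.SL c V (nat_lit 2) H15.YB.X2.WT := se2 ▸ DH.SL.of v479 st2c
theorem l2_1_0 : DH.LS c X2.T V (nat_lit 2) (nat_lit 1) (Nat.lor (nat_lit 0) H15.YB.X2.mT1_1) :=
  DH.LS.add DH.LS.zero st2 H15.YB.X2.oT1 (DH.LL.edges v479 actc DH.LL.zero e2_1_0) actc u2_1_0
theorem l2_2_0 : DH.LS c X2.T V (nat_lit 2) (nat_lit 2) (Nat.lor (nat_lit 0) H15.YB.X2.mT0_1) :=
  DH.LS.add DH.LS.zero st2 H15.YB.X2.oT0 (DH.LL.edges v479 actc DH.LL.zero e2_2_0) actc u2_2_0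
theorem l2_2_1 : DH.LS c X2.T V (nat_lit 2) (nat_lit 2) (Nat.lor (Nat.lor (nat_lit 0) H15.YB.X2.mT0_1) H15.YB.X2.mT6_1) :=
  DH.LS.add l2_2_0 st2 H15.YB.X2.oT6 (DH.LL.edges v479 actc DH.LL.zero e2_2_1) actc u2_2_1
theorem l2_2_2 : DH.LS c X2.T V (nat_lit 2) (nat_lit 2) (Nat.lor (Nat.lor (Nat.lor (nat_lit 0) H15.YB.X2.mT0_1) H15.YB.X2.mT6_1) H15.YB.X2.mT5_1) :=
  DH.LS.add l2_2_1 st2 H15.YB.X2.oT5 (DH.LL.edges v479 actc DH.LL.zero e2_2_2) actc u2_2_2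
theorem l2_3_0 : DH.LS c X2.T V (nat_lit 2) (nat_lit 3) (Nat.lor (nat_lit 0) H15.YB.X2.mT7_1) :=
  DH.LS.add DH.LS.zero st2 H15.YB.X2.oT7 (DH.LL.edges v479 actc DH.LL.zero e2_3_0) actc u2_3_0
theorem l2_4_0 : DH.LS c X2.T V (nat_lit 2) (nat_lit 4) (Nat.lor (nat_lit 0) H15.YB.X2.mT3_1) :=
  DH.LS.add DH.LS.zero st2 H15.YB.X2.oT3 (DH.LL.edges v479 actc DH.LL.zero e2_4_0) actc u2_4_0
theorem l2_4_1 : DH.LS c X2.T V (nat_lit 2) (nat_lit 4) (Nat.lor (Nat.lor (nat_lit 0) H15.YB.X2.mT3_1) H15.YB.X2.mT4_1) :=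
  DH.LS.add l2_4_0 st2 H15.YB.X2.oT4 (DH.LL.edges v479 actc DH.LL.zero e2_4_1) actc u2_4_1
theorem l2_5_0 : DH.LS c X2.T V (nat_lit 2) (nat_lit 5) (Nat.lor (nat_lit 0) H15.YB.X2.mT2_1) :=
  DH.LS.add DH.LS.zero st2 H15.YB.X2.oT2 (DH.LL.edges v479 actc DH.LL.zero e2_5_0) actc u2_5_0
theorem row2 : DH.RowL c X2.T V PL 2 aL := DH.RowL.of (ms := [(nat_lit 0), (Nat.lor (nat_lit 0) H15.YB.X2.mT1_1), (Nat.lor (Nat.lor (Nat.lor (nat_lit 0) H15.YB.X2.mT0_1) H15.YB.X2.mT6_1) H15.YB.X2.mT5_1), (Nat.lor (nat_lit 0) H15.YB.X2.mT7_1), (Nat.lor (Nat.lor (nat_lit 0) H15.YB.X2.mT3_1) H15.YB.X2.mT4_1), (Nat.lor (nat_lit 0) H15.YB.X2.mT2_1), (nat_lit 0), (nat_lit 0)]) (.cons DH.LS.zero (.cons l2_1_0 (.cons l2_2_2 (.cons l2_3_0 (.cons l2_4_1 (.cons l2_5_0 (.cons DH.LS.zero (.cons DH.LS.zero .nil)))))))) pc2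
theorem st3 : DH.SL c V (nat_lit 3) H15.YB.X2.WA := se3 ▸ DH.SL.of v479 st3c
theorem l3_1_0 : DH.LS c X2.T V (nat_lit 3) (nat_lit 1) (Nat.lor (nat_lit 0) H15.YB.X2.mA2_1) :=
  DH.LS.add DH.LS.zero st3 H15.YB.X2.oA2 (DH.LL.edges v479 actc DH.LL.zero e3_1_0) actc u3_1_0
theorem l3_2_0 : DH.LS c X2.T V (nat_lit 3) (nat_lit 2) (Nat.lor (nat_lit 0) H15.YB.X2.mA6_1) :=
  DH.LS.add DH.LS.zero st3 H15.YB.X2.oA6 (DH.LL.edges v479 actc DH.LL.zero e3_2_0) actc u3_2_0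
theorem l3_3_0 : DH.LS c X2.T V (nat_lit 3) (nat_lit 3) (Nat.lor (nat_lit 0) H15.YB.X2.mA5_1) :=
  DH.LS.add DH.LS.zero st3 H15.YB.X2.oA5 (DH.LL.edges v479 actc DH.LL.zero e3_3_0) actc u3_3_0
theorem l3_3_1 : DH.LS c X2.T V (nat_lit 3) (nat_lit 3) (Nat.lor (Nat.lor (nat_lit 0) H15.YB.X2.mA5_1) H15.YB.X2.mA8_1) :=
  DH.LS.add l3_3_0 st3 H15.YB.X2.oA8 (DH.LL.edges v479 actc DH.LL.zero e3_3_1) actc u3_3_1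
theorem l3_3_2 : DH.LS c X2.T V (nat_lit 3) (nat_lit 3) (Nat.lor (Nat.lor (Nat.lor (nat_lit 0) H15.YB.X2.mA5_1) H15.YB.X2.mA8_1) H15.YB.X2.mA4_1) :=
  DH.LS.add l3_3_1 st3 H15.YB.X2.oA4 (DH.LL.edges v479 actc DH.LL.zero e3_3_2) actc u3_3_2
theorem l3_3_3 : DH.LS c X2.T V (nat_lit 3) (nat_lit 3) (Nat.lor (Nat.lor (Nat.lor (Nat.lor (nat_lit 0) H15.YB.X2.mA5_1) H15.YB.X2.mA8_1) H15.YB.X2.mA4_1) H15.YB.X2.mA0_1) :=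
  DH.LS.add l3_3_2 st3 H15.YB.X2.oA0 (DH.LL.edges v479 actc DH.LL.zero e3_3_3) actc u3_3_3
theorem l3_4_0 : DH.LS c X2.T V (nat_lit 3) (nat_lit 4) (Nat.lor (nat_lit 0) H15.YB.X2.mA7_1) :=
  DH.LS.add DH.LS.zero st3 H15.YB.X2.oA7 (DH.LL.edges v479 actc DH.LL.zero e3_4_0) actc u3_4_0
theorem l3_5_0 : DH.LS c X2.T V (nat_lit 3) (nat_lit 5) (Nat.lor (nat_lit 0) H15.YB.X2.mA3_1) :=
  DH.LS.add DH.LS.zero st3 H15.YB.X2.oA3 (DH.LL.edges v479 actc DH.LL.zero e3_5_0) actc u3_5_0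
theorem l3_6_0 : DH.LS c X2.T V (nat_lit 3) (nat_lit 6) (Nat.lor (nat_lit 0) H15.YB.X2.mA1_1) :=
  DH.LS.add DH.LS.zero st3 H15.YB.X2.oA1 (DH.LL.edges v479 actc DH.LL.zero e3_6_0) actc u3_6_0
theorem row3 : DH.RowL c X2.T V PL 3 aL := DH.RowL.of (ms := [(nat_lit 0), (Nat.lor (nat_lit 0) H15.YB.X2.mA2_1), (Nat.lor (nat_lit 0) H15.YB.X2.mA6_1), (Nat.lor (Nat.lor (Nat.lor (Nat.lor (nat_lit 0) H15.YB.X2.mA5_1) H15.YB.X2.mA8_1) H15.YB.X2.mA4_1) H15.YB.X2.mA0_1), (Nat.lor (nat_lit 0) H15.YB.X2.mA7_1), (Nat.lor (nat_lit 0) H15.YB.X2.mA3_1), (Nat.lor (nat_lit 0) H15.YB.X2.mA1_1), (nat_lit 0)]) (.cons DH.LS.zero (.cons l3_1_0 (.cons l3_2_0 (.cons l3_3_3 (.cons l3_4_0 (.cons l3_5_0 (.cons l3_6_0 (.cons DH.LS.zero .nil)))))))) pc3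
theorem st4 : DH.SL c V (nat_lit 4) H15.YB.X2.WT := se4 ▸ DH.SL.of v479 st4c
theorem l4_2_0 : DH.LS c X2.T V (nat_lit 4) (nat_lit 2) (Nat.lor (nat_lit 0) H15.YB.X2.mT3_1) :=
  DH.LS.add DH.LS.zero st4 H15.YB.X2.oT3 (DH.LL.edges v479 actc DH.LL.zero e4_2_0) actc u4_2_0
theorem l4_2_1 : DH.LS c X2.T V (nat_lit 4) (nat_lit 2) (Nat.lor (Nat.lor (nat_lit 0) H15.YB.X2.mT3_1) H15.YB.X2.mT4_1) :=
  DH.LS.add l4_2_0 st4 H15.YB.X2.oT4 (DH.LL.edges v479 actc DH.LL.zero e4_2_1) actc u4_2_1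
theorem l4_3_0 : DH.LS c X2.T V (nat_lit 4) (nat_lit 3) (Nat.lor (nat_lit 0) H15.YB.X2.mT7_1) :=
  DH.LS.add DH.LS.zero st4 H15.YB.X2.oT7 (DH.LL.edges v479 actc DH.LL.zero e4_3_0) actc u4_3_0
theorem l4_4_0 : DH.LS c X2.T V (nat_lit 4) (nat_lit 4) (Nat.lor (nat_lit 0) H15.YB.X2.mT6_1) :=
  DH.LS.add DH.LS.zero st4 H15.YB.X2.oT6 (DH.LL.edges v479 actc DH.LL.zero e4_4_0) actc u4_4_0
theorem l4_4_1 : DH.LS c X2.T V (nat_lit 4) (nat_lit 4) (Nat.lor (Nat.lor (nat_lit 0) H15.YB.X2.mT6_1) H15.YB.X2.mT5_1) :=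
  DH.LS.add l4_4_0 st4 H15.YB.X2.oT5 (DH.LL.edges v479 actc DH.LL.zero e4_4_1) actc u4_4_1
theorem l4_4_2 : DH.LS c X2.T V (nat_lit 4) (nat_lit 4) (Nat.lor (Nat.lor (Nat.lor (nat_lit 0) H15.YB.X2.mT6_1) H15.YB.X2.mT5_1) H15.YB.X2.mT0_1) :=
  DH.LS.add l4_4_1 st4 H15.YB.X2.oT0 (DH.LL.edges v479 actc DH.LL.zero e4_4_2) actc u4_4_2
theorem l4_5_0 : DH.LS c X2.T V (nat_lit 4) (nat_lit 5) (Nat.lor (nat_lit 0) H15.YB.X2.mT2_1) :=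
  DH.LS.add DH.LS.zero st4 H15.YB.X2.oT2 (DH.LL.edges v479 actc DH.LL.zero e4_5_0) actc u4_5_0
theorem l4_6_0 : DH.LS c X2.T V (nat_lit 4) (nat_lit 6) (Nat.lor (nat_lit 0) H15.YB.X2.mT1_1) :=
  DH.LS.add DH.LS.zero st4 H15.YB.X2.oT1 (DH.LL.edges v479 actc DH.LL.zero e4_6_0) actc u4_6_0
theorem row4 : DH.RowL c X2.T V PL 4 aL := DH.RowL.of (ms := [(nat_lit 0), (nat_lit 0), (Nat.lor (Nat.lor (nat_lit 0) H15.YB.X2.mT3_1) H15.YB.X2.mT4_1), (Nat.lor (nat_lit 0) H15.YB.X2.mT7_1), (Nat.lor (Nat.lor (Nat.lor (nat_lit 0) H15.YB.X2.mT6_1) H15.YB.X2.mT5_1) H15.YB.X2.mT0_1), (Nat.lor (nat_lit 0) H15.YB.X2.mT2_1), (Nat.lor (nat_lit 0) H15.YB.X2.mT1_1), (nat_lit 0)]) (.cons DH.LS.zero (.cons DH.LS.zero (.cons l4_2_1 (.cons l4_3_0 (.cons l4_4_2 (.cons l4_5_0 (.cons l4_6_0 (.cons DH.LS.zero .nil)))))))) pc4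
theorem st5 : DH.SL c V (nat_lit 5) H15.YB.X2.WO := se5 ▸ DH.SL.of v479 st5c
theorem l5_0_0 : DH.LS c X2.T V (nat_lit 5) (nat_lit 0) (Nat.lor (nat_lit 0) (maskL [(nat_lit 2365)])) :=
  DH.LS.add DH.LS.zero st5 H15.YB.X2.oO2 (DH.LL.edges v479 actc DH.LL.zero e5_0_0) actc u5_0_0
theorem l5_2_0 : DH.LS c X2.T V (nat_lit 5) (nat_lit 2) (Nat.lor (nat_lit 0) H15.YB.X2.mO4_1) :=
  DH.LS.add DH.LS.zero st5 H15.YB.X2.oO4 (DH.LL.edges v479 actc DH.LL.zero e5_2_0) actc u5_2_0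
theorem l5_3_0 : DH.LS c X2.T V (nat_lit 5) (nat_lit 3) (Nat.lor (nat_lit 0) H15.YB.X2.mO7_1) :=
  DH.LS.add DH.LS.zero st5 H15.YB.X2.oO7 (DH.LL.edges v479 actc DH.LL.zero e5_3_0) actc u5_3_0
theorem l5_4_0 : DH.LS c X2.T V (nat_lit 5) (nat_lit 4) (Nat.lor (nat_lit 0) H15.YB.X2.mO5_1) :=
  DH.LS.add DH.LS.zero st5 H15.YB.X2.oO5 (DH.LL.edges v479 actc DH.LL.zero e5_4_0) actc u5_4_0
theorem l5_5_0 : DH.LS c X2.T V (nat_lit 5) (nat_lit 5) (Nat.lor (nat_lit 0) H15.YB.X2.mO6_1) :=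
  DH.LS.add DH.LS.zero st5 H15.YB.X2.oO6 (DH.LL.edges v479 actc DH.LL.zero e5_5_0) actc u5_5_0
theorem l5_5_1 : DH.LS c X2.T V (nat_lit 5) (nat_lit 5) (Nat.lor (Nat.lor (nat_lit 0) H15.YB.X2.mO6_1) H15.YB.X2.mO3_1) :=
  DH.LS.add l5_5_0 st5 H15.YB.X2.oO3 (DH.LL.edges v479 actc DH.LL.zero e5_5_1) actc u5_5_1
theorem l5_5_2 : DH.LS c X2.T V (nat_lit 5) (nat_lit 5) (Nat.lor (Nat.lor (Nat.lor (nat_lit 0) H15.YB.X2.mO6_1) H15.YB.X2.mO3_1) (maskL [(nat_lit 17)])) :=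
  DH.LS.add l5_5_1 st5 H15.YB.X2.oO0 (DH.LL.edges v479 actc DH.LL.zero e5_5_2) actc u5_5_2
theorem l5_8_0 : DH.LS c X2.T V (nat_lit 5) (nat_lit 8) (Nat.lor (nat_lit 0) (maskL [(nat_lit 2364)])) :=
  DH.LS.add DH.LS.zero st5 H15.YB.X2.oO1 (DH.LL.edges v479 actc DH.LL.zero e5_8_0) actc u5_8_0
theorem row5 : DH.RowL c X2.T V PL 5 aL := DH.RowL.of (ms := [(Nat.lor (nat_lit 0) (maskL [(nat_lit 2365)])), (nat_lit 0), (Nat.lor (nat_lit 0) H15.YB.X2.mO4_1), (Nat.lor (nat_lit 0) H15.YB.X2.mO7_1), (Nat.lor (nat_lit 0) H15.YB.X2.mO5_1), (Nat.lor (Nat.lor (Nat.lor (nat_lit 0) H15.YB.X2.mO6_1) H15.YB.X2.mO3_1) (maskL [(nat_lit 17)])), (nat_lit 0), (Nat.lor (nat_lit 0) (maskL [(nat_lit 2364)]))]) (.cons l5_0_0 (.cons DH.LS.zero (.cons l5_2_0 (.cons l5_3_0 (.cons l5_4_0 (.cons l5_5_2 (.cons DH.LS.zero (.cons l5_8_0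 .nil)))))))) pc5
theorem st6 : DH.SL c V (nat_lit 6) H15.YB.X2.WP := se6 ▸ DH.SL.of v479 st6c
theorem l6_1_0 : DH.LS c X2.T V (nat_lit 6) (nat_lit 1) (Nat.lor (nat_lit 0) H15.YB.X2.mP1_1) :=
  DH.LS.add DH.LS.zero st6 H15.YB.X2.oP1 (DH.LL.edges v479 actc DH.LL.zero e6_1_0) actc u6_1_0
theorem l6_3_0 : DH.LS c X2.T V (nat_lit 6) (nat_lit 3) (Nat.lor (nat_lit 0) H15.YB.X2.mP3_1) :=
  DH.LS.add DH.LS.zero st6 H15.YB.X2.oP3 (DH.LL.edges v479 actc DH.LL.zero e6_3_0) actc u6_3_0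
theorem l6_4_0 : DH.LS c X2.T V (nat_lit 6) (nat_lit 4) (Nat.lor (nat_lit 0) H15.YB.X2.mP4_1) :=
  DH.LS.add DH.LS.zero st6 H15.YB.X2.oP4 (DH.LL.edges v479 actc DH.LL.zero e6_4_0) actc u6_4_0
theorem l6_6_0 : DH.LS c X2.T V (nat_lit 6) (nat_lit 6) (Nat.lor (nat_lit 0) H15.YB.X2.mP2_1) :=
  DH.LS.add DH.LS.zero st6 H15.YB.X2.oP2 (DH.LL.edges v479 actc DH.LL.zero e6_6_0) actc u6_6_0
theorem l6_8_0 : DH.LS c X2.T V (nat_lit 6) (nat_lit 8) (Nat.lor (nat_lit 0) H15.YB.X2.mP0_1) :=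
  DH.LS.add DH.LS.zero st6 H15.YB.X2.oP0 (DH.LL.edges v479 actc DH.LL.zero e6_8_0) actc u6_8_0
theorem row6 : DH.RowL c X2.T V PL 6 aL := DH.RowL.of (ms := [(nat_lit 0), (Nat.lor (nat_lit 0) H15.YB.X2.mP1_1), (nat_lit 0), (Nat.lor (nat_lit 0) H15.YB.X2.mP3_1), (Nat.lor (nat_lit 0) H15.YB.X2.mP4_1), (nat_lit 0), (Nat.lor (nat_lit 0) H15.YB.X2.mP2_1), (Nat.lor (nat_lit 0) H15.YB.X2.mP0_1)]) (.cons DH.LS.zero (.cons l6_1_0 (.cons DH.LS.zero (.cons l6_3_0 (.cons l6_4_0 (.cons DH.LS.zero (.cons l6_6_0 (.cons l6_8_0 .nil)))))))) pc6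
theorem st8 : DH.SL c V (nat_lit 8) H15.YB.X2.WH := se8 ▸ DH.SL.of v479 st8c
theorem l8_5_0 : DH.LS c X2.T V (nat_lit 8) (nat_lit 5) (Nat.lor (nat_lit 0) H15.YB.X2.mH1_1) :=
  DH.LS.add DH.LS.zero st8 H15.YB.X2.oH1 (DH.LL.edges v479 actc DH.LL.zero e8_5_0) actc u8_5_0
theorem l8_6_0 : DH.LS c X2.T V (nat_lit 8) (nat_lit 6) (Nat.lor (nat_lit 0) H15.YB.X2.mH2_2) :=
  DH.LS.add DH.LS.zero st8 H15.YB.X2.oH2 (DH.LL.edges v479 actc DH.LL.zero e8_6_0) actc u8_6_0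
theorem l8_8_0 : DH.LS c X2.T V (nat_lit 8) (nat_lit 8) (Nat.lor (nat_lit 0) H15.YB.X2.mH0_1) :=
  DH.LS.add DH.LS.zero st8 H15.YB.X2.oH0 (DH.LL.edges v479 actc DH.LL.zero e8_8_0) actc u8_8_0
theorem row7 : DH.RowL c X2.T V PL 7 aL := DH.RowL.of (ms := [(nat_lit 0), (nat_lit 0), (nat_lit 0), (nat_lit 0), (nat_lit 0), (Nat.lor (nat_lit 0) H15.YB.X2.mH1_1), (Nat.lor (nat_lit 0) H15.YB.X2.mH2_2), (Nat.lor (nat_lit 0) H15.YB.X2.mH0_1)]) (.cons DH.LS.zero (.cons DH.LS.zero (.cons DH.LS.zero (.cons DH.LS.zero (.cons DH.LS.zero (.cons l8_5_0 (.cons l8_6_0 (.cons l8_8_0 .nil)))))))) pc8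
theorem done : DH.Done c X2.T Y2.UK 31671 27143910000 := DH.Done.of v479 kgc (all_succ (all_succ (all_succ (all_succ (all_succ (all_succ (all_succ (all_succ all_zero row0) row1) row2) row3) row4) row5) row6) row7) num

end H15.YB.L2
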