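import Cfsg.Agent.H15.YB.L1
import Cfsg.Agent.H15.YB.L2
import Cfsg.Agent.H16.W

/-! Generated by tools/h15/glue.py. -/

set_option maxRecDepth 100000
set_option maxHeartbeats 0
set_option Elab.async false

namespace H15.YB

open H16 H16.DC

noncomputable def P1 : List (List ℕ) := [[nat_lit 0, nat_lit 0],
  [nat_lit 1, nat_lit 1],
  [nat_lit 2, nat_lit 2],
  [nat_lit 3, nat_lit 3],
  [nat_lit 4, nat_lit 4],
  [nat_lit 5, nat_lit 5],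
  [nat_lit 6, nat_lit 6],
  [nat_lit 7, nat_lit 7],
  [nat_lit 8, nat_lit 8],
  [nat_lit 9, nat_lit 9],
  [nat_lit 1, nat_lit 0, nat_lit 1, nat_lit 0, nat_lit 1, nat_lit 0],
  [nat_lit 2, nat_lit 0, nat_lit 2, nat_lit 0],
  [nat_lit 2, nat_lit 1, nat_lit 2, nat_lit 1, nat_lit 2, nat_lit 1],
  [nat_lit 3, nat_lit 0, nat_lit 3, nat_lit 0],
  [nat_lit 3, nat_lit 1, nat_lit 3, nat_lit 1],
  [nat_lit 3, nat_lit 2, nat_lit 3, nat_lit 2, nat_lit 3, nat_lit 2],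
  [nat_lit 4, nat_lit 0, nat_lit 4, nat_lit 0],
  [nat_lit 4, nat_lit 1, nat_lit 4, nat_lit 1],
  [nat_lit 4, nat_lit 2, nat_lit 4, nat_lit 2],
  [nat_lit 4, nat_lit 3, nat_lit 4, nat_lit 3, nat_lit 4, nat_lit 3],
  [nat_lit 5, nat_lit 0, nat_lit 5, nat_lit 0],
  [nat_lit 5, nat_lit 1, nat_lit 5, nat_lit 1],
  [nat_lit 5, nat_lit 2, nat_lit 5, nat_lit 2],
  [nat_lit 5, nat_lit 3, nat_lit 5, nat_lit 3],
  [nat_lit 5, nat_lit 4, nat_lit 5, nat_lit 4, nat_lit 5, nat_lit 4],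
  [nat_lit 6, nat_lit 0, nat_lit 6, nat_lit 0],
  [nat_lit 6, nat_lit 1, nat_lit 6, nat_lit 1],
  [nat_lit 6, nat_lit 2, nat_lit 6, nat_lit 2],
  [nat_lit 6, nat_lit 3, nat_lit 6, nat_lit 3],
  [nat_lit 6, nat_lit 4, nat_lit 6, nat_lit 4],
  [nat_lit 6, nat_lit 5, nat_lit 6, nat_lit 5, nat_lit 6, nat_lit 5],
  [nat_lit 7, nat_lit 0, nat_lit 7, nat_lit 0],
  [nat_lit 7, nat_lit 1, nat_lit 7, nat_lit 1],
  [nat_lit 7, nat_lit 2, nat_lit 7, nat_lit 2],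
  [nat_lit 7, nat_lit 3, nat_lit 7, nat_lit 3, nat_lit 7, nat_lit 3],
  [nat_lit 7, nat_lit 4, nat_lit 7, nat_lit 4],
  [nat_lit 7, nat_lit 5, nat_lit 7, nat_lit 5],
  [nat_lit 7, nat_lit 6, nat_lit 7, nat_lit 6],
  [nat_lit 8, nat_lit 0, nat_lit 8, nat_lit 0],
  [nat_lit 8, nat_lit 1, nat_lit 8, nat_lit 1],
  [nat_lit 8, nat_lit 2, nat_lit 8, nat_lit 2],
  [nat_lit 8, nat_lit 3, nat_lit 8, nat_lit 3],
  [nat_lit 8, nat_lit 4, nat_lit 8, nat_lit 4],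
  [nat_lit 8, nat_lit 5, nat_lit 8, nat_lit 5],
  [nat_lit 8, nat_lit 6, nat_lit 8, nat_lit 6],
  [nat_lit 8, nat_lit 7, nat_lit 8, nat_lit 7, nat_lit 8, nat_lit 7],
  [nat_lit 8, nat_lit 7, nat_lit 3, nat_lit 5, nat_lit 4, nat_lit 3, nat_lit 1, nat_lit 2, nat_lit 3, nat_lit 8, nat_lit 7, nat_lit 3, nat_lit 5, nat_lit 4, nat_lit 3, nat_lit 1, nat_lit 2, nat_lit 3, nat_lit 8, nat_lit 7, nat_lit 3, nat_lit 5, nat_lit 4, nat_lit 3, nat_lit 1, nat_lit 2, nat_lit 3, nat_lit 8, nat_lit 7, nat_lit 3, nat_lit 5, nat_lit 4, nat_lit 3, nat_lit 1, nat_lit 2, nat_lit 3, nat_lit 8, nat_lit 7, nat_lit 3, nat_lit 5, nat_lit 4, nat_lit 3, nat_lit 1, nat_lit 2, nat_lit 3, nat_lit 8, nat_lit 7, nat_lit 3, nat_lit 5, nat_lit 4, nat_lit 3, nat_lit 1, nat_lit 2, nat_lit 3, nat_lit 8, nat_lit 7, nat_lit 3, nat_lit 5, nat_lit 4, nat_lit 3, nat_lit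 1, nat_lit 2, nat_lit 3, nat_lit 8, nat_lit 7, nat_lit 3, nat_lit 5, nat_lit 4, nat_lit 3, nat_lit 1, nat_lit 2, nat_lit 3, nat_lit 8, nat_lit 7, nat_lit 3, nat_lit 5, nat_lit 4, nat_lit 3, nat_lit 1, nat_lit 2, nat_lit 3, nat_lit 8, nat_lit 7, nat_lit 3, nat_lit 5, nat_lit 4, nat_lit 3, nat_lit 1, nat_lit 2, nat_lit 3],
  [nat_lit 7, nat_lit 5, nat_lit 4, nat_lit 3, nat_lit 2, nat_lit 1, nat_lit 0, nat_lit 7, nat_lit 5, nat_lit 4, nat_lit 3, nat_lit 2, nat_lit 1, nat_lit 0, nat_lit 7, nat_lit 5, nat_lit 4, nat_lit 3, nat_lit 2, nat_lit 1, nat_lit 0, nat_lit 7, nat_lit 5, nat_lit 4, nat_lit 3, nat_lit 2, nat_lit 1, nat_lit 0, nat_lit 7, nat_lit 5, nat_lit 4, nat_lit 3, nat_lit 2, nat_lit 1, nat_lit 0, nat_lit 7, nat_lit 5, nat_lit 4, nat_lit 3, nat_lit 2, nat_lit 1, nat_lit 0, nat_lit 7, nat_lit 5, nat_lit 4, nat_lit 3, nat_lit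 2, nat_lit 1, nat_lit 0, nat_lit 7, nat_lit 5, nat_lit 4, nat_lit 3, nat_lit 2, nat_lit 1, nat_lit 0, nat_lit 7, nat_lit 5, nat_lit 4, nat_lit 3, nat_lit 2, nat_lit 1, nat_lit 0],
  [nat_lit 7, nat_lit 6, nat_lit 5, nat_lit 4, nat_lit 3, nat_lit 2, nat_lit 1, nat_lit 7, nat_lit 6, nat_lit 5, nat_lit 4, nat_lit 3, nat_lit 2, nat_lit 1, nat_lit 7, nat_lit 6, nat_lit 5, nat_lit 4, nat_lit 3, nat_lit 2, nat_lit 1, nat_lit 7, nat_lit 6, nat_lit 5, nat_lit 4, nat_lit 3, nat_lit 2, nat_lit 1, nat_lit 7, nat_lit 6, nat_lit 5, nat_lit 4, nat_lit 3, nat_lit 2, nat_lit 1, nat_lit 7, nat_lit 6, nat_lit 5, nat_lit 4, nat_lit 3, nat_lit 2, nat_lit 1, nat_lit 7, nat_lit 6, nat_lit 5, nat_lit 4, nat_lit 3, nat_lit 2, nat_lit 1, nat_lit 7, nat_lit 6, nat_lit 5, nat_lit 4, nat_lit 3, nat_lit 2, nat_lit 1, nat_lit 7, nat_lit 6, nat_lit 5, nat_lit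 4, nat_lit 3, nat_lit 2, nat_lit 1],
  [nat_lit 1, nat_lit 9, nat_lit 8, nat_lit 9],
  [nat_lit 2, nat_lit 9, nat_lit 7, nat_lit 9],
  [nat_lit 3, nat_lit 9, nat_lit 3, nat_lit 9],
  [nat_lit 4, nat_lit 9, nat_lit 4, nat_lit 9],
  [nat_lit 5, nat_lit 9, nat_lit 5, nat_lit 9],
  [nat_lit 6, nat_lit 9, nat_lit 6, nat_lit 9],
  [nat_lit 7, nat_lit 9, nat_lit 2, nat_lit 9],
  [nat_lit 8, nat_lit 9, nat_lit 1, nat_lit 9],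
  [nat_lit 9, nat_lit 0, nat_lit 9, nat_lit 0, nat_lit 9, nat_lit 0, nat_lit 9, nat_lit 0]]
noncomputable def U1 : List (List ℕ) := [[nat_lit 0],
  [nat_lit 1],
  [nat_lit 2],
  [nat_lit 3],
  [nat_lit 7],
  [nat_lit 8],
  [nat_lit 9, nat_lit 0, nat_lit 9],
  [nat_lit 4],
  [nat_lit 5],
  [nat_lit 9]]
noncomputable def E1 : List (List ℕ) := [[nat_lit 5, nat_lit 4, nat_lit 3, nat_lit 8, nat_lit 7, nat_lit 3, nat_lit 1, nat_lit 2, nat_lit 3, nat_lit 5, nat_lit 4, nat_lit 3, nat_lit 8, nat_lit 7, nat_lit 3, nat_lit 1, nat_lit 2, nat_lit 3, nat_lit 5, nat_lit 4, nat_lit 3, nat_lit 8, nat_lit 7, nat_lit 3, nat_lit 1, nat_lit 2, nat_lit 3, nat_lit 5, nat_lit 4, nat_lit 3, nat_lit 8, nat_lit 7, nat_lit 3, nat_lit 1, nat_lit 2, nat_lit 3, nat_lit 5, nat_lit 4, nat_lit 3, nat_lit 8, nat_lit 7, nat_lit 3, nat_lit 1, nat_lit 2, nat_lit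 3, nat_lit 5, nat_lit 4, nat_lit 3, nat_lit 8, nat_lit 7, nat_lit 3, nat_lit 1, nat_lit 2, nat_lit 3, nat_lit 5, nat_lit 4, nat_lit 3, nat_lit 8, nat_lit 7, nat_lit 3, nat_lit 1, nat_lit 2, nat_lit 3, nat_lit 5, nat_lit 4, nat_lit 3, nat_lit 8, nat_lit 7, nat_lit 3, nat_lit 1, nat_lit 2, nat_lit 3, nat_lit 5, nat_lit 4, nat_lit 3, nat_lit 8, nat_lit 7, nat_lit 3, nat_lit 1, nat_lit 2, nat_lit 3, nat_lit 5, nat_lit 4, nat_lit 3, nat_lit 8, nat_lit 7, nat_lit 3, nat_lit 1, nat_lit 2, nat_lit 3],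
  [nat_lit 4, nat_lit 8, nat_lit 7, nat_lit 3, nat_lit 2, nat_lit 1, nat_lit 0, nat_lit 4, nat_lit 8, nat_lit 7, nat_lit 3, nat_lit 2, nat_lit 1, nat_lit 0, nat_lit 4, nat_lit 8, nat_lit 7, nat_lit 3, nat_lit 2, nat_lit 1, nat_lit 0, nat_lit 4, nat_lit 8, nat_lit 7, nat_lit 3, nat_lit 2, nat_lit 1, nat_lit 0, nat_lit 4, nat_lit 8, nat_lit 7, nat_lit 3, nat_lit 2, nat_lit 1, nat_lit 0, nat_lit 4, nat_lit 8, nat_lit 7, nat_lit 3, nat_lit 2, nat_lit 1, nat_lit 0, nat_lit 4, nat_lit 8, nat_lit 7, nat_lit 3, nat_lit 2, nat_lit 1, nat_lit 0, nat_lit 4, nat_lit 8, nat_lit 7, nat_lit 3, nat_lit 2, nat_lit 1, nat_lit 0, nat_lit 4, nat_lit 8, nat_lit 7, nat_lit 3, nat_lit 2, nat_lit 1, nat_lit 0],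
  [nat_lit 4, nat_lit 0, nat_lit 1, nat_lit 2, nat_lit 3, nat_lit 7, nat_lit 8, nat_lit 4, nat_lit 0, nat_lit 1, nat_lit 2, nat_lit 3, nat_lit 7, nat_lit 8, nat_lit 4, nat_lit 0, nat_lit 1, nat_lit 2, nat_lit 3, nat_lit 7, nat_lit 8, nat_lit 4, nat_lit 0, nat_lit 1, nat_lit 2, nat_lit 3, nat_lit 7, nat_lit 8, nat_lit 4, nat_lit 0, nat_lit 1, nat_lit 2, nat_lit 3, nat_lit 7, nat_lit 8, nat_lit 4, nat_lit 0, nat_lit 1, nat_lit 2, nat_lit 3, nat_lit 7, nat_lit 8, nat_lit 4, nat_lit 0, nat_lit 1, nat_lit 2, nat_lit 3, nat_lit 7, nat_lit 8, nat_lit 4, nat_lit 0, nat_lit 1, nat_lit 2, nat_lit 3, nat_lit 7, nat_lit 8, nat_lit 4, nat_lit 0, nat_lit 1, nat_lit 2, nat_lit 3, nat_lit 7, nat_lit 8]]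
noncomputable def N1 : List (List ℕ) := [[nat_lit 0, nat_lit 0],
  [nat_lit 1, nat_lit 1],
  [nat_lit 2, nat_lit 2],
  [nat_lit 3, nat_lit 3],
  [nat_lit 4, nat_lit 4],
  [nat_lit 5, nat_lit 5],
  [nat_lit 6, nat_lit 6],
  [nat_lit 7, nat_lit 7],
  [nat_lit 8, nat_lit 8],
  [nat_lit 1, nat_lit 0, nat_lit 1, nat_lit 0, nat_lit 1, nat_lit 0],
  [nat_lit 2, nat_lit 0, nat_lit 2, nat_lit 0],
  [nat_lit 2, nat_lit 1, nat_lit 2, nat_lit 1, nat_lit 2, nat_lit 1],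
  [nat_lit 3, nat_lit 0, nat_lit 3, nat_lit 0],
  [nat_lit 3, nat_lit 1, nat_lit 3, nat_lit 1],
  [nat_lit 3, nat_lit 2, nat_lit 3, nat_lit 2, nat_lit 3, nat_lit 2],
  [nat_lit 4, nat_lit 0, nat_lit 4, nat_lit 0],
  [nat_lit 4, nat_lit 1, nat_lit 4, nat_lit 1],
  [nat_lit 4, nat_lit 2, nat_lit 4, nat_lit 2],
  [nat_lit 4, nat_lit 3, nat_lit 4, nat_lit 3, nat_lit 4, nat_lit 3],
  [nat_lit 5, nat_lit 0, nat_lit 5, nat_lit 0],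
  [nat_lit 5, nat_lit 1, nat_lit 5, nat_lit 1],
  [nat_lit 5, nat_lit 2, nat_lit 5, nat_lit 2],
  [nat_lit 5, nat_lit 3, nat_lit 5, nat_lit 3],
  [nat_lit 5, nat_lit 4, nat_lit 5, nat_lit 4, nat_lit 5, nat_lit 4],
  [nat_lit 6, nat_lit 0, nat_lit 6, nat_lit 0],
  [nat_lit 6, nat_lit 1, nat_lit 6, nat_lit 1],
  [nat_lit 6, nat_lit 2, nat_lit 6, nat_lit 2],
  [nat_lit 6, nat_lit 3, nat_lit 6, nat_lit 3],
  [nat_lit 6, nat_lit 4, nat_lit 6, nat_lit 4],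
  [nat_lit 6, nat_lit 5, nat_lit 6, nat_lit 5, nat_lit 6, nat_lit 5],
  [nat_lit 7, nat_lit 0, nat_lit 7, nat_lit 0],
  [nat_lit 7, nat_lit 1, nat_lit 7, nat_lit 1],
  [nat_lit 7, nat_lit 2, nat_lit 7, nat_lit 2],
  [nat_lit 7, nat_lit 3, nat_lit 7, nat_lit 3, nat_lit 7, nat_lit 3],
  [nat_lit 7, nat_lit 4, nat_lit 7, nat_lit 4],
  [nat_lit 7, nat_lit 5, nat_lit 7, nat_lit 5],
  [nat_lit 7, nat_lit 6, nat_lit 7, nat_lit 6],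
  [nat_lit 8, nat_lit 0, nat_lit 8, nat_lit 0],
  [nat_lit 8, nat_lit 1, nat_lit 8, nat_lit 1],
  [nat_lit 8, nat_lit 2, nat_lit 8, nat_lit 2],
  [nat_lit 8, nat_lit 3, nat_lit 8, nat_lit 3],
  [nat_lit 8, nat_lit 4, nat_lit 8, nat_lit 4],
  [nat_lit 8, nat_lit 5, nat_lit 8, nat_lit 5],
  [nat_lit 8, nat_lit 6, nat_lit 8, nat_lit 6],
  [nat_lit 8, nat_lit 7, nat_lit 8, nat_lit 7, nat_lit 8, nat_lit 7],
  [nat_lit 8, nat_lit 7, nat_lit 3, nat_lit 5, nat_lit 4, nat_lit 3, nat_lit 1, nat_lit 2, nat_lit 3, nat_lit 8, nat_lit 7, nat_lit 3, nat_lit 5, nat_lit 4, nat_lit 3, nat_lit 1, nat_lit 2, nat_lit 3, nat_lit 8, nat_lit 7, nat_lit 3, nat_lit 5, nat_lit 4, nat_lit 3, nat_lit 1, nat_lit 2, nat_lit 3, nat_lit 8, nat_lit 7, nat_lit 3, nat_lit 5, nat_lit 4, nat_lit 3, nat_lit 1, nat_lit 2, nat_lit 3, nat_lit 8, nat_lit 7, nat_lit 3,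 nat_lit 5, nat_lit 4, nat_lit 3, nat_lit 1, nat_lit 2, nat_lit 3, nat_lit 8, nat_lit 7, nat_lit 3, nat_lit 5, nat_lit 4, nat_lit 3, nat_lit 1, nat_lit 2, nat_lit 3, nat_lit 8, nat_lit 7, nat_lit 3, nat_lit 5, nat_lit 4, nat_lit 3, nat_lit 1, nat_lit 2, nat_lit 3, nat_lit 8, nat_lit 7, nat_lit 3, nat_lit 5, nat_lit 4, nat_lit 3, nat_lit 1, nat_lit 2, nat_lit 3, nat_lit 8, nat_lit 7, nat_lit 3, nat_lit 5, nat_lit 4, nat_lit 3, nat_lit 1, nat_lit 2, nat_lit 3, nat_lit 8, nat_lit 7, nat_lit 3, nat_lit 5, nat_lit 4, nat_lit 3, nat_lit 1, nat_lit 2, nat_lit 3],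
  [nat_lit 7, nat_lit 5, nat_lit 4, nat_lit 3, nat_lit 2, nat_lit 1, nat_lit 0, nat_lit 7, nat_lit 5, nat_lit 4, nat_lit 3, nat_lit 2, nat_lit 1, nat_lit 0, nat_lit 7, nat_lit 5, nat_lit 4, nat_lit 3, nat_lit 2, nat_lit 1, nat_lit 0, nat_lit 7, nat_lit 5, nat_lit 4, nat_lit 3, nat_lit 2, nat_lit 1, nat_lit 0, nat_lit 7, nat_lit 5, nat_lit 4, nat_lit 3, nat_lit 2, nat_lit 1, nat_lit 0, nat_lit 7, nat_lit 5, nat_lit 4, nat_lit 3, nat_lit 2, nat_lit 1, nat_lit 0, nat_lit 7, nat_lit 5, nat_lit 4, nat_lit 3, nat_lit 2, nat_lit 1, nat_lit 0, nat_lit 7, nat_lit 5, nat_lit 4, nat_lit 3, nat_lit 2, nat_lit 1, nat_lit 0, nat_lit 7, nat_lit 5, nat_lit 4, nat_lit 3, nat_lit 2, nat_lit 1, nat_lit 0],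
  [nat_lit 7, nat_lit 6, nat_lit 5, nat_lit 4, nat_lit 3, nat_lit 2, nat_lit 1, nat_lit 7, nat_lit 6, nat_lit 5, nat_lit 4, nat_lit 3, nat_lit 2, nat_lit 1, nat_lit 7, nat_lit 6, nat_lit 5, nat_lit 4, nat_lit 3, nat_lit 2, nat_lit 1, nat_lit 7, nat_lit 6, nat_lit 5, nat_lit 4, nat_lit 3, nat_lit 2, nat_lit 1, nat_lit 7, nat_lit 6, nat_lit 5, nat_lit 4, nat_lit 3, nat_lit 2, nat_lit 1, nat_lit 7, nat_lit 6, nat_lit 5, nat_lit 4, nat_lit 3, nat_lit 2, nat_lit 1, nat_lit 7, nat_lit 6, nat_lit 5, nat_lit 4, nat_lit 3, nat_lit 2, nat_lit 1, nat_lit 7, nat_lit 6, nat_lit 5, nat_lit 4, nat_lit 3, nat_lit 2, nat_lit 1, nat_lit 7, nat_lit 6, nat_lit 5, nat_lit 4, nat_lit 3, nat_lit 2, nat_lit 1],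
  [nat_lit 9, nat_lit 9],
  [nat_lit 9, nat_lit 0, nat_lit 9, nat_lit 6],
  [nat_lit 9, nat_lit 1, nat_lit 9, nat_lit 5],
  [nat_lit 9, nat_lit 2, nat_lit 9, nat_lit 4],
  [nat_lit 9, nat_lit 3, nat_lit 9, nat_lit 3],
  [nat_lit 9, nat_lit 4, nat_lit 9, nat_lit 2],
  [nat_lit 9, nat_lit 5, nat_lit 9, nat_lit 1],
  [nat_lit 9, nat_lit 6, nat_lit 9, nat_lit 0],
  [nat_lit 9, nat_lit 7, nat_lit 9, nat_lit 7],
  [nat_lit 9, nat_lit 8, nat_lit 9, nat_lit 8]]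
theorem s1 : subW (P1 ++ E1) (nat_lit 10) U1 N1
  [[],
  [],
  [],
  [],
  [],
  [],
  [],
  [],
  [],
  [([], (nat_lit 21))],
  [([], (nat_lit 23))],
  [([], (nat_lit 25))],
  [([], (nat_lit 27))],
  [([], (nat_lit 29))],
  [([], (nat_lit 31))],
  [([], (nat_lit 63))],
  [([], (nat_lit 65))],
  [([], (nat_lit 67))],
  [([], (nat_lit 69))],
  [([], (nat_lit 77))],
  [([], (nat_lit 79))],
  [([], (nat_lit 81))],
  [([], (nat_lit 83))],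
  [([], (nat_lit 91))],
  [([], (nat_lit 115))],
  [([nat_lit 9, nat_lit 8], (nat_lit 77)), ([nat_lit 9, nat_lit 0, nat_lit 8, nat_lit 0, nat_lit 8, nat_lit 9, nat_lit 1], (nat_lit 99)), ([nat_lit 9, nat_lit 0, nat_lit 8, nat_lit 9, nat_lit 1], (nat_lit 99))],
  [([nat_lit 9, nat_lit 7], (nat_lit 63)), ([nat_lit 9, nat_lit 0, nat_lit 7, nat_lit 0, nat_lit 7, nat_lit 9, nat_lit 2], (nat_lit 101)), ([nat_lit 9, nat_lit 0, nat_lit 7, nat_lit 9, nat_lit 2], (nat_lit 101))],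
  [([nat_lit 9, nat_lit 3], (nat_lit 27)), ([nat_lit 9, nat_lit 0, nat_lit 3, nat_lit 0, nat_lit 3], (nat_lit 103)), ([nat_lit 9, nat_lit 0, nat_lit 3], (nat_lit 103))],
  [([nat_lit 9, nat_lit 2], (nat_lit 23)), ([nat_lit 9, nat_lit 0, nat_lit 2, nat_lit 0, nat_lit 2], (nat_lit 101)), ([nat_lit 9, nat_lit 0, nat_lit 2], (nat_lit 101))],
  [([nat_lit 9, nat_lit 1], (nat_lit 21)), ([nat_lit 9, nat_lit 0, nat_lit 1, nat_lit 0, nat_lit 1, nat_lit 0, nat_lit 1], (nat_lit 99)), ([nat_lit 9, nat_lit 0, nat_lit 1, nat_lit 0, nat_lit 1], (nat_lit 99)), ([nat_lit 9, nat_lit 0, nat_lit 1], (nat_lit 99))],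
  [([], (nat_lit 33))],
  [([], (nat_lit 35))],
  [([], (nat_lit 37))],
  [([], (nat_lit 39))],
  [([nat_lit 7], (nat_lit 71))],
  [([nat_lit 8], (nat_lit 85))],
  [([nat_lit 9], (nat_lit 33)), ([nat_lit 9, nat_lit 4, nat_lit 0, nat_lit 4], (nat_lit 105)), ([], (nat_lit 105))],
  [([], (nat_lit 41))],
  [([], (nat_lit 43))],
  [([], (nat_lit 45))],
  [([], (nat_lit 47))],
  [([nat_lit 7], (nat_lit 73))],
  [([nat_lit 8], (nat_lit 87))],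
  [([nat_lit 9], (nat_lit 41)), ([nat_lit 9, nat_lit 5, nat_lit 0, nat_lit 5], (nat_lit 107)), ([], (nat_lit 107))],
  [([], (nat_lit 49))],
  [([], (nat_lit 117))],
  [([], (nat_lit 119))],
  [([nat_lit 9, nat_lit 8, nat_lit 7, nat_lit 3, nat_lit 2, nat_lit 1, nat_lit 0], (nat_lit 118)), ([nat_lit 9, nat_lit 4, nat_lit 0, nat_lit 1, nat_lit 2, nat_lit 3, nat_lit 7, nat_lit 8, nat_lit 4, nat_lit 0, nat_lit 1, nat_lit 2, nat_lit 3, nat_lit 7, nat_lit 8, nat_lit 4, nat_lit 0, nat_lit 1, nat_lit 2, nat_lit 3, nat_lit 7, nat_lit 8, nat_lit 4, nat_lit 0, nat_lit 1, nat_lit 2, nat_lit 3, nat_lit 7, nat_lit 8, nat_lit 4, nat_lit 0, nat_lit 1, nat_lit 2, nat_lit 3, nat_lit 7, nat_lit 8, nat_lit 4, nat_lit 0, nat_lit 1, nat_lit 2, nat_lit 3, nat_lit 7, nat_lit 8, nat_lit 4, nat_lit 0, nat_lit 1, nat_lit 2, nat_lit 3, nat_lit 7, nat_lit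 8, nat_lit 4, nat_lit 0, nat_lit 1, nat_lit 2, nat_lit 3, nat_lit 7, nat_lit 8, nat_lit 4, nat_lit 0, nat_lit 1, nat_lit 2, nat_lit 3, nat_lit 7, nat_lit 8, nat_lit 9, nat_lit 1], (nat_lit 99)), ([nat_lit 9, nat_lit 4, nat_lit 0, nat_lit 1, nat_lit 2, nat_lit 3, nat_lit 7, nat_lit 8, nat_lit 4, nat_lit 0, nat_lit 1, nat_lit 2, nat_lit 3, nat_lit 7, nat_lit 8, nat_lit 4, nat_lit 0, nat_lit 1, nat_lit 2, nat_lit 3, nat_lit 7, nat_lit 8, nat_lit 4, nat_lit 0, nat_lit 1, nat_lit 2, nat_lit 3, nat_lit 7, nat_lit 8, nat_lit 4, nat_lit 0, nat_lit 1, nat_lit 2, nat_lit 3, nat_lit 7, nat_lit 8, nat_lit 4, nat_lit 0, nat_lit 1, nat_lit 2, nat_lit 3, nat_lit 7, nat_lit 8, nat_lit 4, nat_lit 0, nat_lit 1, nat_lit 2, nat_lit 3, nat_lit 7, nat_lit 8, nat_lit 4, nat_lit 0, nat_lit 1, nat_lit 2, nat_lit 3, nat_lit 7, nat_lit 8, nat_lit 4, nat_lit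 0, nat_lit 1, nat_lit 2, nat_lit 3, nat_lit 7, nat_lit 9, nat_lit 2], (nat_lit 101)), ([nat_lit 9, nat_lit 4, nat_lit 0, nat_lit 1, nat_lit 2, nat_lit 3, nat_lit 7, nat_lit 8, nat_lit 4, nat_lit 0, nat_lit 1, nat_lit 2, nat_lit 3, nat_lit 7, nat_lit 8, nat_lit 4, nat_lit 0, nat_lit 1, nat_lit 2, nat_lit 3, nat_lit 7, nat_lit 8, nat_lit 4, nat_lit 0, nat_lit 1, nat_lit 2, nat_lit 3, nat_lit 7, nat_lit 8, nat_lit 4, nat_lit 0, nat_lit 1, nat_lit 2, nat_lit 3, nat_lit 7, nat_lit 8, nat_lit 4, nat_lit 0, nat_lit 1, nat_lit 2, nat_lit 3, nat_lit 7, nat_lit 8, nat_lit 4, nat_lit 0, nat_lit 1, nat_lit 2, nat_lit 3, nat_lit 7, nat_lit 8, nat_lit 4, nat_lit 0, nat_lit 1, nat_lit 2, nat_lit 3, nat_lit 7, nat_lit 8, nat_lit 4, nat_lit 0, nat_lit 1, nat_lit 2, nat_lit 3], (nat_lit 103)), ([nat_lit 9, nat_lit 4, nat_lit 0, nat_lit 1, nat_lit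 2, nat_lit 3, nat_lit 7, nat_lit 8, nat_lit 4, nat_lit 0, nat_lit 1, nat_lit 2, nat_lit 3, nat_lit 7, nat_lit 8, nat_lit 4, nat_lit 0, nat_lit 1, nat_lit 2, nat_lit 3, nat_lit 7, nat_lit 8, nat_lit 4, nat_lit 0, nat_lit 1, nat_lit 2, nat_lit 3, nat_lit 7, nat_lit 8, nat_lit 4, nat_lit 0, nat_lit 1, nat_lit 2, nat_lit 3, nat_lit 7, nat_lit 8, nat_lit 4, nat_lit 0, nat_lit 1, nat_lit 2, nat_lit 3, nat_lit 7, nat_lit 8, nat_lit 4, nat_lit 0, nat_lit 1, nat_lit 2, nat_lit 3, nat_lit 7, nat_lit 8, nat_lit 4, nat_lit 0, nat_lit 1, nat_lit 2, nat_lit 3, nat_lit 7, nat_lit 8, nat_lit 4, nat_lit 0, nat_lit 1, nat_lit 2], (nat_lit 101)), ([nat_lit 9, nat_lit 4, nat_lit 0, nat_lit 1, nat_lit 2, nat_lit 3, nat_lit 7, nat_lit 8, nat_lit 4, nat_lit 0, nat_lit 1, nat_lit 2, nat_lit 3, nat_lit 7, nat_lit 8, nat_lit 4, nat_lit 0, nat_lit 1,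 nat_lit 2, nat_lit 3, nat_lit 7, nat_lit 8, nat_lit 4, nat_lit 0, nat_lit 1, nat_lit 2, nat_lit 3, nat_lit 7, nat_lit 8, nat_lit 4, nat_lit 0, nat_lit 1, nat_lit 2, nat_lit 3, nat_lit 7, nat_lit 8, nat_lit 4, nat_lit 0, nat_lit 1, nat_lit 2, nat_lit 3, nat_lit 7, nat_lit 8, nat_lit 4, nat_lit 0, nat_lit 1, nat_lit 2, nat_lit 3, nat_lit 7, nat_lit 8, nat_lit 4, nat_lit 0, nat_lit 1, nat_lit 2, nat_lit 3, nat_lit 7, nat_lit 8, nat_lit 4, nat_lit 0, nat_lit 1], (nat_lit 99)), ([nat_lit 9, nat_lit 4, nat_lit 0, nat_lit 1, nat_lit 2, nat_lit 3, nat_lit 7, nat_lit 8, nat_lit 4, nat_lit 0, nat_lit 1, nat_lit 2, nat_lit 3, nat_lit 7, nat_lit 8, nat_lit 4, nat_lit 0, nat_lit 1, nat_lit 2, nat_lit 3, nat_lit 7, nat_lit 8, nat_lit 4, nat_lit 0, nat_lit 1, nat_lit 2, nat_lit 3, nat_lit 7, nat_lit 8, nat_lit 4, nat_lit 0, nat_lit 1, nat_lit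 2, nat_lit 3, nat_lit 7, nat_lit 8, nat_lit 4, nat_lit 0, nat_lit 1, nat_lit 2, nat_lit 3, nat_lit 7, nat_lit 8, nat_lit 4, nat_lit 0, nat_lit 1, nat_lit 2, nat_lit 3, nat_lit 7, nat_lit 8, nat_lit 4, nat_lit 0, nat_lit 1, nat_lit 2, nat_lit 3, nat_lit 7, nat_lit 8, nat_lit 4], (nat_lit 105)), ([nat_lit 9, nat_lit 4, nat_lit 0, nat_lit 1, nat_lit 2, nat_lit 3, nat_lit 7, nat_lit 8, nat_lit 4, nat_lit 0, nat_lit 1, nat_lit 2, nat_lit 3, nat_lit 7, nat_lit 8, nat_lit 4, nat_lit 0, nat_lit 1, nat_lit 2, nat_lit 3, nat_lit 7, nat_lit 8, nat_lit 4, nat_lit 0, nat_lit 1, nat_lit 2, nat_lit 3, nat_lit 7, nat_lit 8, nat_lit 4, nat_lit 0, nat_lit 1, nat_lit 2, nat_lit 3, nat_lit 7, nat_lit 8, nat_lit 4, nat_lit 0, nat_lit 1, nat_lit 2, nat_lit 3, nat_lit 7, nat_lit 8, nat_lit 4, nat_lit 0, nat_lit 1, nat_lit 2, nat_lit 3, nat_lit 7,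 nat_lit 8, nat_lit 4, nat_lit 0, nat_lit 1, nat_lit 2, nat_lit 3, nat_lit 7, nat_lit 8, nat_lit 9, nat_lit 1], (nat_lit 99)), ([nat_lit 9, nat_lit 4, nat_lit 0, nat_lit 1, nat_lit 2, nat_lit 3, nat_lit 7, nat_lit 8, nat_lit 4, nat_lit 0, nat_lit 1, nat_lit 2, nat_lit 3, nat_lit 7, nat_lit 8, nat_lit 4, nat_lit 0, nat_lit 1, nat_lit 2, nat_lit 3, nat_lit 7, nat_lit 8, nat_lit 4, nat_lit 0, nat_lit 1, nat_lit 2, nat_lit 3, nat_lit 7, nat_lit 8, nat_lit 4, nat_lit 0, nat_lit 1, nat_lit 2, nat_lit 3, nat_lit 7, nat_lit 8, nat_lit 4, nat_lit 0, nat_lit 1, nat_lit 2, nat_lit 3, nat_lit 7, nat_lit 8, nat_lit 4, nat_lit 0, nat_lit 1, nat_lit 2, nat_lit 3, nat_lit 7, nat_lit 8, nat_lit 4, nat_lit 0, nat_lit 1, nat_lit 2, nat_lit 3, nat_lit 7, nat_lit 9, nat_lit 2], (nat_lit 101)), ([nat_lit 9, nat_lit 4, nat_lit 0, nat_lit 1, nat_lit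 2, nat_lit 3, nat_lit 7, nat_lit 8, nat_lit 4, nat_lit 0, nat_lit 1, nat_lit 2, nat_lit 3, nat_lit 7, nat_lit 8, nat_lit 4, nat_lit 0, nat_lit 1, nat_lit 2, nat_lit 3, nat_lit 7, nat_lit 8, nat_lit 4, nat_lit 0, nat_lit 1, nat_lit 2, nat_lit 3, nat_lit 7, nat_lit 8, nat_lit 4, nat_lit 0, nat_lit 1, nat_lit 2, nat_lit 3, nat_lit 7, nat_lit 8, nat_lit 4, nat_lit 0, nat_lit 1, nat_lit 2, nat_lit 3, nat_lit 7, nat_lit 8, nat_lit 4, nat_lit 0, nat_lit 1, nat_lit 2, nat_lit 3, nat_lit 7, nat_lit 8, nat_lit 4, nat_lit 0, nat_lit 1, nat_lit 2, nat_lit 3], (nat_lit 103)), ([nat_lit 9, nat_lit 4, nat_lit 0, nat_lit 1, nat_lit 2, nat_lit 3, nat_lit 7, nat_lit 8, nat_lit 4, nat_lit 0, nat_lit 1, nat_lit 2, nat_lit 3, nat_lit 7, nat_lit 8, nat_lit 4, nat_lit 0, nat_lit 1, nat_lit 2, nat_lit 3, nat_lit 7, nat_lit 8, nat_lit 4, nat_lit 0,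 nat_lit 1, nat_lit 2, nat_lit 3, nat_lit 7, nat_lit 8, nat_lit 4, nat_lit 0, nat_lit 1, nat_lit 2, nat_lit 3, nat_lit 7, nat_lit 8, nat_lit 4, nat_lit 0, nat_lit 1, nat_lit 2, nat_lit 3, nat_lit 7, nat_lit 8, nat_lit 4, nat_lit 0, nat_lit 1, nat_lit 2, nat_lit 3, nat_lit 7, nat_lit 8, nat_lit 4, nat_lit 0, nat_lit 1, nat_lit 2], (nat_lit 101)), ([nat_lit 9, nat_lit 4, nat_lit 0, nat_lit 1, nat_lit 2, nat_lit 3, nat_lit 7, nat_lit 8, nat_lit 4, nat_lit 0, nat_lit 1, nat_lit 2, nat_lit 3, nat_lit 7, nat_lit 8, nat_lit 4, nat_lit 0, nat_lit 1, nat_lit 2, nat_lit 3, nat_lit 7, nat_lit 8, nat_lit 4, nat_lit 0, nat_lit 1, nat_lit 2, nat_lit 3, nat_lit 7, nat_lit 8, nat_lit 4, nat_lit 0, nat_lit 1, nat_lit 2, nat_lit 3, nat_lit 7, nat_lit 8, nat_lit 4, nat_lit 0, nat_lit 1, nat_lit 2, nat_lit 3, nat_lit 7, nat_lit 8, nat_lit 4, nat_lit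 0, nat_lit 1, nat_lit 2, nat_lit 3, nat_lit 7, nat_lit 8, nat_lit 4, nat_lit 0, nat_lit 1], (nat_lit 99)), ([nat_lit 9, nat_lit 4, nat_lit 0, nat_lit 1, nat_lit 2, nat_lit 3, nat_lit 7, nat_lit 8, nat_lit 4, nat_lit 0, nat_lit 1, nat_lit 2, nat_lit 3, nat_lit 7, nat_lit 8, nat_lit 4, nat_lit 0, nat_lit 1, nat_lit 2, nat_lit 3, nat_lit 7, nat_lit 8, nat_lit 4, nat_lit 0, nat_lit 1, nat_lit 2, nat_lit 3, nat_lit 7, nat_lit 8, nat_lit 4, nat_lit 0, nat_lit 1, nat_lit 2, nat_lit 3, nat_lit 7, nat_lit 8, nat_lit 4, nat_lit 0, nat_lit 1, nat_lit 2, nat_lit 3, nat_lit 7, nat_lit 8, nat_lit 4, nat_lit 0, nat_lit 1, nat_lit 2, nat_lit 3, nat_lit 7, nat_lit 8, nat_lit 4], (nat_lit 105)), ([nat_lit 9, nat_lit 4, nat_lit 0, nat_lit 1, nat_lit 2, nat_lit 3, nat_lit 7, nat_lit 8, nat_lit 4, nat_lit 0, nat_lit 1, nat_lit 2, nat_lit 3, nat_lit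 7, nat_lit 8, nat_lit 4, nat_lit 0, nat_lit 1, nat_lit 2, nat_lit 3, nat_lit 7, nat_lit 8, nat_lit 4, nat_lit 0, nat_lit 1, nat_lit 2, nat_lit 3, nat_lit 7, nat_lit 8, nat_lit 4, nat_lit 0, nat_lit 1, nat_lit 2, nat_lit 3, nat_lit 7, nat_lit 8, nat_lit 4, nat_lit 0, nat_lit 1, nat_lit 2, nat_lit 3, nat_lit 7, nat_lit 8, nat_lit 4, nat_lit 0, nat_lit 1, nat_lit 2, nat_lit 3, nat_lit 7, nat_lit 8, nat_lit 9, nat_lit 1], (nat_lit 99)), ([nat_lit 9, nat_lit 4, nat_lit 0, nat_lit 1, nat_lit 2, nat_lit 3, nat_lit 7, nat_lit 8, nat_lit 4, nat_lit 0, nat_lit 1, nat_lit 2, nat_lit 3, nat_lit 7, nat_lit 8, nat_lit 4, nat_lit 0, nat_lit 1, nat_lit 2, nat_lit 3, nat_lit 7, nat_lit 8, nat_lit 4, nat_lit 0, nat_lit 1, nat_lit 2, nat_lit 3, nat_lit 7, nat_lit 8, nat_lit 4, nat_lit 0, nat_lit 1, nat_lit 2, nat_lit 3, nat_lit 7, nat_lit 8, nat_lit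 4, nat_lit 0, nat_lit 1, nat_lit 2, nat_lit 3, nat_lit 7, nat_lit 8, nat_lit 4, nat_lit 0, nat_lit 1, nat_lit 2, nat_lit 3, nat_lit 7, nat_lit 9, nat_lit 2], (nat_lit 101)), ([nat_lit 9, nat_lit 4, nat_lit 0, nat_lit 1, nat_lit 2, nat_lit 3, nat_lit 7, nat_lit 8, nat_lit 4, nat_lit 0, nat_lit 1, nat_lit 2, nat_lit 3, nat_lit 7, nat_lit 8, nat_lit 4, nat_lit 0, nat_lit 1, nat_lit 2, nat_lit 3, nat_lit 7, nat_lit 8, nat_lit 4, nat_lit 0, nat_lit 1, nat_lit 2, nat_lit 3, nat_lit 7, nat_lit 8, nat_lit 4, nat_lit 0, nat_lit 1, nat_lit 2, nat_lit 3, nat_lit 7, nat_lit 8, nat_lit 4, nat_lit 0, nat_lit 1, nat_lit 2, nat_lit 3, nat_lit 7, nat_lit 8, nat_lit 4, nat_lit 0, nat_lit 1, nat_lit 2, nat_lit 3], (nat_lit 103)), ([nat_lit 9, nat_lit 4, nat_lit 0, nat_lit 1, nat_lit 2, nat_lit 3, nat_lit 7, nat_lit 8, nat_lit 4, nat_lit 0, nat_lit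 1, nat_lit 2, nat_lit 3, nat_lit 7, nat_lit 8, nat_lit 4, nat_lit 0, nat_lit 1, nat_lit 2, nat_lit 3, nat_lit 7, nat_lit 8, nat_lit 4, nat_lit 0, nat_lit 1, nat_lit 2, nat_lit 3, nat_lit 7, nat_lit 8, nat_lit 4, nat_lit 0, nat_lit 1, nat_lit 2, nat_lit 3, nat_lit 7, nat_lit 8, nat_lit 4, nat_lit 0, nat_lit 1, nat_lit 2, nat_lit 3, nat_lit 7, nat_lit 8, nat_lit 4, nat_lit 0, nat_lit 1, nat_lit 2], (nat_lit 101)), ([nat_lit 9, nat_lit 4, nat_lit 0, nat_lit 1, nat_lit 2, nat_lit 3, nat_lit 7, nat_lit 8, nat_lit 4, nat_lit 0, nat_lit 1, nat_lit 2, nat_lit 3, nat_lit 7, nat_lit 8, nat_lit 4, nat_lit 0, nat_lit 1, nat_lit 2, nat_lit 3, nat_lit 7, nat_lit 8, nat_lit 4, nat_lit 0, nat_lit 1, nat_lit 2, nat_lit 3, nat_lit 7, nat_lit 8, nat_lit 4, nat_lit 0, nat_lit 1, nat_lit 2, nat_lit 3, nat_lit 7, nat_lit 8, nat_lit 4, nat_lit 0,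 nat_lit 1, nat_lit 2, nat_lit 3, nat_lit 7, nat_lit 8, nat_lit 4, nat_lit 0, nat_lit 1], (nat_lit 99)), ([nat_lit 9, nat_lit 4, nat_lit 0, nat_lit 1, nat_lit 2, nat_lit 3, nat_lit 7, nat_lit 8, nat_lit 4, nat_lit 0, nat_lit 1, nat_lit 2, nat_lit 3, nat_lit 7, nat_lit 8, nat_lit 4, nat_lit 0, nat_lit 1, nat_lit 2, nat_lit 3, nat_lit 7, nat_lit 8, nat_lit 4, nat_lit 0, nat_lit 1, nat_lit 2, nat_lit 3, nat_lit 7, nat_lit 8, nat_lit 4, nat_lit 0, nat_lit 1, nat_lit 2, nat_lit 3, nat_lit 7, nat_lit 8, nat_lit 4, nat_lit 0, nat_lit 1, nat_lit 2, nat_lit 3, nat_lit 7, nat_lit 8, nat_lit 4], (nat_lit 105)), ([nat_lit 9, nat_lit 4, nat_lit 0, nat_lit 1, nat_lit 2, nat_lit 3, nat_lit 7, nat_lit 8, nat_lit 4, nat_lit 0, nat_lit 1, nat_lit 2, nat_lit 3, nat_lit 7, nat_lit 8, nat_lit 4, nat_lit 0, nat_lit 1, nat_lit 2, nat_lit 3, nat_lit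 7, nat_lit 8, nat_lit 4, nat_lit 0, nat_lit 1, nat_lit 2, nat_lit 3, nat_lit 7, nat_lit 8, nat_lit 4, nat_lit 0, nat_lit 1, nat_lit 2, nat_lit 3, nat_lit 7, nat_lit 8, nat_lit 4, nat_lit 0, nat_lit 1, nat_lit 2, nat_lit 3, nat_lit 7, nat_lit 8, nat_lit 9, nat_lit 1], (nat_lit 99)), ([nat_lit 9, nat_lit 4, nat_lit 0, nat_lit 1, nat_lit 2, nat_lit 3, nat_lit 7, nat_lit 8, nat_lit 4, nat_lit 0, nat_lit 1, nat_lit 2, nat_lit 3, nat_lit 7, nat_lit 8, nat_lit 4, nat_lit 0, nat_lit 1, nat_lit 2, nat_lit 3, nat_lit 7, nat_lit 8, nat_lit 4, nat_lit 0, nat_lit 1, nat_lit 2, nat_lit 3, nat_lit 7, nat_lit 8, nat_lit 4, nat_lit 0, nat_lit 1, nat_lit 2, nat_lit 3, nat_lit 7, nat_lit 8, nat_lit 4, nat_lit 0, nat_lit 1, nat_lit 2, nat_lit 3, nat_lit 7, nat_lit 9, nat_lit 2], (nat_lit 101)), ([nat_lit 9, nat_lit 4, nat_lit 0, nat_lit 1, nat_lit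 2, nat_lit 3, nat_lit 7, nat_lit 8, nat_lit 4, nat_lit 0, nat_lit 1, nat_lit 2, nat_lit 3, nat_lit 7, nat_lit 8, nat_lit 4, nat_lit 0, nat_lit 1, nat_lit 2, nat_lit 3, nat_lit 7, nat_lit 8, nat_lit 4, nat_lit 0, nat_lit 1, nat_lit 2, nat_lit 3, nat_lit 7, nat_lit 8, nat_lit 4, nat_lit 0, nat_lit 1, nat_lit 2, nat_lit 3, nat_lit 7, nat_lit 8, nat_lit 4, nat_lit 0, nat_lit 1, nat_lit 2, nat_lit 3], (nat_lit 103)), ([nat_lit 9, nat_lit 4, nat_lit 0, nat_lit 1, nat_lit 2, nat_lit 3, nat_lit 7, nat_lit 8, nat_lit 4, nat_lit 0, nat_lit 1, nat_lit 2, nat_lit 3, nat_lit 7, nat_lit 8, nat_lit 4, nat_lit 0, nat_lit 1, nat_lit 2, nat_lit 3, nat_lit 7, nat_lit 8, nat_lit 4, nat_lit 0, nat_lit 1, nat_lit 2, nat_lit 3, nat_lit 7, nat_lit 8, nat_lit 4, nat_lit 0, nat_lit 1, nat_lit 2, nat_lit 3, nat_lit 7, nat_lit 8, nat_lit 4, nat_lit 0,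 nat_lit 1, nat_lit 2], (nat_lit 101)), ([nat_lit 9, nat_lit 4, nat_lit 0, nat_lit 1, nat_lit 2, nat_lit 3, nat_lit 7, nat_lit 8, nat_lit 4, nat_lit 0, nat_lit 1, nat_lit 2, nat_lit 3, nat_lit 7, nat_lit 8, nat_lit 4, nat_lit 0, nat_lit 1, nat_lit 2, nat_lit 3, nat_lit 7, nat_lit 8, nat_lit 4, nat_lit 0, nat_lit 1, nat_lit 2, nat_lit 3, nat_lit 7, nat_lit 8, nat_lit 4, nat_lit 0, nat_lit 1, nat_lit 2, nat_lit 3, nat_lit 7, nat_lit 8, nat_lit 4, nat_lit 0, nat_lit 1], (nat_lit 99)), ([nat_lit 9, nat_lit 4, nat_lit 0, nat_lit 1, nat_lit 2, nat_lit 3, nat_lit 7, nat_lit 8, nat_lit 4, nat_lit 0, nat_lit 1, nat_lit 2, nat_lit 3, nat_lit 7, nat_lit 8, nat_lit 4, nat_lit 0, nat_lit 1, nat_lit 2, nat_lit 3, nat_lit 7, nat_lit 8, nat_lit 4, nat_lit 0, nat_lit 1, nat_lit 2, nat_lit 3, nat_lit 7, nat_lit 8, nat_lit 4, nat_lit 0, nat_lit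 1, nat_lit 2, nat_lit 3, nat_lit 7, nat_lit 8, nat_lit 4], (nat_lit 105)), ([nat_lit 9, nat_lit 4, nat_lit 0, nat_lit 1, nat_lit 2, nat_lit 3, nat_lit 7, nat_lit 8, nat_lit 4, nat_lit 0, nat_lit 1, nat_lit 2, nat_lit 3, nat_lit 7, nat_lit 8, nat_lit 4, nat_lit 0, nat_lit 1, nat_lit 2, nat_lit 3, nat_lit 7, nat_lit 8, nat_lit 4, nat_lit 0, nat_lit 1, nat_lit 2, nat_lit 3, nat_lit 7, nat_lit 8, nat_lit 4, nat_lit 0, nat_lit 1, nat_lit 2, nat_lit 3, nat_lit 7, nat_lit 8, nat_lit 9, nat_lit 1], (nat_lit 99)), ([nat_lit 9, nat_lit 4, nat_lit 0, nat_lit 1, nat_lit 2, nat_lit 3, nat_lit 7, nat_lit 8, nat_lit 4, nat_lit 0, nat_lit 1, nat_lit 2, nat_lit 3, nat_lit 7, nat_lit 8, nat_lit 4, nat_lit 0, nat_lit 1, nat_lit 2, nat_lit 3, nat_lit 7, nat_lit 8, nat_lit 4, nat_lit 0, nat_lit 1, nat_lit 2, nat_lit 3, nat_lit 7, nat_lit 8, nat_lit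 4, nat_lit 0, nat_lit 1, nat_lit 2, nat_lit 3, nat_lit 7, nat_lit 9, nat_lit 2], (nat_lit 101)), ([nat_lit 9, nat_lit 4, nat_lit 0, nat_lit 1, nat_lit 2, nat_lit 3, nat_lit 7, nat_lit 8, nat_lit 4, nat_lit 0, nat_lit 1, nat_lit 2, nat_lit 3, nat_lit 7, nat_lit 8, nat_lit 4, nat_lit 0, nat_lit 1, nat_lit 2, nat_lit 3, nat_lit 7, nat_lit 8, nat_lit 4, nat_lit 0, nat_lit 1, nat_lit 2, nat_lit 3, nat_lit 7, nat_lit 8, nat_lit 4, nat_lit 0, nat_lit 1, nat_lit 2, nat_lit 3], (nat_lit 103)), ([nat_lit 9, nat_lit 4, nat_lit 0, nat_lit 1, nat_lit 2, nat_lit 3, nat_lit 7, nat_lit 8, nat_lit 4, nat_lit 0, nat_lit 1, nat_lit 2, nat_lit 3, nat_lit 7, nat_lit 8, nat_lit 4, nat_lit 0, nat_lit 1, nat_lit 2, nat_lit 3, nat_lit 7, nat_lit 8, nat_lit 4, nat_lit 0, nat_lit 1, nat_lit 2, nat_lit 3, nat_lit 7, nat_lit 8, nat_lit 4, nat_lit 0, nat_lit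 1, nat_lit 2], (nat_lit 101)), ([nat_lit 9, nat_lit 4, nat_lit 0, nat_lit 1, nat_lit 2, nat_lit 3, nat_lit 7, nat_lit 8, nat_lit 4, nat_lit 0, nat_lit 1, nat_lit 2, nat_lit 3, nat_lit 7, nat_lit 8, nat_lit 4, nat_lit 0, nat_lit 1, nat_lit 2, nat_lit 3, nat_lit 7, nat_lit 8, nat_lit 4, nat_lit 0, nat_lit 1, nat_lit 2, nat_lit 3, nat_lit 7, nat_lit 8, nat_lit 4, nat_lit 0, nat_lit 1], (nat_lit 99)), ([nat_lit 9, nat_lit 4, nat_lit 0, nat_lit 1, nat_lit 2, nat_lit 3, nat_lit 7, nat_lit 8, nat_lit 4, nat_lit 0, nat_lit 1, nat_lit 2, nat_lit 3, nat_lit 7, nat_lit 8, nat_lit 4, nat_lit 0, nat_lit 1, nat_lit 2, nat_lit 3, nat_lit 7, nat_lit 8, nat_lit 4, nat_lit 0, nat_lit 1, nat_lit 2, nat_lit 3, nat_lit 7, nat_lit 8, nat_lit 4], (nat_lit 105)), ([nat_lit 9, nat_lit 4, nat_lit 0, nat_lit 1, nat_lit 2, nat_lit 3, nat_lit 7, nat_lit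 8, nat_lit 4, nat_lit 0, nat_lit 1, nat_lit 2, nat_lit 3, nat_lit 7, nat_lit 8, nat_lit 4, nat_lit 0, nat_lit 1, nat_lit 2, nat_lit 3, nat_lit 7, nat_lit 8, nat_lit 4, nat_lit 0, nat_lit 1, nat_lit 2, nat_lit 3, nat_lit 7, nat_lit 8, nat_lit 9, nat_lit 1], (nat_lit 99)), ([nat_lit 9, nat_lit 4, nat_lit 0, nat_lit 1, nat_lit 2, nat_lit 3, nat_lit 7, nat_lit 8, nat_lit 4, nat_lit 0, nat_lit 1, nat_lit 2, nat_lit 3, nat_lit 7, nat_lit 8, nat_lit 4, nat_lit 0, nat_lit 1, nat_lit 2, nat_lit 3, nat_lit 7, nat_lit 8, nat_lit 4, nat_lit 0, nat_lit 1, nat_lit 2, nat_lit 3, nat_lit 7, nat_lit 9, nat_lit 2], (nat_lit 101)), ([nat_lit 9, nat_lit 4, nat_lit 0, nat_lit 1, nat_lit 2, nat_lit 3, nat_lit 7, nat_lit 8, nat_lit 4, nat_lit 0, nat_lit 1, nat_lit 2, nat_lit 3, nat_lit 7, nat_lit 8, nat_lit 4, nat_lit 0, nat_lit 1, nat_lit 2, nat_lit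 3, nat_lit 7, nat_lit 8, nat_lit 4, nat_lit 0, nat_lit 1, nat_lit 2, nat_lit 3], (nat_lit 103)), ([nat_lit 9, nat_lit 4, nat_lit 0, nat_lit 1, nat_lit 2, nat_lit 3, nat_lit 7, nat_lit 8, nat_lit 4, nat_lit 0, nat_lit 1, nat_lit 2, nat_lit 3, nat_lit 7, nat_lit 8, nat_lit 4, nat_lit 0, nat_lit 1, nat_lit 2, nat_lit 3, nat_lit 7, nat_lit 8, nat_lit 4, nat_lit 0, nat_lit 1, nat_lit 2], (nat_lit 101)), ([nat_lit 9, nat_lit 4, nat_lit 0, nat_lit 1, nat_lit 2, nat_lit 3, nat_lit 7, nat_lit 8, nat_lit 4, nat_lit 0, nat_lit 1, nat_lit 2, nat_lit 3, nat_lit 7, nat_lit 8, nat_lit 4, nat_lit 0, nat_lit 1, nat_lit 2, nat_lit 3, nat_lit 7, nat_lit 8, nat_lit 4, nat_lit 0, nat_lit 1], (nat_lit 99)), ([nat_lit 9, nat_lit 4, nat_lit 0, nat_lit 1, nat_lit 2, nat_lit 3, nat_lit 7, nat_lit 8, nat_lit 4, nat_lit 0, nat_lit 1, nat_lit 2, nat_lit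 3, nat_lit 7, nat_lit 8, nat_lit 4, nat_lit 0, nat_lit 1, nat_lit 2, nat_lit 3, nat_lit 7, nat_lit 8, nat_lit 4], (nat_lit 105)), ([nat_lit 9, nat_lit 4, nat_lit 0, nat_lit 1, nat_lit 2, nat_lit 3, nat_lit 7, nat_lit 8, nat_lit 4, nat_lit 0, nat_lit 1, nat_lit 2, nat_lit 3, nat_lit 7, nat_lit 8, nat_lit 4, nat_lit 0, nat_lit 1, nat_lit 2, nat_lit 3, nat_lit 7, nat_lit 8, nat_lit 9, nat_lit 1], (nat_lit 99)), ([nat_lit 9, nat_lit 4, nat_lit 0, nat_lit 1, nat_lit 2, nat_lit 3, nat_lit 7, nat_lit 8, nat_lit 4, nat_lit 0, nat_lit 1, nat_lit 2, nat_lit 3, nat_lit 7, nat_lit 8, nat_lit 4, nat_lit 0, nat_lit 1, nat_lit 2, nat_lit 3, nat_lit 7, nat_lit 9, nat_lit 2], (nat_lit 101)), ([nat_lit 9, nat_lit 4, nat_lit 0, nat_lit 1, nat_lit 2, nat_lit 3, nat_lit 7, nat_lit 8, nat_lit 4, nat_lit 0, nat_lit 1, nat_lit 2, nat_lit 3, nat_lit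 7, nat_lit 8, nat_lit 4, nat_lit 0, nat_lit 1, nat_lit 2, nat_lit 3], (nat_lit 103)), ([nat_lit 9, nat_lit 4, nat_lit 0, nat_lit 1, nat_lit 2, nat_lit 3, nat_lit 7, nat_lit 8, nat_lit 4, nat_lit 0, nat_lit 1, nat_lit 2, nat_lit 3, nat_lit 7, nat_lit 8, nat_lit 4, nat_lit 0, nat_lit 1, nat_lit 2], (nat_lit 101)), ([nat_lit 9, nat_lit 4, nat_lit 0, nat_lit 1, nat_lit 2, nat_lit 3, nat_lit 7, nat_lit 8, nat_lit 4, nat_lit 0, nat_lit 1, nat_lit 2, nat_lit 3, nat_lit 7, nat_lit 8, nat_lit 4, nat_lit 0, nat_lit 1], (nat_lit 99)), ([nat_lit 9, nat_lit 4, nat_lit 0, nat_lit 1, nat_lit 2, nat_lit 3, nat_lit 7, nat_lit 8, nat_lit 4, nat_lit 0, nat_lit 1, nat_lit 2, nat_lit 3, nat_lit 7, nat_lit 8, nat_lit 4], (nat_lit 105)), ([nat_lit 9, nat_lit 4, nat_lit 0, nat_lit 1, nat_lit 2, nat_lit 3, nat_lit 7, nat_lit 8, nat_lit 4, nat_lit 0,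 nat_lit 1, nat_lit 2, nat_lit 3, nat_lit 7, nat_lit 8, nat_lit 9, nat_lit 1], (nat_lit 99)), ([nat_lit 9, nat_lit 4, nat_lit 0, nat_lit 1, nat_lit 2, nat_lit 3, nat_lit 7, nat_lit 8, nat_lit 4, nat_lit 0, nat_lit 1, nat_lit 2, nat_lit 3, nat_lit 7, nat_lit 9, nat_lit 2], (nat_lit 101)), ([nat_lit 9, nat_lit 4, nat_lit 0, nat_lit 1, nat_lit 2, nat_lit 3, nat_lit 7, nat_lit 8, nat_lit 4, nat_lit 0, nat_lit 1, nat_lit 2, nat_lit 3], (nat_lit 103)), ([nat_lit 9, nat_lit 4, nat_lit 0, nat_lit 1, nat_lit 2, nat_lit 3, nat_lit 7, nat_lit 8, nat_lit 4, nat_lit 0, nat_lit 1, nat_lit 2], (nat_lit 101)), ([nat_lit 9, nat_lit 4, nat_lit 0, nat_lit 1, nat_lit 2, nat_lit 3, nat_lit 7, nat_lit 8, nat_lit 4, nat_lit 0, nat_lit 1], (nat_lit 99)), ([nat_lit 9, nat_lit 4, nat_lit 0, nat_lit 1, nat_lit 2, nat_lit 3, nat_lit 7, nat_lit 8, nat_lit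 4], (nat_lit 105)), ([nat_lit 9, nat_lit 4, nat_lit 0, nat_lit 1, nat_lit 2, nat_lit 3, nat_lit 7, nat_lit 8, nat_lit 9, nat_lit 1], (nat_lit 99)), ([nat_lit 9, nat_lit 4, nat_lit 0, nat_lit 1, nat_lit 2, nat_lit 3, nat_lit 7, nat_lit 9, nat_lit 2], (nat_lit 101)), ([nat_lit 9, nat_lit 4, nat_lit 0, nat_lit 1, nat_lit 2, nat_lit 3], (nat_lit 103)), ([nat_lit 9, nat_lit 4, nat_lit 0, nat_lit 1, nat_lit 2], (nat_lit 101)), ([nat_lit 9, nat_lit 4, nat_lit 0, nat_lit 1], (nat_lit 99)), ([], (nat_lit 105))],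
  [],
  [],
  [([nat_lit 8, nat_lit 9, nat_lit 1], (nat_lit 99))],
  [([nat_lit 7, nat_lit 9, nat_lit 2], (nat_lit 101))],
  [([nat_lit 3], (nat_lit 103))],
  [([nat_lit 2], (nat_lit 101))],
  [([nat_lit 1], (nat_lit 99))],
  [],
  [([nat_lit 4], (nat_lit 105))],
  [([nat_lit 5], (nat_lit 107))]] = true := by decide +kernel
noncomputable def Q1 : List (List ℕ) := [[nat_lit 0, nat_lit 0],
  [nat_lit 1, nat_lit 1],
  [nat_lit 2, nat_lit 2],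
  [nat_lit 3, nat_lit 3],
  [nat_lit 4, nat_lit 4],
  [nat_lit 5, nat_lit 5],
  [nat_lit 6, nat_lit 6],
  [nat_lit 7, nat_lit 7],
  [nat_lit 8, nat_lit 8],
  [nat_lit 9, nat_lit 9],
  [nat_lit 1, nat_lit 0, nat_lit 1, nat_lit 0, nat_lit 1, nat_lit 0],
  [nat_lit 2, nat_lit 0, nat_lit 2, nat_lit 0],
  [nat_lit 2, nat_lit 1, nat_lit 2, nat_lit 1, nat_lit 2, nat_lit 1],
  [nat_lit 3, nat_lit 0, nat_lit 3, nat_lit 0],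
  [nat_lit 3, nat_lit 1, nat_lit 3, nat_lit 1],
  [nat_lit 3, nat_lit 2, nat_lit 3, nat_lit 2, nat_lit 3, nat_lit 2],
  [nat_lit 4, nat_lit 0, nat_lit 4, nat_lit 0],
  [nat_lit 4, nat_lit 1, nat_lit 4, nat_lit 1],
  [nat_lit 4, nat_lit 2, nat_lit 4, nat_lit 2],
  [nat_lit 4, nat_lit 3, nat_lit 4, nat_lit 3, nat_lit 4, nat_lit 3],
  [nat_lit 5, nat_lit 0, nat_lit 5, nat_lit 0],
  [nat_lit 5, nat_lit 1, nat_lit 5, nat_lit 1],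
  [nat_lit 5, nat_lit 2, nat_lit 5, nat_lit 2],
  [nat_lit 5, nat_lit 3, nat_lit 5, nat_lit 3],
  [nat_lit 5, nat_lit 4, nat_lit 5, nat_lit 4, nat_lit 5, nat_lit 4],
  [nat_lit 6, nat_lit 0, nat_lit 6, nat_lit 0],
  [nat_lit 6, nat_lit 1, nat_lit 6, nat_lit 1],
  [nat_lit 6, nat_lit 2, nat_lit 6, nat_lit 2],
  [nat_lit 6, nat_lit 3, nat_lit 6, nat_lit 3],
  [nat_lit 6, nat_lit 4, nat_lit 6, nat_lit 4],
  [nat_lit 6, nat_lit 5, nat_lit 6, nat_lit 5, nat_lit 6, nat_lit 5],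
  [nat_lit 7, nat_lit 0, nat_lit 7, nat_lit 0],
  [nat_lit 7, nat_lit 1, nat_lit 7, nat_lit 1],
  [nat_lit 7, nat_lit 2, nat_lit 7, nat_lit 2],
  [nat_lit 7, nat_lit 3, nat_lit 7, nat_lit 3, nat_lit 7, nat_lit 3],
  [nat_lit 7, nat_lit 4, nat_lit 7, nat_lit 4],
  [nat_lit 7, nat_lit 5, nat_lit 7, nat_lit 5],
  [nat_lit 7, nat_lit 6, nat_lit 7, nat_lit 6],
  [nat_lit 8, nat_lit 0, nat_lit 8, nat_lit 0],
  [nat_lit 8, nat_lit 1, nat_lit 8, nat_lit 1],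
  [nat_lit 8, nat_lit 2, nat_lit 8, nat_lit 2],
  [nat_lit 8, nat_lit 3, nat_lit 8, nat_lit 3],
  [nat_lit 8, nat_lit 4, nat_lit 8, nat_lit 4],
  [nat_lit 8, nat_lit 5, nat_lit 8, nat_lit 5],
  [nat_lit 8, nat_lit 6, nat_lit 8, nat_lit 6],
  [nat_lit 8, nat_lit 7, nat_lit 8, nat_lit 7, nat_lit 8, nat_lit 7],
  [nat_lit 8, nat_lit 7, nat_lit 3, nat_lit 5, nat_lit 4, nat_lit 3, nat_lit 1, nat_lit 2, nat_lit 3, nat_lit 8, nat_lit 7, nat_lit 3, nat_lit 5, nat_lit 4, nat_lit 3, nat_lit 1, nat_lit 2, nat_lit 3, nat_lit 8, nat_lit 7, nat_lit 3, nat_lit 5, nat_lit 4, nat_lit 3, nat_lit 1, nat_lit 2, nat_lit 3, nat_lit 8, nat_lit 7, nat_lit 3, nat_lit 5, nat_lit 4, nat_lit 3, nat_lit 1, nat_lit 2, nat_lit 3, nat_lit 8, nat_lit 7, nat_lit 3, nat_lit 5, nat_lit 4, nat_lit 3, nat_lit 1, nat_lit 2, nat_lit 3, nat_lit 8, nat_lit 7, nat_lit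 3, nat_lit 5, nat_lit 4, nat_lit 3, nat_lit 1, nat_lit 2, nat_lit 3, nat_lit 8, nat_lit 7, nat_lit 3, nat_lit 5, nat_lit 4, nat_lit 3, nat_lit 1, nat_lit 2, nat_lit 3, nat_lit 8, nat_lit 7, nat_lit 3, nat_lit 5, nat_lit 4, nat_lit 3, nat_lit 1, nat_lit 2, nat_lit 3, nat_lit 8, nat_lit 7, nat_lit 3, nat_lit 5, nat_lit 4, nat_lit 3, nat_lit 1, nat_lit 2, nat_lit 3, nat_lit 8, nat_lit 7, nat_lit 3, nat_lit 5, nat_lit 4, nat_lit 3, nat_lit 1, nat_lit 2, nat_lit 3],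
  [nat_lit 7, nat_lit 5, nat_lit 4, nat_lit 3, nat_lit 2, nat_lit 1, nat_lit 0, nat_lit 7, nat_lit 5, nat_lit 4, nat_lit 3, nat_lit 2, nat_lit 1, nat_lit 0, nat_lit 7, nat_lit 5, nat_lit 4, nat_lit 3, nat_lit 2, nat_lit 1, nat_lit 0, nat_lit 7, nat_lit 5, nat_lit 4, nat_lit 3, nat_lit 2, nat_lit 1, nat_lit 0, nat_lit 7, nat_lit 5, nat_lit 4, nat_lit 3, nat_lit 2, nat_lit 1, nat_lit 0, nat_lit 7, nat_lit 5, nat_lit 4, nat_lit 3, nat_lit 2, nat_lit 1, nat_lit 0, nat_lit 7, nat_lit 5, nat_lit 4, nat_lit 3, nat_lit 2, nat_lit 1, nat_lit 0, nat_lit 7, nat_lit 5, nat_lit 4, nat_lit 3, nat_lit 2, nat_lit 1, nat_lit 0, nat_lit 7, nat_lit 5, nat_lit 4, nat_lit 3, nat_lit 2, nat_lit 1, nat_lit 0],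
  [nat_lit 1, nat_lit 9, nat_lit 8, nat_lit 9],
  [nat_lit 2, nat_lit 9, nat_lit 7, nat_lit 9],
  [nat_lit 3, nat_lit 9, nat_lit 3, nat_lit 9],
  [nat_lit 4, nat_lit 9, nat_lit 4, nat_lit 9],
  [nat_lit 5, nat_lit 9, nat_lit 5, nat_lit 9],
  [nat_lit 6, nat_lit 9, nat_lit 6, nat_lit 9],
  [nat_lit 7, nat_lit 9, nat_lit 2, nat_lit 9],
  [nat_lit 8, nat_lit 9, nat_lit 1, nat_lit 9],
  [nat_lit 9, nat_lit 0, nat_lit 9, nat_lit 0, nat_lit 9, nat_lit 0, nat_lit 9, nat_lit 0],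
  [nat_lit 0, nat_lit 7, nat_lit 6, nat_lit 5, nat_lit 4, nat_lit 3, nat_lit 2, nat_lit 1, nat_lit 7, nat_lit 6, nat_lit 5, nat_lit 4, nat_lit 3, nat_lit 2, nat_lit 1, nat_lit 7, nat_lit 6, nat_lit 5, nat_lit 4, nat_lit 3, nat_lit 2, nat_lit 1, nat_lit 7, nat_lit 6, nat_lit 5, nat_lit 4, nat_lit 3, nat_lit 2, nat_lit 1, nat_lit 7, nat_lit 6, nat_lit 5, nat_lit 4, nat_lit 3, nat_lit 2, nat_lit 1, nat_lit 7, nat_lit 6, nat_lit 5, nat_lit 4, nat_lit 3, nat_lit 2, nat_lit 1, nat_lit 7, nat_lit 6, nat_lit 5, nat_lit 4, nat_lit 3, nat_lit 2, nat_lit 1, nat_lit 7, nat_lit 6, nat_lit 5, nat_lit 4, nat_lit 3, nat_lit 2, nat_lit 1, nat_lit 7, nat_lit 6, nat_lit 5, nat_lit 4, nat_lit 3, nat_lit 2, nat_lit 1, nat_lit 0, nat_lit 7, nat_lit 6, nat_lit 5, nat_lit 4, nat_lit 3, nat_lit 2, nat_lit 1, nat_lit 7, nat_lit 6, nat_lit 5, nat_lit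 4, nat_lit 3, nat_lit 2, nat_lit 1, nat_lit 7, nat_lit 6, nat_lit 5, nat_lit 4, nat_lit 3, nat_lit 2, nat_lit 1, nat_lit 7, nat_lit 6, nat_lit 5, nat_lit 4, nat_lit 3, nat_lit 2, nat_lit 1, nat_lit 7, nat_lit 6, nat_lit 5, nat_lit 4, nat_lit 3, nat_lit 2, nat_lit 1, nat_lit 7, nat_lit 6, nat_lit 5, nat_lit 4, nat_lit 3, nat_lit 2, nat_lit 1, nat_lit 7, nat_lit 6, nat_lit 5, nat_lit 4, nat_lit 3, nat_lit 2, nat_lit 1, nat_lit 7, nat_lit 6, nat_lit 5, nat_lit 4, nat_lit 3, nat_lit 2, nat_lit 1, nat_lit 7, nat_lit 6, nat_lit 5, nat_lit 4, nat_lit 3, nat_lit 2, nat_lit 1],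
  [nat_lit 1, nat_lit 7, nat_lit 6, nat_lit 5, nat_lit 4, nat_lit 3, nat_lit 2, nat_lit 1, nat_lit 7, nat_lit 6, nat_lit 5, nat_lit 4, nat_lit 3, nat_lit 2, nat_lit 1, nat_lit 7, nat_lit 6, nat_lit 5, nat_lit 4, nat_lit 3, nat_lit 2, nat_lit 1, nat_lit 7, nat_lit 6, nat_lit 5, nat_lit 4, nat_lit 3, nat_lit 2, nat_lit 1, nat_lit 7, nat_lit 6, nat_lit 5, nat_lit 4, nat_lit 3, nat_lit 2, nat_lit 1, nat_lit 7, nat_lit 6, nat_lit 5, nat_lit 4, nat_lit 3, nat_lit 2, nat_lit 1, nat_lit 7, nat_lit 6, nat_lit 5, nat_lit 4, nat_lit 3, nat_lit 2, nat_lit 1, nat_lit 7, nat_lit 6, nat_lit 5, nat_lit 4, nat_lit 3, nat_lit 2, nat_lit 1, nat_lit 7, nat_lit 6, nat_lit 5, nat_lit 4, nat_lit 3, nat_lit 2, nat_lit 1, nat_lit 1, nat_lit 7, nat_lit 6, nat_lit 5, nat_lit 4, nat_lit 3, nat_lit 2, nat_lit 1, nat_lit 7, nat_lit 6, nat_lit 5, nat_lit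 4, nat_lit 3, nat_lit 2, nat_lit 1, nat_lit 7, nat_lit 6, nat_lit 5, nat_lit 4, nat_lit 3, nat_lit 2, nat_lit 1, nat_lit 7, nat_lit 6, nat_lit 5, nat_lit 4, nat_lit 3, nat_lit 2, nat_lit 1, nat_lit 7, nat_lit 6, nat_lit 5, nat_lit 4, nat_lit 3, nat_lit 2, nat_lit 1, nat_lit 7, nat_lit 6, nat_lit 5, nat_lit 4, nat_lit 3, nat_lit 2, nat_lit 1, nat_lit 7, nat_lit 6, nat_lit 5, nat_lit 4, nat_lit 3, nat_lit 2, nat_lit 1, nat_lit 7, nat_lit 6, nat_lit 5, nat_lit 4, nat_lit 3, nat_lit 2, nat_lit 1, nat_lit 7, nat_lit 6, nat_lit 5, nat_lit 4, nat_lit 3, nat_lit 2, nat_lit 1],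
  [nat_lit 2, nat_lit 7, nat_lit 6, nat_lit 5, nat_lit 4, nat_lit 3, nat_lit 2, nat_lit 1, nat_lit 7, nat_lit 6, nat_lit 5, nat_lit 4, nat_lit 3, nat_lit 2, nat_lit 1, nat_lit 7, nat_lit 6, nat_lit 5, nat_lit 4, nat_lit 3, nat_lit 2, nat_lit 1, nat_lit 7, nat_lit 6, nat_lit 5, nat_lit 4, nat_lit 3, nat_lit 2, nat_lit 1, nat_lit 7, nat_lit 6, nat_lit 5, nat_lit 4, nat_lit 3, nat_lit 2, nat_lit 1, nat_lit 7, nat_lit 6, nat_lit 5, nat_lit 4, nat_lit 3, nat_lit 2, nat_lit 1, nat_lit 7, nat_lit 6, nat_lit 5, nat_lit 4, nat_lit 3, nat_lit 2, nat_lit 1, nat_lit 7, nat_lit 6, nat_lit 5, nat_lit 4, nat_lit 3, nat_lit 2, nat_lit 1, nat_lit 7, nat_lit 6, nat_lit 5, nat_lit 4, nat_lit 3, nat_lit 2, nat_lit 1, nat_lit 2, nat_lit 7, nat_lit 6, nat_lit 5, nat_lit 4, nat_lit 3, nat_lit 2, nat_lit 1, nat_lit 7, nat_lit 6, nat_lit 5, nat_lit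 4, nat_lit 3, nat_lit 2, nat_lit 1, nat_lit 7, nat_lit 6, nat_lit 5, nat_lit 4, nat_lit 3, nat_lit 2, nat_lit 1, nat_lit 7, nat_lit 6, nat_lit 5, nat_lit 4, nat_lit 3, nat_lit 2, nat_lit 1, nat_lit 7, nat_lit 6, nat_lit 5, nat_lit 4, nat_lit 3, nat_lit 2, nat_lit 1, nat_lit 7, nat_lit 6, nat_lit 5, nat_lit 4, nat_lit 3, nat_lit 2, nat_lit 1, nat_lit 7, nat_lit 6, nat_lit 5, nat_lit 4, nat_lit 3, nat_lit 2, nat_lit 1, nat_lit 7, nat_lit 6, nat_lit 5, nat_lit 4, nat_lit 3, nat_lit 2, nat_lit 1, nat_lit 7, nat_lit 6, nat_lit 5, nat_lit 4, nat_lit 3, nat_lit 2, nat_lit 1],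
  [nat_lit 3, nat_lit 7, nat_lit 6, nat_lit 5, nat_lit 4, nat_lit 3, nat_lit 2, nat_lit 1, nat_lit 7, nat_lit 6, nat_lit 5, nat_lit 4, nat_lit 3, nat_lit 2, nat_lit 1, nat_lit 7, nat_lit 6, nat_lit 5, nat_lit 4, nat_lit 3, nat_lit 2, nat_lit 1, nat_lit 7, nat_lit 6, nat_lit 5, nat_lit 4, nat_lit 3, nat_lit 2, nat_lit 1, nat_lit 7, nat_lit 6, nat_lit 5, nat_lit 4, nat_lit 3, nat_lit 2, nat_lit 1, nat_lit 7, nat_lit 6, nat_lit 5, nat_lit 4, nat_lit 3, nat_lit 2, nat_lit 1, nat_lit 7, nat_lit 6, nat_lit 5, nat_lit 4, nat_lit 3, nat_lit 2, nat_lit 1, nat_lit 7, nat_lit 6, nat_lit 5, nat_lit 4, nat_lit 3, nat_lit 2, nat_lit 1, nat_lit 7, nat_lit 6, nat_lit 5, nat_lit 4, nat_lit 3, nat_lit 2, nat_lit 1, nat_lit 3, nat_lit 7, nat_lit 6, nat_lit 5, nat_lit 4, nat_lit 3, nat_lit 2, nat_lit 1, nat_lit 7, nat_lit 6, nat_lit 5, nat_lit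 4, nat_lit 3, nat_lit 2, nat_lit 1, nat_lit 7, nat_lit 6, nat_lit 5, nat_lit 4, nat_lit 3, nat_lit 2, nat_lit 1, nat_lit 7, nat_lit 6, nat_lit 5, nat_lit 4, nat_lit 3, nat_lit 2, nat_lit 1, nat_lit 7, nat_lit 6, nat_lit 5, nat_lit 4, nat_lit 3, nat_lit 2, nat_lit 1, nat_lit 7, nat_lit 6, nat_lit 5, nat_lit 4, nat_lit 3, nat_lit 2, nat_lit 1, nat_lit 7, nat_lit 6, nat_lit 5, nat_lit 4, nat_lit 3, nat_lit 2, nat_lit 1, nat_lit 7, nat_lit 6, nat_lit 5, nat_lit 4, nat_lit 3, nat_lit 2, nat_lit 1, nat_lit 7, nat_lit 6, nat_lit 5, nat_lit 4, nat_lit 3, nat_lit 2, nat_lit 1],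
  [nat_lit 4, nat_lit 7, nat_lit 6, nat_lit 5, nat_lit 4, nat_lit 3, nat_lit 2, nat_lit 1, nat_lit 7, nat_lit 6, nat_lit 5, nat_lit 4, nat_lit 3, nat_lit 2, nat_lit 1, nat_lit 7, nat_lit 6, nat_lit 5, nat_lit 4, nat_lit 3, nat_lit 2, nat_lit 1, nat_lit 7, nat_lit 6, nat_lit 5, nat_lit 4, nat_lit 3, nat_lit 2, nat_lit 1, nat_lit 7, nat_lit 6, nat_lit 5, nat_lit 4, nat_lit 3, nat_lit 2, nat_lit 1, nat_lit 7, nat_lit 6, nat_lit 5, nat_lit 4, nat_lit 3, nat_lit 2, nat_lit 1, nat_lit 7, nat_lit 6, nat_lit 5, nat_lit 4, nat_lit 3, nat_lit 2, nat_lit 1, nat_lit 7, nat_lit 6, nat_lit 5, nat_lit 4, nat_lit 3, nat_lit 2, nat_lit 1, nat_lit 7, nat_lit 6, nat_lit 5, nat_lit 4, nat_lit 3, nat_lit 2, nat_lit 1, nat_lit 4, nat_lit 7, nat_lit 6, nat_lit 5, nat_lit 4, nat_lit 3, nat_lit 2, nat_lit 1, nat_lit 7, nat_lit 6, nat_lit 5, nat_lit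 4, nat_lit 3, nat_lit 2, nat_lit 1, nat_lit 7, nat_lit 6, nat_lit 5, nat_lit 4, nat_lit 3, nat_lit 2, nat_lit 1, nat_lit 7, nat_lit 6, nat_lit 5, nat_lit 4, nat_lit 3, nat_lit 2, nat_lit 1, nat_lit 7, nat_lit 6, nat_lit 5, nat_lit 4, nat_lit 3, nat_lit 2, nat_lit 1, nat_lit 7, nat_lit 6, nat_lit 5, nat_lit 4, nat_lit 3, nat_lit 2, nat_lit 1, nat_lit 7, nat_lit 6, nat_lit 5, nat_lit 4, nat_lit 3, nat_lit 2, nat_lit 1, nat_lit 7, nat_lit 6, nat_lit 5, nat_lit 4, nat_lit 3, nat_lit 2, nat_lit 1, nat_lit 7, nat_lit 6, nat_lit 5, nat_lit 4, nat_lit 3, nat_lit 2, nat_lit 1],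
  [nat_lit 5, nat_lit 7, nat_lit 6, nat_lit 5, nat_lit 4, nat_lit 3, nat_lit 2, nat_lit 1, nat_lit 7, nat_lit 6, nat_lit 5, nat_lit 4, nat_lit 3, nat_lit 2, nat_lit 1, nat_lit 7, nat_lit 6, nat_lit 5, nat_lit 4, nat_lit 3, nat_lit 2, nat_lit 1, nat_lit 7, nat_lit 6, nat_lit 5, nat_lit 4, nat_lit 3, nat_lit 2, nat_lit 1, nat_lit 7, nat_lit 6, nat_lit 5, nat_lit 4, nat_lit 3, nat_lit 2, nat_lit 1, nat_lit 7, nat_lit 6, nat_lit 5, nat_lit 4, nat_lit 3, nat_lit 2, nat_lit 1, nat_lit 7, nat_lit 6, nat_lit 5, nat_lit 4, nat_lit 3, nat_lit 2, nat_lit 1, nat_lit 7, nat_lit 6, nat_lit 5, nat_lit 4, nat_lit 3, nat_lit 2, nat_lit 1, nat_lit 7, nat_lit 6, nat_lit 5, nat_lit 4, nat_lit 3, nat_lit 2, nat_lit 1, nat_lit 5, nat_lit 7, nat_lit 6, nat_lit 5, nat_lit 4, nat_lit 3, nat_lit 2, nat_lit 1, nat_lit 7, nat_lit 6, nat_lit 5, nat_lit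 4, nat_lit 3, nat_lit 2, nat_lit 1, nat_lit 7, nat_lit 6, nat_lit 5, nat_lit 4, nat_lit 3, nat_lit 2, nat_lit 1, nat_lit 7, nat_lit 6, nat_lit 5, nat_lit 4, nat_lit 3, nat_lit 2, nat_lit 1, nat_lit 7, nat_lit 6, nat_lit 5, nat_lit 4, nat_lit 3, nat_lit 2, nat_lit 1, nat_lit 7, nat_lit 6, nat_lit 5, nat_lit 4, nat_lit 3, nat_lit 2, nat_lit 1, nat_lit 7, nat_lit 6, nat_lit 5, nat_lit 4, nat_lit 3, nat_lit 2, nat_lit 1, nat_lit 7, nat_lit 6, nat_lit 5, nat_lit 4, nat_lit 3, nat_lit 2, nat_lit 1, nat_lit 7, nat_lit 6, nat_lit 5, nat_lit 4, nat_lit 3, nat_lit 2, nat_lit 1],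
  [nat_lit 6, nat_lit 7, nat_lit 6, nat_lit 5, nat_lit 4, nat_lit 3, nat_lit 2, nat_lit 1, nat_lit 7, nat_lit 6, nat_lit 5, nat_lit 4, nat_lit 3, nat_lit 2, nat_lit 1, nat_lit 7, nat_lit 6, nat_lit 5, nat_lit 4, nat_lit 3, nat_lit 2, nat_lit 1, nat_lit 7, nat_lit 6, nat_lit 5, nat_lit 4, nat_lit 3, nat_lit 2, nat_lit 1, nat_lit 7, nat_lit 6, nat_lit 5, nat_lit 4, nat_lit 3, nat_lit 2, nat_lit 1, nat_lit 7, nat_lit 6, nat_lit 5, nat_lit 4, nat_lit 3, nat_lit 2, nat_lit 1, nat_lit 7, nat_lit 6, nat_lit 5, nat_lit 4, nat_lit 3, nat_lit 2, nat_lit 1, nat_lit 7, nat_lit 6, nat_lit 5, nat_lit 4, nat_lit 3, nat_lit 2, nat_lit 1, nat_lit 7, nat_lit 6, nat_lit 5, nat_lit 4, nat_lit 3, nat_lit 2, nat_lit 1, nat_lit 6, nat_lit 7, nat_lit 6, nat_lit 5, nat_lit 4, nat_lit 3, nat_lit 2, nat_lit 1, nat_lit 7, nat_lit 6, nat_lit 5, nat_lit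 4, nat_lit 3, nat_lit 2, nat_lit 1, nat_lit 7, nat_lit 6, nat_lit 5, nat_lit 4, nat_lit 3, nat_lit 2, nat_lit 1, nat_lit 7, nat_lit 6, nat_lit 5, nat_lit 4, nat_lit 3, nat_lit 2, nat_lit 1, nat_lit 7, nat_lit 6, nat_lit 5, nat_lit 4, nat_lit 3, nat_lit 2, nat_lit 1, nat_lit 7, nat_lit 6, nat_lit 5, nat_lit 4, nat_lit 3, nat_lit 2, nat_lit 1, nat_lit 7, nat_lit 6, nat_lit 5, nat_lit 4, nat_lit 3, nat_lit 2, nat_lit 1, nat_lit 7, nat_lit 6, nat_lit 5, nat_lit 4, nat_lit 3, nat_lit 2, nat_lit 1, nat_lit 7, nat_lit 6, nat_lit 5, nat_lit 4, nat_lit 3, nat_lit 2, nat_lit 1],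
  [nat_lit 7, nat_lit 7, nat_lit 6, nat_lit 5, nat_lit 4, nat_lit 3, nat_lit 2, nat_lit 1, nat_lit 7, nat_lit 6, nat_lit 5, nat_lit 4, nat_lit 3, nat_lit 2, nat_lit 1, nat_lit 7, nat_lit 6, nat_lit 5, nat_lit 4, nat_lit 3, nat_lit 2, nat_lit 1, nat_lit 7, nat_lit 6, nat_lit 5, nat_lit 4, nat_lit 3, nat_lit 2, nat_lit 1, nat_lit 7, nat_lit 6, nat_lit 5, nat_lit 4, nat_lit 3, nat_lit 2, nat_lit 1, nat_lit 7, nat_lit 6, nat_lit 5, nat_lit 4, nat_lit 3, nat_lit 2, nat_lit 1, nat_lit 7, nat_lit 6, nat_lit 5, nat_lit 4, nat_lit 3, nat_lit 2, nat_lit 1, nat_lit 7, nat_lit 6, nat_lit 5, nat_lit 4, nat_lit 3, nat_lit 2, nat_lit 1, nat_lit 7, nat_lit 6, nat_lit 5, nat_lit 4, nat_lit 3, nat_lit 2, nat_lit 1, nat_lit 7, nat_lit 7, nat_lit 6, nat_lit 5, nat_lit 4, nat_lit 3, nat_lit 2, nat_lit 1, nat_lit 7, nat_lit 6, nat_lit 5, nat_lit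 4, nat_lit 3, nat_lit 2, nat_lit 1, nat_lit 7, nat_lit 6, nat_lit 5, nat_lit 4, nat_lit 3, nat_lit 2, nat_lit 1, nat_lit 7, nat_lit 6, nat_lit 5, nat_lit 4, nat_lit 3, nat_lit 2, nat_lit 1, nat_lit 7, nat_lit 6, nat_lit 5, nat_lit 4, nat_lit 3, nat_lit 2, nat_lit 1, nat_lit 7, nat_lit 6, nat_lit 5, nat_lit 4, nat_lit 3, nat_lit 2, nat_lit 1, nat_lit 7, nat_lit 6, nat_lit 5, nat_lit 4, nat_lit 3, nat_lit 2, nat_lit 1, nat_lit 7, nat_lit 6, nat_lit 5, nat_lit 4, nat_lit 3, nat_lit 2, nat_lit 1, nat_lit 7, nat_lit 6, nat_lit 5, nat_lit 4, nat_lit 3, nat_lit 2, nat_lit 1],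
  [nat_lit 8, nat_lit 7, nat_lit 6, nat_lit 5, nat_lit 4, nat_lit 3, nat_lit 2, nat_lit 1, nat_lit 7, nat_lit 6, nat_lit 5, nat_lit 4, nat_lit 3, nat_lit 2, nat_lit 1, nat_lit 7, nat_lit 6, nat_lit 5, nat_lit 4, nat_lit 3, nat_lit 2, nat_lit 1, nat_lit 7, nat_lit 6, nat_lit 5, nat_lit 4, nat_lit 3, nat_lit 2, nat_lit 1, nat_lit 7, nat_lit 6, nat_lit 5, nat_lit 4, nat_lit 3, nat_lit 2, nat_lit 1, nat_lit 7, nat_lit 6, nat_lit 5, nat_lit 4, nat_lit 3, nat_lit 2, nat_lit 1, nat_lit 7, nat_lit 6, nat_lit 5, nat_lit 4, nat_lit 3, nat_lit 2, nat_lit 1, nat_lit 7, nat_lit 6, nat_lit 5, nat_lit 4, nat_lit 3, nat_lit 2, nat_lit 1, nat_lit 7, nat_lit 6, nat_lit 5, nat_lit 4, nat_lit 3, nat_lit 2, nat_lit 1, nat_lit 8, nat_lit 7, nat_lit 6, nat_lit 5, nat_lit 4, nat_lit 3, nat_lit 2, nat_lit 1, nat_lit 7, nat_lit 6, nat_lit 5, nat_lit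 4, nat_lit 3, nat_lit 2, nat_lit 1, nat_lit 7, nat_lit 6, nat_lit 5, nat_lit 4, nat_lit 3, nat_lit 2, nat_lit 1, nat_lit 7, nat_lit 6, nat_lit 5, nat_lit 4, nat_lit 3, nat_lit 2, nat_lit 1, nat_lit 7, nat_lit 6, nat_lit 5, nat_lit 4, nat_lit 3, nat_lit 2, nat_lit 1, nat_lit 7, nat_lit 6, nat_lit 5, nat_lit 4, nat_lit 3, nat_lit 2, nat_lit 1, nat_lit 7, nat_lit 6, nat_lit 5, nat_lit 4, nat_lit 3, nat_lit 2, nat_lit 1, nat_lit 7, nat_lit 6, nat_lit 5, nat_lit 4, nat_lit 3, nat_lit 2, nat_lit 1, nat_lit 7, nat_lit 6, nat_lit 5, nat_lit 4, nat_lit 3, nat_lit 2, nat_lit 1],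
  [nat_lit 9, nat_lit 7, nat_lit 6, nat_lit 5, nat_lit 4, nat_lit 3, nat_lit 2, nat_lit 1, nat_lit 7, nat_lit 6, nat_lit 5, nat_lit 4, nat_lit 3, nat_lit 2, nat_lit 1, nat_lit 7, nat_lit 6, nat_lit 5, nat_lit 4, nat_lit 3, nat_lit 2, nat_lit 1, nat_lit 7, nat_lit 6, nat_lit 5, nat_lit 4, nat_lit 3, nat_lit 2, nat_lit 1, nat_lit 7, nat_lit 6, nat_lit 5, nat_lit 4, nat_lit 3, nat_lit 2, nat_lit 1, nat_lit 7, nat_lit 6, nat_lit 5, nat_lit 4, nat_lit 3, nat_lit 2, nat_lit 1, nat_lit 7, nat_lit 6, nat_lit 5, nat_lit 4, nat_lit 3, nat_lit 2, nat_lit 1, nat_lit 7, nat_lit 6, nat_lit 5, nat_lit 4, nat_lit 3, nat_lit 2, nat_lit 1, nat_lit 7, nat_lit 6, nat_lit 5, nat_lit 4, nat_lit 3, nat_lit 2, nat_lit 1, nat_lit 9, nat_lit 7, nat_lit 6, nat_lit 5, nat_lit 4, nat_lit 3, nat_lit 2, nat_lit 1, nat_lit 7, nat_lit 6, nat_lit 5, nat_lit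 4, nat_lit 3, nat_lit 2, nat_lit 1, nat_lit 7, nat_lit 6, nat_lit 5, nat_lit 4, nat_lit 3, nat_lit 2, nat_lit 1, nat_lit 7, nat_lit 6, nat_lit 5, nat_lit 4, nat_lit 3, nat_lit 2, nat_lit 1, nat_lit 7, nat_lit 6, nat_lit 5, nat_lit 4, nat_lit 3, nat_lit 2, nat_lit 1, nat_lit 7, nat_lit 6, nat_lit 5, nat_lit 4, nat_lit 3, nat_lit 2, nat_lit 1, nat_lit 7, nat_lit 6, nat_lit 5, nat_lit 4, nat_lit 3, nat_lit 2, nat_lit 1, nat_lit 7, nat_lit 6, nat_lit 5, nat_lit 4, nat_lit 3, nat_lit 2, nat_lit 1, nat_lit 7, nat_lit 6, nat_lit 5, nat_lit 4, nat_lit 3, nat_lit 2, nat_lit 1],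
  [nat_lit 7, nat_lit 6, nat_lit 5, nat_lit 4, nat_lit 3, nat_lit 2, nat_lit 1, nat_lit 7, nat_lit 6, nat_lit 5, nat_lit 4, nat_lit 3, nat_lit 2, nat_lit 1, nat_lit 7, nat_lit 6, nat_lit 5, nat_lit 4, nat_lit 3, nat_lit 2, nat_lit 1, nat_lit 7, nat_lit 6, nat_lit 5, nat_lit 4, nat_lit 3, nat_lit 2, nat_lit 1, nat_lit 7, nat_lit 6, nat_lit 5, nat_lit 4, nat_lit 3, nat_lit 2, nat_lit 1, nat_lit 7, nat_lit 6, nat_lit 5, nat_lit 4, nat_lit 3, nat_lit 2, nat_lit 1, nat_lit 7, nat_lit 6, nat_lit 5, nat_lit 4, nat_lit 3, nat_lit 2, nat_lit 1, nat_lit 7, nat_lit 6, nat_lit 5, nat_lit 4, nat_lit 3, nat_lit 2, nat_lit 1, nat_lit 7, nat_lit 6, nat_lit 5, nat_lit 4, nat_lit 3, nat_lit 2, nat_lit 1, nat_lit 7, nat_lit 6, nat_lit 5, nat_lit 4, nat_lit 3, nat_lit 2, nat_lit 1, nat_lit 7, nat_lit 6, nat_lit 5, nat_lit 4, nat_lit 3, nat_lit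 2, nat_lit 1, nat_lit 7, nat_lit 6, nat_lit 5, nat_lit 4, nat_lit 3, nat_lit 2, nat_lit 1, nat_lit 7, nat_lit 6, nat_lit 5, nat_lit 4, nat_lit 3, nat_lit 2, nat_lit 1, nat_lit 7, nat_lit 6, nat_lit 5, nat_lit 4, nat_lit 3, nat_lit 2, nat_lit 1, nat_lit 7, nat_lit 6, nat_lit 5, nat_lit 4, nat_lit 3, nat_lit 2, nat_lit 1, nat_lit 7, nat_lit 6, nat_lit 5, nat_lit 4, nat_lit 3, nat_lit 2, nat_lit 1, nat_lit 7, nat_lit 6, nat_lit 5, nat_lit 4, nat_lit 3, nat_lit 2, nat_lit 1, nat_lit 7, nat_lit 6, nat_lit 5, nat_lit 4, nat_lit 3, nat_lit 2, nat_lit 1]]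
noncomputable def P2 : List (List ℕ) := [[nat_lit 0, nat_lit 0],
  [nat_lit 1, nat_lit 1],
  [nat_lit 2, nat_lit 2],
  [nat_lit 3, nat_lit 3],
  [nat_lit 4, nat_lit 4],
  [nat_lit 5, nat_lit 5],
  [nat_lit 6, nat_lit 6],
  [nat_lit 7, nat_lit 7],
  [nat_lit 8, nat_lit 8],
  [nat_lit 9, nat_lit 9],
  [nat_lit 10, nat_lit 10],
  [nat_lit 1, nat_lit 0, nat_lit 1, nat_lit 0, nat_lit 1, nat_lit 0],
  [nat_lit 2, nat_lit 0, nat_lit 2, nat_lit 0],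
  [nat_lit 2, nat_lit 1, nat_lit 2, nat_lit 1, nat_lit 2, nat_lit 1],
  [nat_lit 3, nat_lit 0, nat_lit 3, nat_lit 0],
  [nat_lit 3, nat_lit 1, nat_lit 3, nat_lit 1],
  [nat_lit 3, nat_lit 2, nat_lit 3, nat_lit 2, nat_lit 3, nat_lit 2],
  [nat_lit 4, nat_lit 0, nat_lit 4, nat_lit 0],
  [nat_lit 4, nat_lit 1, nat_lit 4, nat_lit 1],
  [nat_lit 4, nat_lit 2, nat_lit 4, nat_lit 2],
  [nat_lit 4, nat_lit 3, nat_lit 4, nat_lit 3, nat_lit 4, nat_lit 3],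
  [nat_lit 5, nat_lit 0, nat_lit 5, nat_lit 0],
  [nat_lit 5, nat_lit 1, nat_lit 5, nat_lit 1],
  [nat_lit 5, nat_lit 2, nat_lit 5, nat_lit 2],
  [nat_lit 5, nat_lit 3, nat_lit 5, nat_lit 3],
  [nat_lit 5, nat_lit 4, nat_lit 5, nat_lit 4, nat_lit 5, nat_lit 4],
  [nat_lit 6, nat_lit 0, nat_lit 6, nat_lit 0],
  [nat_lit 6, nat_lit 1, nat_lit 6, nat_lit 1],
  [nat_lit 6, nat_lit 2, nat_lit 6, nat_lit 2],
  [nat_lit 6, nat_lit 3, nat_lit 6, nat_lit 3],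
  [nat_lit 6, nat_lit 4, nat_lit 6, nat_lit 4],
  [nat_lit 6, nat_lit 5, nat_lit 6, nat_lit 5, nat_lit 6, nat_lit 5],
  [nat_lit 7, nat_lit 0, nat_lit 7, nat_lit 0],
  [nat_lit 7, nat_lit 1, nat_lit 7, nat_lit 1],
  [nat_lit 7, nat_lit 2, nat_lit 7, nat_lit 2],
  [nat_lit 7, nat_lit 3, nat_lit 7, nat_lit 3, nat_lit 7, nat_lit 3],
  [nat_lit 7, nat_lit 4, nat_lit 7, nat_lit 4],
  [nat_lit 7, nat_lit 5, nat_lit 7, nat_lit 5],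
  [nat_lit 7, nat_lit 6, nat_lit 7, nat_lit 6],
  [nat_lit 8, nat_lit 0, nat_lit 8, nat_lit 0],
  [nat_lit 8, nat_lit 1, nat_lit 8, nat_lit 1],
  [nat_lit 8, nat_lit 2, nat_lit 8, nat_lit 2],
  [nat_lit 8, nat_lit 3, nat_lit 8, nat_lit 3],
  [nat_lit 8, nat_lit 4, nat_lit 8, nat_lit 4],
  [nat_lit 8, nat_lit 5, nat_lit 8, nat_lit 5],
  [nat_lit 8, nat_lit 6, nat_lit 8, nat_lit 6],
  [nat_lit 8, nat_lit 7, nat_lit 8, nat_lit 7, nat_lit 8, nat_lit 7],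
  [nat_lit 9, nat_lit 0, nat_lit 9, nat_lit 0],
  [nat_lit 9, nat_lit 1, nat_lit 9, nat_lit 1],
  [nat_lit 9, nat_lit 2, nat_lit 9, nat_lit 2],
  [nat_lit 9, nat_lit 3, nat_lit 9, nat_lit 3],
  [nat_lit 9, nat_lit 4, nat_lit 9, nat_lit 4],
  [nat_lit 9, nat_lit 5, nat_lit 9, nat_lit 5],
  [nat_lit 9, nat_lit 6, nat_lit 9, nat_lit 6, nat_lit 9, nat_lit 6],
  [nat_lit 9, nat_lit 7, nat_lit 9, nat_lit 7],
  [nat_lit 9, nat_lit 8, nat_lit 9, nat_lit 8],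
  [nat_lit 7, nat_lit 5, nat_lit 4, nat_lit 3, nat_lit 2, nat_lit 1, nat_lit 0, nat_lit 7, nat_lit 5, nat_lit 4, nat_lit 3, nat_lit 2, nat_lit 1, nat_lit 0, nat_lit 7, nat_lit 5, nat_lit 4, nat_lit 3, nat_lit 2, nat_lit 1, nat_lit 0, nat_lit 7, nat_lit 5, nat_lit 4, nat_lit 3, nat_lit 2, nat_lit 1, nat_lit 0, nat_lit 7, nat_lit 5, nat_lit 4, nat_lit 3, nat_lit 2, nat_lit 1, nat_lit 0, nat_lit 7, nat_lit 5, nat_lit 4, nat_lit 3, nat_lit 2, nat_lit 1, nat_lit 0, nat_lit 7, nat_lit 5, nat_lit 4, nat_lit 3, nat_lit 2, nat_lit 1, nat_lit 0, nat_lit 7, nat_lit 5, nat_lit 4, nat_lit 3, nat_lit 2, nat_lit 1, nat_lit 0, nat_lit 7, nat_lit 5, nat_lit 4, nat_lit 3, nat_lit 2, nat_lit 1, nat_lit 0],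
  [nat_lit 8, nat_lit 7, nat_lit 3, nat_lit 5, nat_lit 4, nat_lit 3, nat_lit 1, nat_lit 2, nat_lit 3, nat_lit 8, nat_lit 7, nat_lit 3, nat_lit 5, nat_lit 4, nat_lit 3, nat_lit 1, nat_lit 2, nat_lit 3, nat_lit 8, nat_lit 7, nat_lit 3, nat_lit 5, nat_lit 4, nat_lit 3, nat_lit 1, nat_lit 2, nat_lit 3, nat_lit 8, nat_lit 7, nat_lit 3, nat_lit 5, nat_lit 4, nat_lit 3, nat_lit 1, nat_lit 2, nat_lit 3, nat_lit 8, nat_lit 7, nat_lit 3, nat_lit 5, nat_lit 4, nat_lit 3, nat_lit 1, nat_lit 2, nat_lit 3, nat_lit 8, nat_lit 7, nat_lit 3, nat_lit 5, nat_lit 4, nat_lit 3, nat_lit 1, nat_lit 2, nat_lit 3, nat_lit 8, nat_lit 7, nat_lit 3, nat_lit 5, nat_lit 4, nat_lit 3, nat_lit 1, nat_lit 2, nat_lit 3, nat_lit 8, nat_lit 7, nat_lit 3, nat_lit 5, nat_lit 4, nat_lit 3, nat_lit 1, nat_lit 2, nat_lit 3, nat_lit 8, nat_lit 7, nat_lit 3, nat_lit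 5, nat_lit 4, nat_lit 3, nat_lit 1, nat_lit 2, nat_lit 3, nat_lit 8, nat_lit 7, nat_lit 3, nat_lit 5, nat_lit 4, nat_lit 3, nat_lit 1, nat_lit 2, nat_lit 3],
  [nat_lit 1, nat_lit 10, nat_lit 8, nat_lit 10],
  [nat_lit 2, nat_lit 10, nat_lit 7, nat_lit 10],
  [nat_lit 3, nat_lit 10, nat_lit 3, nat_lit 10],
  [nat_lit 4, nat_lit 10, nat_lit 4, nat_lit 10],
  [nat_lit 5, nat_lit 10, nat_lit 5, nat_lit 10],
  [nat_lit 6, nat_lit 10, nat_lit 6, nat_lit 10],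
  [nat_lit 7, nat_lit 10, nat_lit 2, nat_lit 10],
  [nat_lit 8, nat_lit 10, nat_lit 1, nat_lit 10],
  [nat_lit 9, nat_lit 10, nat_lit 9, nat_lit 10],
  [nat_lit 10, nat_lit 0, nat_lit 10, nat_lit 0, nat_lit 10, nat_lit 0, nat_lit 10, nat_lit 0]]
noncomputable def U2 : List (List ℕ) := [[nat_lit 0],
  [nat_lit 1],
  [nat_lit 2],
  [nat_lit 3],
  [nat_lit 4],
  [nat_lit 5],
  [nat_lit 6],
  [nat_lit 7],
  [nat_lit 8],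
  [nat_lit 10]]
noncomputable def E20 : List (List ℕ) := [[nat_lit 0, nat_lit 7, nat_lit 6, nat_lit 5, nat_lit 4, nat_lit 3, nat_lit 2, nat_lit 1, nat_lit 7, nat_lit 6, nat_lit 5, nat_lit 4, nat_lit 3, nat_lit 2, nat_lit 1, nat_lit 7, nat_lit 6, nat_lit 5, nat_lit 4, nat_lit 3, nat_lit 2, nat_lit 1, nat_lit 7, nat_lit 6, nat_lit 5, nat_lit 4, nat_lit 3, nat_lit 2, nat_lit 1, nat_lit 7, nat_lit 6, nat_lit 5, nat_lit 4, nat_lit 3, nat_lit 2, nat_lit 1, nat_lit 7, nat_lit 6, nat_lit 5, nat_lit 4, nat_lit 3, nat_lit 2, nat_lit 1, nat_lit 7, nat_lit 6, nat_lit 5, nat_lit 4, nat_lit 3, nat_lit 2, nat_lit 1, nat_lit 7, nat_lit 6, nat_lit 5, nat_lit 4, nat_lit 3, nat_lit 2, nat_lit 1, nat_lit 7, nat_lit 6, nat_lit 5, nat_lit 4, nat_lit 3, nat_lit 2, nat_lit 1, nat_lit 0, nat_lit 7, nat_lit 6, nat_lit 5, nat_lit 4, nat_lit 3, nat_lit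 2, nat_lit 1, nat_lit 7, nat_lit 6, nat_lit 5, nat_lit 4, nat_lit 3, nat_lit 2, nat_lit 1, nat_lit 7, nat_lit 6, nat_lit 5, nat_lit 4, nat_lit 3, nat_lit 2, nat_lit 1, nat_lit 7, nat_lit 6, nat_lit 5, nat_lit 4, nat_lit 3, nat_lit 2, nat_lit 1, nat_lit 7, nat_lit 6, nat_lit 5, nat_lit 4, nat_lit 3, nat_lit 2, nat_lit 1, nat_lit 7, nat_lit 6, nat_lit 5, nat_lit 4, nat_lit 3, nat_lit 2, nat_lit 1, nat_lit 7, nat_lit 6, nat_lit 5, nat_lit 4, nat_lit 3, nat_lit 2, nat_lit 1, nat_lit 7, nat_lit 6, nat_lit 5, nat_lit 4, nat_lit 3, nat_lit 2, nat_lit 1, nat_lit 7, nat_lit 6, nat_lit 5, nat_lit 4, nat_lit 3, nat_lit 2, nat_lit 1],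
  [nat_lit 1, nat_lit 7, nat_lit 6, nat_lit 5, nat_lit 4, nat_lit 3, nat_lit 2, nat_lit 1, nat_lit 7, nat_lit 6, nat_lit 5, nat_lit 4, nat_lit 3, nat_lit 2, nat_lit 1, nat_lit 7, nat_lit 6, nat_lit 5, nat_lit 4, nat_lit 3, nat_lit 2, nat_lit 1, nat_lit 7, nat_lit 6, nat_lit 5, nat_lit 4, nat_lit 3, nat_lit 2, nat_lit 1, nat_lit 7, nat_lit 6, nat_lit 5, nat_lit 4, nat_lit 3, nat_lit 2, nat_lit 1, nat_lit 7, nat_lit 6, nat_lit 5, nat_lit 4, nat_lit 3, nat_lit 2, nat_lit 1, nat_lit 7, nat_lit 6, nat_lit 5, nat_lit 4, nat_lit 3, nat_lit 2, nat_lit 1, nat_lit 7, nat_lit 6, nat_lit 5, nat_lit 4, nat_lit 3, nat_lit 2, nat_lit 1, nat_lit 7, nat_lit 6, nat_lit 5, nat_lit 4, nat_lit 3, nat_lit 2, nat_lit 1, nat_lit 1, nat_lit 7, nat_lit 6, nat_lit 5, nat_lit 4, nat_lit 3, nat_lit 2, nat_lit 1, nat_lit 7, nat_lit 6, nat_lit 5, nat_lit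 4, nat_lit 3, nat_lit 2, nat_lit 1, nat_lit 7, nat_lit 6, nat_lit 5, nat_lit 4, nat_lit 3, nat_lit 2, nat_lit 1, nat_lit 7, nat_lit 6, nat_lit 5, nat_lit 4, nat_lit 3, nat_lit 2, nat_lit 1, nat_lit 7, nat_lit 6, nat_lit 5, nat_lit 4, nat_lit 3, nat_lit 2, nat_lit 1, nat_lit 7, nat_lit 6, nat_lit 5, nat_lit 4, nat_lit 3, nat_lit 2, nat_lit 1, nat_lit 7, nat_lit 6, nat_lit 5, nat_lit 4, nat_lit 3, nat_lit 2, nat_lit 1, nat_lit 7, nat_lit 6, nat_lit 5, nat_lit 4, nat_lit 3, nat_lit 2, nat_lit 1, nat_lit 7, nat_lit 6, nat_lit 5, nat_lit 4, nat_lit 3, nat_lit 2, nat_lit 1],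
  [nat_lit 2, nat_lit 7, nat_lit 6, nat_lit 5, nat_lit 4, nat_lit 3, nat_lit 2, nat_lit 1, nat_lit 7, nat_lit 6, nat_lit 5, nat_lit 4, nat_lit 3, nat_lit 2, nat_lit 1, nat_lit 7, nat_lit 6, nat_lit 5, nat_lit 4, nat_lit 3, nat_lit 2, nat_lit 1, nat_lit 7, nat_lit 6, nat_lit 5, nat_lit 4, nat_lit 3, nat_lit 2, nat_lit 1, nat_lit 7, nat_lit 6, nat_lit 5, nat_lit 4, nat_lit 3, nat_lit 2, nat_lit 1, nat_lit 7, nat_lit 6, nat_lit 5, nat_lit 4, nat_lit 3, nat_lit 2, nat_lit 1, nat_lit 7, nat_lit 6, nat_lit 5, nat_lit 4, nat_lit 3, nat_lit 2, nat_lit 1, nat_lit 7, nat_lit 6, nat_lit 5, nat_lit 4, nat_lit 3, nat_lit 2, nat_lit 1, nat_lit 7, nat_lit 6, nat_lit 5, nat_lit 4, nat_lit 3, nat_lit 2, nat_lit 1, nat_lit 2, nat_lit 7, nat_lit 6, nat_lit 5, nat_lit 4, nat_lit 3, nat_lit 2, nat_lit 1, nat_lit 7, nat_lit 6, nat_lit 5, nat_lit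 4, nat_lit 3, nat_lit 2, nat_lit 1, nat_lit 7, nat_lit 6, nat_lit 5, nat_lit 4, nat_lit 3, nat_lit 2, nat_lit 1, nat_lit 7, nat_lit 6, nat_lit 5, nat_lit 4, nat_lit 3, nat_lit 2, nat_lit 1, nat_lit 7, nat_lit 6, nat_lit 5, nat_lit 4, nat_lit 3, nat_lit 2, nat_lit 1, nat_lit 7, nat_lit 6, nat_lit 5, nat_lit 4, nat_lit 3, nat_lit 2, nat_lit 1, nat_lit 7, nat_lit 6, nat_lit 5, nat_lit 4, nat_lit 3, nat_lit 2, nat_lit 1, nat_lit 7, nat_lit 6, nat_lit 5, nat_lit 4, nat_lit 3, nat_lit 2, nat_lit 1, nat_lit 7, nat_lit 6, nat_lit 5, nat_lit 4, nat_lit 3, nat_lit 2, nat_lit 1]]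
noncomputable def E21 : List (List ℕ) := [[nat_lit 3, nat_lit 7, nat_lit 6, nat_lit 5, nat_lit 4, nat_lit 3, nat_lit 2, nat_lit 1, nat_lit 7, nat_lit 6, nat_lit 5, nat_lit 4, nat_lit 3, nat_lit 2, nat_lit 1, nat_lit 7, nat_lit 6, nat_lit 5, nat_lit 4, nat_lit 3, nat_lit 2, nat_lit 1, nat_lit 7, nat_lit 6, nat_lit 5, nat_lit 4, nat_lit 3, nat_lit 2, nat_lit 1, nat_lit 7, nat_lit 6, nat_lit 5, nat_lit 4, nat_lit 3, nat_lit 2, nat_lit 1, nat_lit 7, nat_lit 6, nat_lit 5, nat_lit 4, nat_lit 3, nat_lit 2, nat_lit 1, nat_lit 7, nat_lit 6, nat_lit 5, nat_lit 4, nat_lit 3, nat_lit 2, nat_lit 1, nat_lit 7, nat_lit 6, nat_lit 5, nat_lit 4, nat_lit 3, nat_lit 2, nat_lit 1, nat_lit 7, nat_lit 6, nat_lit 5, nat_lit 4, nat_lit 3, nat_lit 2, nat_lit 1, nat_lit 3, nat_lit 7, nat_lit 6, nat_lit 5, nat_lit 4, nat_lit 3, nat_lit 2, nat_lit 1, nat_lit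 7, nat_lit 6, nat_lit 5, nat_lit 4, nat_lit 3, nat_lit 2, nat_lit 1, nat_lit 7, nat_lit 6, nat_lit 5, nat_lit 4, nat_lit 3, nat_lit 2, nat_lit 1, nat_lit 7, nat_lit 6, nat_lit 5, nat_lit 4, nat_lit 3, nat_lit 2, nat_lit 1, nat_lit 7, nat_lit 6, nat_lit 5, nat_lit 4, nat_lit 3, nat_lit 2, nat_lit 1, nat_lit 7, nat_lit 6, nat_lit 5, nat_lit 4, nat_lit 3, nat_lit 2, nat_lit 1, nat_lit 7, nat_lit 6, nat_lit 5, nat_lit 4, nat_lit 3, nat_lit 2, nat_lit 1, nat_lit 7, nat_lit 6, nat_lit 5, nat_lit 4, nat_lit 3, nat_lit 2, nat_lit 1, nat_lit 7, nat_lit 6, nat_lit 5, nat_lit 4, nat_lit 3, nat_lit 2, nat_lit 1],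
  [nat_lit 4, nat_lit 7, nat_lit 6, nat_lit 5, nat_lit 4, nat_lit 3, nat_lit 2, nat_lit 1, nat_lit 7, nat_lit 6, nat_lit 5, nat_lit 4, nat_lit 3, nat_lit 2, nat_lit 1, nat_lit 7, nat_lit 6, nat_lit 5, nat_lit 4, nat_lit 3, nat_lit 2, nat_lit 1, nat_lit 7, nat_lit 6, nat_lit 5, nat_lit 4, nat_lit 3, nat_lit 2, nat_lit 1, nat_lit 7, nat_lit 6, nat_lit 5, nat_lit 4, nat_lit 3, nat_lit 2, nat_lit 1, nat_lit 7, nat_lit 6, nat_lit 5, nat_lit 4, nat_lit 3, nat_lit 2, nat_lit 1, nat_lit 7, nat_lit 6, nat_lit 5, nat_lit 4, nat_lit 3, nat_lit 2, nat_lit 1, nat_lit 7, nat_lit 6, nat_lit 5, nat_lit 4, nat_lit 3, nat_lit 2, nat_lit 1, nat_lit 7, nat_lit 6, nat_lit 5, nat_lit 4, nat_lit 3, nat_lit 2, nat_lit 1, nat_lit 4, nat_lit 7, nat_lit 6, nat_lit 5, nat_lit 4, nat_lit 3, nat_lit 2, nat_lit 1, nat_lit 7, nat_lit 6, nat_lit 5, nat_lit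 4, nat_lit 3, nat_lit 2, nat_lit 1, nat_lit 7, nat_lit 6, nat_lit 5, nat_lit 4, nat_lit 3, nat_lit 2, nat_lit 1, nat_lit 7, nat_lit 6, nat_lit 5, nat_lit 4, nat_lit 3, nat_lit 2, nat_lit 1, nat_lit 7, nat_lit 6, nat_lit 5, nat_lit 4, nat_lit 3, nat_lit 2, nat_lit 1, nat_lit 7, nat_lit 6, nat_lit 5, nat_lit 4, nat_lit 3, nat_lit 2, nat_lit 1, nat_lit 7, nat_lit 6, nat_lit 5, nat_lit 4, nat_lit 3, nat_lit 2, nat_lit 1, nat_lit 7, nat_lit 6, nat_lit 5, nat_lit 4, nat_lit 3, nat_lit 2, nat_lit 1, nat_lit 7, nat_lit 6, nat_lit 5, nat_lit 4, nat_lit 3, nat_lit 2, nat_lit 1],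
  [nat_lit 5, nat_lit 7, nat_lit 6, nat_lit 5, nat_lit 4, nat_lit 3, nat_lit 2, nat_lit 1, nat_lit 7, nat_lit 6, nat_lit 5, nat_lit 4, nat_lit 3, nat_lit 2, nat_lit 1, nat_lit 7, nat_lit 6, nat_lit 5, nat_lit 4, nat_lit 3, nat_lit 2, nat_lit 1, nat_lit 7, nat_lit 6, nat_lit 5, nat_lit 4, nat_lit 3, nat_lit 2, nat_lit 1, nat_lit 7, nat_lit 6, nat_lit 5, nat_lit 4, nat_lit 3, nat_lit 2, nat_lit 1, nat_lit 7, nat_lit 6, nat_lit 5, nat_lit 4, nat_lit 3, nat_lit 2, nat_lit 1, nat_lit 7, nat_lit 6, nat_lit 5, nat_lit 4, nat_lit 3, nat_lit 2, nat_lit 1, nat_lit 7, nat_lit 6, nat_lit 5, nat_lit 4, nat_lit 3, nat_lit 2, nat_lit 1, nat_lit 7, nat_lit 6, nat_lit 5, nat_lit 4, nat_lit 3, nat_lit 2, nat_lit 1, nat_lit 5, nat_lit 7, nat_lit 6, nat_lit 5, nat_lit 4, nat_lit 3, nat_lit 2, nat_lit 1, nat_lit 7, nat_lit 6, nat_lit 5, nat_lit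 4, nat_lit 3, nat_lit 2, nat_lit 1, nat_lit 7, nat_lit 6, nat_lit 5, nat_lit 4, nat_lit 3, nat_lit 2, nat_lit 1, nat_lit 7, nat_lit 6, nat_lit 5, nat_lit 4, nat_lit 3, nat_lit 2, nat_lit 1, nat_lit 7, nat_lit 6, nat_lit 5, nat_lit 4, nat_lit 3, nat_lit 2, nat_lit 1, nat_lit 7, nat_lit 6, nat_lit 5, nat_lit 4, nat_lit 3, nat_lit 2, nat_lit 1, nat_lit 7, nat_lit 6, nat_lit 5, nat_lit 4, nat_lit 3, nat_lit 2, nat_lit 1, nat_lit 7, nat_lit 6, nat_lit 5, nat_lit 4, nat_lit 3, nat_lit 2, nat_lit 1, nat_lit 7, nat_lit 6, nat_lit 5, nat_lit 4, nat_lit 3, nat_lit 2, nat_lit 1]]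
noncomputable def E22 : List (List ℕ) := [[nat_lit 6, nat_lit 7, nat_lit 6, nat_lit 5, nat_lit 4, nat_lit 3, nat_lit 2, nat_lit 1, nat_lit 7, nat_lit 6, nat_lit 5, nat_lit 4, nat_lit 3, nat_lit 2, nat_lit 1, nat_lit 7, nat_lit 6, nat_lit 5, nat_lit 4, nat_lit 3, nat_lit 2, nat_lit 1, nat_lit 7, nat_lit 6, nat_lit 5, nat_lit 4, nat_lit 3, nat_lit 2, nat_lit 1, nat_lit 7, nat_lit 6, nat_lit 5, nat_lit 4, nat_lit 3, nat_lit 2, nat_lit 1, nat_lit 7, nat_lit 6, nat_lit 5, nat_lit 4, nat_lit 3, nat_lit 2, nat_lit 1, nat_lit 7, nat_lit 6, nat_lit 5, nat_lit 4, nat_lit 3, nat_lit 2, nat_lit 1, nat_lit 7, nat_lit 6, nat_lit 5, nat_lit 4, nat_lit 3, nat_lit 2, nat_lit 1, nat_lit 7, nat_lit 6, nat_lit 5, nat_lit 4, nat_lit 3, nat_lit 2, nat_lit 1, nat_lit 6, nat_lit 7, nat_lit 6, nat_lit 5, nat_lit 4, nat_lit 3, nat_lit 2, nat_lit 1, nat_lit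 7, nat_lit 6, nat_lit 5, nat_lit 4, nat_lit 3, nat_lit 2, nat_lit 1, nat_lit 7, nat_lit 6, nat_lit 5, nat_lit 4, nat_lit 3, nat_lit 2, nat_lit 1, nat_lit 7, nat_lit 6, nat_lit 5, nat_lit 4, nat_lit 3, nat_lit 2, nat_lit 1, nat_lit 7, nat_lit 6, nat_lit 5, nat_lit 4, nat_lit 3, nat_lit 2, nat_lit 1, nat_lit 7, nat_lit 6, nat_lit 5, nat_lit 4, nat_lit 3, nat_lit 2, nat_lit 1, nat_lit 7, nat_lit 6, nat_lit 5, nat_lit 4, nat_lit 3, nat_lit 2, nat_lit 1, nat_lit 7, nat_lit 6, nat_lit 5, nat_lit 4, nat_lit 3, nat_lit 2, nat_lit 1, nat_lit 7, nat_lit 6, nat_lit 5, nat_lit 4, nat_lit 3, nat_lit 2, nat_lit 1],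
  [nat_lit 7, nat_lit 7, nat_lit 6, nat_lit 5, nat_lit 4, nat_lit 3, nat_lit 2, nat_lit 1, nat_lit 7, nat_lit 6, nat_lit 5, nat_lit 4, nat_lit 3, nat_lit 2, nat_lit 1, nat_lit 7, nat_lit 6, nat_lit 5, nat_lit 4, nat_lit 3, nat_lit 2, nat_lit 1, nat_lit 7, nat_lit 6, nat_lit 5, nat_lit 4, nat_lit 3, nat_lit 2, nat_lit 1, nat_lit 7, nat_lit 6, nat_lit 5, nat_lit 4, nat_lit 3, nat_lit 2, nat_lit 1, nat_lit 7, nat_lit 6, nat_lit 5, nat_lit 4, nat_lit 3, nat_lit 2, nat_lit 1, nat_lit 7, nat_lit 6, nat_lit 5, nat_lit 4, nat_lit 3, nat_lit 2, nat_lit 1, nat_lit 7, nat_lit 6, nat_lit 5, nat_lit 4, nat_lit 3, nat_lit 2, nat_lit 1, nat_lit 7, nat_lit 6, nat_lit 5, nat_lit 4, nat_lit 3, nat_lit 2, nat_lit 1, nat_lit 7, nat_lit 7, nat_lit 6, nat_lit 5, nat_lit 4, nat_lit 3, nat_lit 2, nat_lit 1, nat_lit 7, nat_lit 6, nat_lit 5, nat_lit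 4, nat_lit 3, nat_lit 2, nat_lit 1, nat_lit 7, nat_lit 6, nat_lit 5, nat_lit 4, nat_lit 3, nat_lit 2, nat_lit 1, nat_lit 7, nat_lit 6, nat_lit 5, nat_lit 4, nat_lit 3, nat_lit 2, nat_lit 1, nat_lit 7, nat_lit 6, nat_lit 5, nat_lit 4, nat_lit 3, nat_lit 2, nat_lit 1, nat_lit 7, nat_lit 6, nat_lit 5, nat_lit 4, nat_lit 3, nat_lit 2, nat_lit 1, nat_lit 7, nat_lit 6, nat_lit 5, nat_lit 4, nat_lit 3, nat_lit 2, nat_lit 1, nat_lit 7, nat_lit 6, nat_lit 5, nat_lit 4, nat_lit 3, nat_lit 2, nat_lit 1, nat_lit 7, nat_lit 6, nat_lit 5, nat_lit 4, nat_lit 3, nat_lit 2, nat_lit 1],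
  [nat_lit 8, nat_lit 7, nat_lit 6, nat_lit 5, nat_lit 4, nat_lit 3, nat_lit 2, nat_lit 1, nat_lit 7, nat_lit 6, nat_lit 5, nat_lit 4, nat_lit 3, nat_lit 2, nat_lit 1, nat_lit 7, nat_lit 6, nat_lit 5, nat_lit 4, nat_lit 3, nat_lit 2, nat_lit 1, nat_lit 7, nat_lit 6, nat_lit 5, nat_lit 4, nat_lit 3, nat_lit 2, nat_lit 1, nat_lit 7, nat_lit 6, nat_lit 5, nat_lit 4, nat_lit 3, nat_lit 2, nat_lit 1, nat_lit 7, nat_lit 6, nat_lit 5, nat_lit 4, nat_lit 3, nat_lit 2, nat_lit 1, nat_lit 7, nat_lit 6, nat_lit 5, nat_lit 4, nat_lit 3, nat_lit 2, nat_lit 1, nat_lit 7, nat_lit 6, nat_lit 5, nat_lit 4, nat_lit 3, nat_lit 2, nat_lit 1, nat_lit 7, nat_lit 6, nat_lit 5, nat_lit 4, nat_lit 3, nat_lit 2, nat_lit 1, nat_lit 8, nat_lit 7, nat_lit 6, nat_lit 5, nat_lit 4, nat_lit 3, nat_lit 2, nat_lit 1, nat_lit 7, nat_lit 6, nat_lit 5, nat_lit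 4, nat_lit 3, nat_lit 2, nat_lit 1, nat_lit 7, nat_lit 6, nat_lit 5, nat_lit 4, nat_lit 3, nat_lit 2, nat_lit 1, nat_lit 7, nat_lit 6, nat_lit 5, nat_lit 4, nat_lit 3, nat_lit 2, nat_lit 1, nat_lit 7, nat_lit 6, nat_lit 5, nat_lit 4, nat_lit 3, nat_lit 2, nat_lit 1, nat_lit 7, nat_lit 6, nat_lit 5, nat_lit 4, nat_lit 3, nat_lit 2, nat_lit 1, nat_lit 7, nat_lit 6, nat_lit 5, nat_lit 4, nat_lit 3, nat_lit 2, nat_lit 1, nat_lit 7, nat_lit 6, nat_lit 5, nat_lit 4, nat_lit 3, nat_lit 2, nat_lit 1, nat_lit 7, nat_lit 6, nat_lit 5, nat_lit 4, nat_lit 3, nat_lit 2, nat_lit 1]]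
noncomputable def E23 : List (List ℕ) := [[nat_lit 7, nat_lit 6, nat_lit 5, nat_lit 4, nat_lit 3, nat_lit 2, nat_lit 1, nat_lit 7, nat_lit 6, nat_lit 5, nat_lit 4, nat_lit 3, nat_lit 2, nat_lit 1, nat_lit 7, nat_lit 6, nat_lit 5, nat_lit 4, nat_lit 3, nat_lit 2, nat_lit 1, nat_lit 7, nat_lit 6, nat_lit 5, nat_lit 4, nat_lit 3, nat_lit 2, nat_lit 1, nat_lit 7, nat_lit 6, nat_lit 5, nat_lit 4, nat_lit 3, nat_lit 2, nat_lit 1, nat_lit 7, nat_lit 6, nat_lit 5, nat_lit 4, nat_lit 3, nat_lit 2, nat_lit 1, nat_lit 7, nat_lit 6, nat_lit 5, nat_lit 4, nat_lit 3, nat_lit 2, nat_lit 1, nat_lit 7, nat_lit 6, nat_lit 5, nat_lit 4, nat_lit 3, nat_lit 2, nat_lit 1, nat_lit 7, nat_lit 6, nat_lit 5, nat_lit 4, nat_lit 3, nat_lit 2, nat_lit 1, nat_lit 7, nat_lit 6, nat_lit 5, nat_lit 4, nat_lit 3, nat_lit 2, nat_lit 1, nat_lit 7, nat_lit 6, nat_lit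 5, nat_lit 4, nat_lit 3, nat_lit 2, nat_lit 1, nat_lit 7, nat_lit 6, nat_lit 5, nat_lit 4, nat_lit 3, nat_lit 2, nat_lit 1, nat_lit 7, nat_lit 6, nat_lit 5, nat_lit 4, nat_lit 3, nat_lit 2, nat_lit 1, nat_lit 7, nat_lit 6, nat_lit 5, nat_lit 4, nat_lit 3, nat_lit 2, nat_lit 1, nat_lit 7, nat_lit 6, nat_lit 5, nat_lit 4, nat_lit 3, nat_lit 2, nat_lit 1, nat_lit 7, nat_lit 6, nat_lit 5, nat_lit 4, nat_lit 3, nat_lit 2, nat_lit 1, nat_lit 7, nat_lit 6, nat_lit 5, nat_lit 4, nat_lit 3, nat_lit 2, nat_lit 1, nat_lit 7, nat_lit 6, nat_lit 5, nat_lit 4, nat_lit 3, nat_lit 2, nat_lit 1],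
  [nat_lit 2, nat_lit 6, nat_lit 5, nat_lit 4, nat_lit 3, nat_lit 7, nat_lit 8, nat_lit 2, nat_lit 6, nat_lit 5, nat_lit 4, nat_lit 3, nat_lit 7, nat_lit 8, nat_lit 2, nat_lit 6, nat_lit 5, nat_lit 4, nat_lit 3, nat_lit 7, nat_lit 8, nat_lit 2, nat_lit 6, nat_lit 5, nat_lit 4, nat_lit 3, nat_lit 7, nat_lit 8, nat_lit 2, nat_lit 6, nat_lit 5, nat_lit 4, nat_lit 3, nat_lit 7, nat_lit 8, nat_lit 2, nat_lit 6, nat_lit 5, nat_lit 4, nat_lit 3, nat_lit 7, nat_lit 8, nat_lit 2, nat_lit 6, nat_lit 5, nat_lit 4, nat_lit 3, nat_lit 7, nat_lit 8, nat_lit 2, nat_lit 6, nat_lit 5, nat_lit 4, nat_lit 3, nat_lit 7, nat_lit 8, nat_lit 2, nat_lit 6, nat_lit 5, nat_lit 4, nat_lit 3, nat_lit 7, nat_lit 8, nat_lit 7, nat_lit 6, nat_lit 5, nat_lit 4, nat_lit 3, nat_lit 2, nat_lit 1, nat_lit 7, nat_lit 6, nat_lit 5, nat_lit 4, nat_lit 3, nat_lit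 2, nat_lit 1, nat_lit 7, nat_lit 6, nat_lit 5, nat_lit 4, nat_lit 3, nat_lit 2, nat_lit 1, nat_lit 7, nat_lit 6, nat_lit 5, nat_lit 4, nat_lit 3, nat_lit 2, nat_lit 1, nat_lit 7, nat_lit 6, nat_lit 5, nat_lit 4, nat_lit 3, nat_lit 2, nat_lit 1, nat_lit 7, nat_lit 6, nat_lit 5, nat_lit 4, nat_lit 3, nat_lit 2, nat_lit 1, nat_lit 7, nat_lit 6, nat_lit 5, nat_lit 4, nat_lit 3, nat_lit 2, nat_lit 1, nat_lit 7, nat_lit 6, nat_lit 5, nat_lit 4, nat_lit 3, nat_lit 2, nat_lit 1, nat_lit 7, nat_lit 6, nat_lit 5, nat_lit 4, nat_lit 3, nat_lit 2, nat_lit 1]]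
theorem s2 : subW (P2 ++ (E20 ++ E21 ++ E22 ++ E23)) (nat_lit 11) U2 Q1
  [[],
  [],
  [],
  [],
  [],
  [],
  [],
  [],
  [],
  [],
  [([], (nat_lit 23))],
  [([], (nat_lit 25))],
  [([], (nat_lit 27))],
  [([], (nat_lit 29))],
  [([], (nat_lit 31))],
  [([], (nat_lit 33))],
  [([], (nat_lit 35))],
  [([], (nat_lit 37))],
  [([], (nat_lit 39))],
  [([], (nat_lit 41))],
  [([], (nat_lit 43))],
  [([], (nat_lit 45))],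
  [([], (nat_lit 47))],
  [([], (nat_lit 49))],
  [([], (nat_lit 51))],
  [([], (nat_lit 53))],
  [([], (nat_lit 55))],
  [([], (nat_lit 57))],
  [([], (nat_lit 59))],
  [([], (nat_lit 61))],
  [([], (nat_lit 63))],
  [([], (nat_lit 65))],
  [([], (nat_lit 67))],
  [([], (nat_lit 69))],
  [([], (nat_lit 71))],
  [([], (nat_lit 73))],
  [([], (nat_lit 75))],
  [([], (nat_lit 77))],
  [([], (nat_lit 79))],
  [([], (nat_lit 81))],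
  [([], (nat_lit 83))],
  [([], (nat_lit 85))],
  [([], (nat_lit 87))],
  [([], (nat_lit 89))],
  [([], (nat_lit 91))],
  [([], (nat_lit 93))],
  [([], (nat_lit 115))],
  [([], (nat_lit 113))],
  [([], (nat_lit 117))],
  [([], (nat_lit 119))],
  [([], (nat_lit 121))],
  [([], (nat_lit 123))],
  [([], (nat_lit 125))],
  [([], (nat_lit 127))],
  [([nat_lit 10, nat_lit 2], (nat_lit 119))],
  [([nat_lit 10, nat_lit 1], (nat_lit 117))],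
  [([], (nat_lit 135))],
  [([], (nat_lit 137))],
  [([], (nat_lit 139))],
  [([], (nat_lit 141))],
  [([], (nat_lit 143))],
  [([], (nat_lit 145))],
  [([], (nat_lit 147))],
  [([], (nat_lit 149))],
  [([], (nat_lit 151))],
  [([], (nat_lit 153))],
  [([], (nat_lit 157)), ([nat_lit 2, nat_lit 6, nat_lit 5, nat_lit 4, nat_lit 3, nat_lit 7, nat_lit 8, nat_lit 2, nat_lit 6, nat_lit 5, nat_lit 4, nat_lit 3, nat_lit 7, nat_lit 8, nat_lit 2, nat_lit 6, nat_lit 5, nat_lit 4, nat_lit 3, nat_lit 7, nat_lit 8, nat_lit 2, nat_lit 6, nat_lit 5, nat_lit 4, nat_lit 3, nat_lit 7, nat_lit 8, nat_lit 2, nat_lit 6, nat_lit 5, nat_lit 4, nat_lit 3, nat_lit 7, nat_lit 8, nat_lit 2, nat_lit 6, nat_lit 5, nat_lit 4, nat_lit 3, nat_lit 7, nat_lit 8, nat_lit 2, nat_lit 6, nat_lit 5, nat_lit 4, nat_lit 3, nat_lit 7, nat_lit 8, nat_lit 2, nat_lit 6,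 nat_lit 5, nat_lit 4, nat_lit 3, nat_lit 7, nat_lit 8, nat_lit 2, nat_lit 6, nat_lit 5, nat_lit 4, nat_lit 3, nat_lit 7, nat_lit 8, nat_lit 10, nat_lit 1], (nat_lit 117)), ([nat_lit 2, nat_lit 6, nat_lit 5, nat_lit 4, nat_lit 3, nat_lit 7, nat_lit 8, nat_lit 2, nat_lit 6, nat_lit 5, nat_lit 4, nat_lit 3, nat_lit 7, nat_lit 8, nat_lit 2, nat_lit 6, nat_lit 5, nat_lit 4, nat_lit 3, nat_lit 7, nat_lit 8, nat_lit 2, nat_lit 6, nat_lit 5, nat_lit 4, nat_lit 3, nat_lit 7, nat_lit 8, nat_lit 2, nat_lit 6, nat_lit 5, nat_lit 4, nat_lit 3, nat_lit 7, nat_lit 8, nat_lit 2, nat_lit 6, nat_lit 5, nat_lit 4, nat_lit 3, nat_lit 7, nat_lit 8, nat_lit 2, nat_lit 6, nat_lit 5, nat_lit 4, nat_lit 3, nat_lit 7, nat_lit 8, nat_lit 2, nat_lit 6, nat_lit 5, nat_lit 4, nat_lit 3, nat_lit 7, nat_lit 8, nat_lit 2, nat_lit 6, nat_lit 5, nat_lit 4, nat_lit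 3, nat_lit 7, nat_lit 10, nat_lit 2], (nat_lit 119)), ([nat_lit 2, nat_lit 6, nat_lit 5, nat_lit 4, nat_lit 3, nat_lit 7, nat_lit 8, nat_lit 2, nat_lit 6, nat_lit 5, nat_lit 4, nat_lit 3, nat_lit 7, nat_lit 8, nat_lit 2, nat_lit 6, nat_lit 5, nat_lit 4, nat_lit 3, nat_lit 7, nat_lit 8, nat_lit 2, nat_lit 6, nat_lit 5, nat_lit 4, nat_lit 3, nat_lit 7, nat_lit 8, nat_lit 2, nat_lit 6, nat_lit 5, nat_lit 4, nat_lit 3, nat_lit 7, nat_lit 8, nat_lit 2, nat_lit 6, nat_lit 5, nat_lit 4, nat_lit 3, nat_lit 7, nat_lit 8, nat_lit 2, nat_lit 6, nat_lit 5, nat_lit 4, nat_lit 3, nat_lit 7, nat_lit 8, nat_lit 2, nat_lit 6, nat_lit 5, nat_lit 4, nat_lit 3, nat_lit 7, nat_lit 8, nat_lit 2, nat_lit 6, nat_lit 5, nat_lit 4, nat_lit 3], (nat_lit 121)), ([nat_lit 2, nat_lit 6, nat_lit 5, nat_lit 4, nat_lit 3, nat_lit 7, nat_lit 8, nat_lit 2, nat_lit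 6, nat_lit 5, nat_lit 4, nat_lit 3, nat_lit 7, nat_lit 8, nat_lit 2, nat_lit 6, nat_lit 5, nat_lit 4, nat_lit 3, nat_lit 7, nat_lit 8, nat_lit 2, nat_lit 6, nat_lit 5, nat_lit 4, nat_lit 3, nat_lit 7, nat_lit 8, nat_lit 2, nat_lit 6, nat_lit 5, nat_lit 4, nat_lit 3, nat_lit 7, nat_lit 8, nat_lit 2, nat_lit 6, nat_lit 5, nat_lit 4, nat_lit 3, nat_lit 7, nat_lit 8, nat_lit 2, nat_lit 6, nat_lit 5, nat_lit 4, nat_lit 3, nat_lit 7, nat_lit 8, nat_lit 2, nat_lit 6, nat_lit 5, nat_lit 4, nat_lit 3, nat_lit 7, nat_lit 8, nat_lit 2, nat_lit 6, nat_lit 5, nat_lit 4], (nat_lit 123)), ([nat_lit 2, nat_lit 6, nat_lit 5, nat_lit 4, nat_lit 3, nat_lit 7, nat_lit 8, nat_lit 2, nat_lit 6, nat_lit 5, nat_lit 4, nat_lit 3, nat_lit 7, nat_lit 8, nat_lit 2, nat_lit 6, nat_lit 5, nat_lit 4, nat_lit 3, nat_lit 7, nat_lit 8, nat_lit 2, nat_lit 6,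 nat_lit 5, nat_lit 4, nat_lit 3, nat_lit 7, nat_lit 8, nat_lit 2, nat_lit 6, nat_lit 5, nat_lit 4, nat_lit 3, nat_lit 7, nat_lit 8, nat_lit 2, nat_lit 6, nat_lit 5, nat_lit 4, nat_lit 3, nat_lit 7, nat_lit 8, nat_lit 2, nat_lit 6, nat_lit 5, nat_lit 4, nat_lit 3, nat_lit 7, nat_lit 8, nat_lit 2, nat_lit 6, nat_lit 5, nat_lit 4, nat_lit 3, nat_lit 7, nat_lit 8, nat_lit 2, nat_lit 6, nat_lit 5], (nat_lit 125)), ([nat_lit 2, nat_lit 6, nat_lit 5, nat_lit 4, nat_lit 3, nat_lit 7, nat_lit 8, nat_lit 2, nat_lit 6, nat_lit 5, nat_lit 4, nat_lit 3, nat_lit 7, nat_lit 8, nat_lit 2, nat_lit 6, nat_lit 5, nat_lit 4, nat_lit 3, nat_lit 7, nat_lit 8, nat_lit 2, nat_lit 6, nat_lit 5, nat_lit 4, nat_lit 3, nat_lit 7, nat_lit 8, nat_lit 2, nat_lit 6, nat_lit 5, nat_lit 4, nat_lit 3, nat_lit 7, nat_lit 8, nat_lit 2, nat_lit 6, nat_lit 5, nat_lit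 4, nat_lit 3, nat_lit 7, nat_lit 8, nat_lit 2, nat_lit 6, nat_lit 5, nat_lit 4, nat_lit 3, nat_lit 7, nat_lit 8, nat_lit 2, nat_lit 6, nat_lit 5, nat_lit 4, nat_lit 3, nat_lit 7, nat_lit 8, nat_lit 2, nat_lit 6], (nat_lit 127)), ([nat_lit 2, nat_lit 6, nat_lit 5, nat_lit 4, nat_lit 3, nat_lit 7, nat_lit 8, nat_lit 2, nat_lit 6, nat_lit 5, nat_lit 4, nat_lit 3, nat_lit 7, nat_lit 8, nat_lit 2, nat_lit 6, nat_lit 5, nat_lit 4, nat_lit 3, nat_lit 7, nat_lit 8, nat_lit 2, nat_lit 6, nat_lit 5, nat_lit 4, nat_lit 3, nat_lit 7, nat_lit 8, nat_lit 2, nat_lit 6, nat_lit 5, nat_lit 4, nat_lit 3, nat_lit 7, nat_lit 8, nat_lit 2, nat_lit 6, nat_lit 5, nat_lit 4, nat_lit 3, nat_lit 7, nat_lit 8, nat_lit 2, nat_lit 6, nat_lit 5, nat_lit 4, nat_lit 3, nat_lit 7, nat_lit 8, nat_lit 2, nat_lit 6, nat_lit 5, nat_lit 4, nat_lit 3, nat_lit 7,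 nat_lit 8, nat_lit 2], (nat_lit 119)), ([nat_lit 2, nat_lit 6, nat_lit 5, nat_lit 4, nat_lit 3, nat_lit 7, nat_lit 8, nat_lit 2, nat_lit 6, nat_lit 5, nat_lit 4, nat_lit 3, nat_lit 7, nat_lit 8, nat_lit 2, nat_lit 6, nat_lit 5, nat_lit 4, nat_lit 3, nat_lit 7, nat_lit 8, nat_lit 2, nat_lit 6, nat_lit 5, nat_lit 4, nat_lit 3, nat_lit 7, nat_lit 8, nat_lit 2, nat_lit 6, nat_lit 5, nat_lit 4, nat_lit 3, nat_lit 7, nat_lit 8, nat_lit 2, nat_lit 6, nat_lit 5, nat_lit 4, nat_lit 3, nat_lit 7, nat_lit 8, nat_lit 2, nat_lit 6, nat_lit 5, nat_lit 4, nat_lit 3, nat_lit 7, nat_lit 8, nat_lit 2, nat_lit 6, nat_lit 5, nat_lit 4, nat_lit 3, nat_lit 7, nat_lit 8, nat_lit 10, nat_lit 1], (nat_lit 117)), ([nat_lit 2, nat_lit 6, nat_lit 5, nat_lit 4, nat_lit 3, nat_lit 7, nat_lit 8, nat_lit 2, nat_lit 6, nat_lit 5, nat_lit 4, nat_lit 3, nat_lit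 7, nat_lit 8, nat_lit 2, nat_lit 6, nat_lit 5, nat_lit 4, nat_lit 3, nat_lit 7, nat_lit 8, nat_lit 2, nat_lit 6, nat_lit 5, nat_lit 4, nat_lit 3, nat_lit 7, nat_lit 8, nat_lit 2, nat_lit 6, nat_lit 5, nat_lit 4, nat_lit 3, nat_lit 7, nat_lit 8, nat_lit 2, nat_lit 6, nat_lit 5, nat_lit 4, nat_lit 3, nat_lit 7, nat_lit 8, nat_lit 2, nat_lit 6, nat_lit 5, nat_lit 4, nat_lit 3, nat_lit 7, nat_lit 8, nat_lit 2, nat_lit 6, nat_lit 5, nat_lit 4, nat_lit 3, nat_lit 7, nat_lit 10, nat_lit 2], (nat_lit 119)), ([nat_lit 2, nat_lit 6, nat_lit 5, nat_lit 4, nat_lit 3, nat_lit 7, nat_lit 8, nat_lit 2, nat_lit 6, nat_lit 5, nat_lit 4, nat_lit 3, nat_lit 7, nat_lit 8, nat_lit 2, nat_lit 6, nat_lit 5, nat_lit 4, nat_lit 3, nat_lit 7, nat_lit 8, nat_lit 2, nat_lit 6, nat_lit 5, nat_lit 4, nat_lit 3, nat_lit 7, nat_lit 8, nat_lit 2, nat_lit 6,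 nat_lit 5, nat_lit 4, nat_lit 3, nat_lit 7, nat_lit 8, nat_lit 2, nat_lit 6, nat_lit 5, nat_lit 4, nat_lit 3, nat_lit 7, nat_lit 8, nat_lit 2, nat_lit 6, nat_lit 5, nat_lit 4, nat_lit 3, nat_lit 7, nat_lit 8, nat_lit 2, nat_lit 6, nat_lit 5, nat_lit 4, nat_lit 3], (nat_lit 121)), ([nat_lit 2, nat_lit 6, nat_lit 5, nat_lit 4, nat_lit 3, nat_lit 7, nat_lit 8, nat_lit 2, nat_lit 6, nat_lit 5, nat_lit 4, nat_lit 3, nat_lit 7, nat_lit 8, nat_lit 2, nat_lit 6, nat_lit 5, nat_lit 4, nat_lit 3, nat_lit 7, nat_lit 8, nat_lit 2, nat_lit 6, nat_lit 5, nat_lit 4, nat_lit 3, nat_lit 7, nat_lit 8, nat_lit 2, nat_lit 6, nat_lit 5, nat_lit 4, nat_lit 3, nat_lit 7, nat_lit 8, nat_lit 2, nat_lit 6, nat_lit 5, nat_lit 4, nat_lit 3, nat_lit 7, nat_lit 8, nat_lit 2, nat_lit 6, nat_lit 5, nat_lit 4, nat_lit 3, nat_lit 7, nat_lit 8, nat_lit 2, nat_lit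 6, nat_lit 5, nat_lit 4], (nat_lit 123)), ([nat_lit 2, nat_lit 6, nat_lit 5, nat_lit 4, nat_lit 3, nat_lit 7, nat_lit 8, nat_lit 2, nat_lit 6, nat_lit 5, nat_lit 4, nat_lit 3, nat_lit 7, nat_lit 8, nat_lit 2, nat_lit 6, nat_lit 5, nat_lit 4, nat_lit 3, nat_lit 7, nat_lit 8, nat_lit 2, nat_lit 6, nat_lit 5, nat_lit 4, nat_lit 3, nat_lit 7, nat_lit 8, nat_lit 2, nat_lit 6, nat_lit 5, nat_lit 4, nat_lit 3, nat_lit 7, nat_lit 8, nat_lit 2, nat_lit 6, nat_lit 5, nat_lit 4, nat_lit 3, nat_lit 7, nat_lit 8, nat_lit 2, nat_lit 6, nat_lit 5, nat_lit 4, nat_lit 3, nat_lit 7, nat_lit 8, nat_lit 2, nat_lit 6, nat_lit 5], (nat_lit 125)), ([nat_lit 2, nat_lit 6, nat_lit 5, nat_lit 4, nat_lit 3, nat_lit 7, nat_lit 8, nat_lit 2, nat_lit 6, nat_lit 5, nat_lit 4, nat_lit 3, nat_lit 7, nat_lit 8, nat_lit 2, nat_lit 6, nat_lit 5, nat_lit 4, nat_lit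 3, nat_lit 7, nat_lit 8, nat_lit 2, nat_lit 6, nat_lit 5, nat_lit 4, nat_lit 3, nat_lit 7, nat_lit 8, nat_lit 2, nat_lit 6, nat_lit 5, nat_lit 4, nat_lit 3, nat_lit 7, nat_lit 8, nat_lit 2, nat_lit 6, nat_lit 5, nat_lit 4, nat_lit 3, nat_lit 7, nat_lit 8, nat_lit 2, nat_lit 6, nat_lit 5, nat_lit 4, nat_lit 3, nat_lit 7, nat_lit 8, nat_lit 2, nat_lit 6], (nat_lit 127)), ([nat_lit 2, nat_lit 6, nat_lit 5, nat_lit 4, nat_lit 3, nat_lit 7, nat_lit 8, nat_lit 2, nat_lit 6, nat_lit 5, nat_lit 4, nat_lit 3, nat_lit 7, nat_lit 8, nat_lit 2, nat_lit 6, nat_lit 5, nat_lit 4, nat_lit 3, nat_lit 7, nat_lit 8, nat_lit 2, nat_lit 6, nat_lit 5, nat_lit 4, nat_lit 3, nat_lit 7, nat_lit 8, nat_lit 2, nat_lit 6, nat_lit 5, nat_lit 4, nat_lit 3, nat_lit 7, nat_lit 8, nat_lit 2, nat_lit 6, nat_lit 5, nat_lit 4, nat_lit 3, nat_lit 7, nat_lit 8,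 nat_lit 2, nat_lit 6, nat_lit 5, nat_lit 4, nat_lit 3, nat_lit 7, nat_lit 8, nat_lit 2], (nat_lit 119)), ([nat_lit 2, nat_lit 6, nat_lit 5, nat_lit 4, nat_lit 3, nat_lit 7, nat_lit 8, nat_lit 2, nat_lit 6, nat_lit 5, nat_lit 4, nat_lit 3, nat_lit 7, nat_lit 8, nat_lit 2, nat_lit 6, nat_lit 5, nat_lit 4, nat_lit 3, nat_lit 7, nat_lit 8, nat_lit 2, nat_lit 6, nat_lit 5, nat_lit 4, nat_lit 3, nat_lit 7, nat_lit 8, nat_lit 2, nat_lit 6, nat_lit 5, nat_lit 4, nat_lit 3, nat_lit 7, nat_lit 8, nat_lit 2, nat_lit 6, nat_lit 5, nat_lit 4, nat_lit 3, nat_lit 7, nat_lit 8, nat_lit 2, nat_lit 6, nat_lit 5, nat_lit 4, nat_lit 3, nat_lit 7, nat_lit 8, nat_lit 10, nat_lit 1], (nat_lit 117)), ([nat_lit 2, nat_lit 6, nat_lit 5, nat_lit 4, nat_lit 3, nat_lit 7, nat_lit 8, nat_lit 2, nat_lit 6, nat_lit 5, nat_lit 4, nat_lit 3, nat_lit 7, nat_lit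 8, nat_lit 2, nat_lit 6, nat_lit 5, nat_lit 4, nat_lit 3, nat_lit 7, nat_lit 8, nat_lit 2, nat_lit 6, nat_lit 5, nat_lit 4, nat_lit 3, nat_lit 7, nat_lit 8, nat_lit 2, nat_lit 6, nat_lit 5, nat_lit 4, nat_lit 3, nat_lit 7, nat_lit 8, nat_lit 2, nat_lit 6, nat_lit 5, nat_lit 4, nat_lit 3, nat_lit 7, nat_lit 8, nat_lit 2, nat_lit 6, nat_lit 5, nat_lit 4, nat_lit 3, nat_lit 7, nat_lit 10, nat_lit 2], (nat_lit 119)), ([nat_lit 2, nat_lit 6, nat_lit 5, nat_lit 4, nat_lit 3, nat_lit 7, nat_lit 8, nat_lit 2, nat_lit 6, nat_lit 5, nat_lit 4, nat_lit 3, nat_lit 7, nat_lit 8, nat_lit 2, nat_lit 6, nat_lit 5, nat_lit 4, nat_lit 3, nat_lit 7, nat_lit 8, nat_lit 2, nat_lit 6, nat_lit 5, nat_lit 4, nat_lit 3, nat_lit 7, nat_lit 8, nat_lit 2, nat_lit 6, nat_lit 5, nat_lit 4, nat_lit 3, nat_lit 7, nat_lit 8, nat_lit 2, nat_lit 6, nat_lit 5,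 nat_lit 4, nat_lit 3, nat_lit 7, nat_lit 8, nat_lit 2, nat_lit 6, nat_lit 5, nat_lit 4, nat_lit 3], (nat_lit 121)), ([nat_lit 2, nat_lit 6, nat_lit 5, nat_lit 4, nat_lit 3, nat_lit 7, nat_lit 8, nat_lit 2, nat_lit 6, nat_lit 5, nat_lit 4, nat_lit 3, nat_lit 7, nat_lit 8, nat_lit 2, nat_lit 6, nat_lit 5, nat_lit 4, nat_lit 3, nat_lit 7, nat_lit 8, nat_lit 2, nat_lit 6, nat_lit 5, nat_lit 4, nat_lit 3, nat_lit 7, nat_lit 8, nat_lit 2, nat_lit 6, nat_lit 5, nat_lit 4, nat_lit 3, nat_lit 7, nat_lit 8, nat_lit 2, nat_lit 6, nat_lit 5, nat_lit 4, nat_lit 3, nat_lit 7, nat_lit 8, nat_lit 2, nat_lit 6, nat_lit 5, nat_lit 4], (nat_lit 123)), ([nat_lit 2, nat_lit 6, nat_lit 5, nat_lit 4, nat_lit 3, nat_lit 7, nat_lit 8, nat_lit 2, nat_lit 6, nat_lit 5, nat_lit 4, nat_lit 3, nat_lit 7, nat_lit 8, nat_lit 2, nat_lit 6, nat_lit 5, nat_lit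 4, nat_lit 3, nat_lit 7, nat_lit 8, nat_lit 2, nat_lit 6, nat_lit 5, nat_lit 4, nat_lit 3, nat_lit 7, nat_lit 8, nat_lit 2, nat_lit 6, nat_lit 5, nat_lit 4, nat_lit 3, nat_lit 7, nat_lit 8, nat_lit 2, nat_lit 6, nat_lit 5, nat_lit 4, nat_lit 3, nat_lit 7, nat_lit 8, nat_lit 2, nat_lit 6, nat_lit 5], (nat_lit 125)), ([nat_lit 2, nat_lit 6, nat_lit 5, nat_lit 4, nat_lit 3, nat_lit 7, nat_lit 8, nat_lit 2, nat_lit 6, nat_lit 5, nat_lit 4, nat_lit 3, nat_lit 7, nat_lit 8, nat_lit 2, nat_lit 6, nat_lit 5, nat_lit 4, nat_lit 3, nat_lit 7, nat_lit 8, nat_lit 2, nat_lit 6, nat_lit 5, nat_lit 4, nat_lit 3, nat_lit 7, nat_lit 8, nat_lit 2, nat_lit 6, nat_lit 5, nat_lit 4, nat_lit 3, nat_lit 7, nat_lit 8, nat_lit 2, nat_lit 6, nat_lit 5, nat_lit 4, nat_lit 3, nat_lit 7, nat_lit 8, nat_lit 2, nat_lit 6], (nat_lit 127)), ([nat_lit 2, nat_lit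 6, nat_lit 5, nat_lit 4, nat_lit 3, nat_lit 7, nat_lit 8, nat_lit 2, nat_lit 6, nat_lit 5, nat_lit 4, nat_lit 3, nat_lit 7, nat_lit 8, nat_lit 2, nat_lit 6, nat_lit 5, nat_lit 4, nat_lit 3, nat_lit 7, nat_lit 8, nat_lit 2, nat_lit 6, nat_lit 5, nat_lit 4, nat_lit 3, nat_lit 7, nat_lit 8, nat_lit 2, nat_lit 6, nat_lit 5, nat_lit 4, nat_lit 3, nat_lit 7, nat_lit 8, nat_lit 2, nat_lit 6, nat_lit 5, nat_lit 4, nat_lit 3, nat_lit 7, nat_lit 8, nat_lit 2], (nat_lit 119)), ([nat_lit 2, nat_lit 6, nat_lit 5, nat_lit 4, nat_lit 3, nat_lit 7, nat_lit 8, nat_lit 2, nat_lit 6, nat_lit 5, nat_lit 4, nat_lit 3, nat_lit 7, nat_lit 8, nat_lit 2, nat_lit 6, nat_lit 5, nat_lit 4, nat_lit 3, nat_lit 7, nat_lit 8, nat_lit 2, nat_lit 6, nat_lit 5, nat_lit 4, nat_lit 3, nat_lit 7, nat_lit 8, nat_lit 2, nat_lit 6, nat_lit 5, nat_lit 4, nat_lit 3,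 nat_lit 7, nat_lit 8, nat_lit 2, nat_lit 6, nat_lit 5, nat_lit 4, nat_lit 3, nat_lit 7, nat_lit 8, nat_lit 10, nat_lit 1], (nat_lit 117)), ([nat_lit 2, nat_lit 6, nat_lit 5, nat_lit 4, nat_lit 3, nat_lit 7, nat_lit 8, nat_lit 2, nat_lit 6, nat_lit 5, nat_lit 4, nat_lit 3, nat_lit 7, nat_lit 8, nat_lit 2, nat_lit 6, nat_lit 5, nat_lit 4, nat_lit 3, nat_lit 7, nat_lit 8, nat_lit 2, nat_lit 6, nat_lit 5, nat_lit 4, nat_lit 3, nat_lit 7, nat_lit 8, nat_lit 2, nat_lit 6, nat_lit 5, nat_lit 4, nat_lit 3, nat_lit 7, nat_lit 8, nat_lit 2, nat_lit 6, nat_lit 5, nat_lit 4, nat_lit 3, nat_lit 7, nat_lit 10, nat_lit 2], (nat_lit 119)), ([nat_lit 2, nat_lit 6, nat_lit 5, nat_lit 4, nat_lit 3, nat_lit 7, nat_lit 8, nat_lit 2, nat_lit 6, nat_lit 5, nat_lit 4, nat_lit 3, nat_lit 7, nat_lit 8, nat_lit 2, nat_lit 6, nat_lit 5, nat_lit 4, nat_lit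 3, nat_lit 7, nat_lit 8, nat_lit 2, nat_lit 6, nat_lit 5, nat_lit 4, nat_lit 3, nat_lit 7, nat_lit 8, nat_lit 2, nat_lit 6, nat_lit 5, nat_lit 4, nat_lit 3, nat_lit 7, nat_lit 8, nat_lit 2, nat_lit 6, nat_lit 5, nat_lit 4, nat_lit 3], (nat_lit 121)), ([nat_lit 2, nat_lit 6, nat_lit 5, nat_lit 4, nat_lit 3, nat_lit 7, nat_lit 8, nat_lit 2, nat_lit 6, nat_lit 5, nat_lit 4, nat_lit 3, nat_lit 7, nat_lit 8, nat_lit 2, nat_lit 6, nat_lit 5, nat_lit 4, nat_lit 3, nat_lit 7, nat_lit 8, nat_lit 2, nat_lit 6, nat_lit 5, nat_lit 4, nat_lit 3, nat_lit 7, nat_lit 8, nat_lit 2, nat_lit 6, nat_lit 5, nat_lit 4, nat_lit 3, nat_lit 7, nat_lit 8, nat_lit 2, nat_lit 6, nat_lit 5, nat_lit 4], (nat_lit 123)), ([nat_lit 2, nat_lit 6, nat_lit 5, nat_lit 4, nat_lit 3, nat_lit 7, nat_lit 8, nat_lit 2, nat_lit 6, nat_lit 5, nat_lit 4, nat_lit 3, nat_lit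 7, nat_lit 8, nat_lit 2, nat_lit 6, nat_lit 5, nat_lit 4, nat_lit 3, nat_lit 7, nat_lit 8, nat_lit 2, nat_lit 6, nat_lit 5, nat_lit 4, nat_lit 3, nat_lit 7, nat_lit 8, nat_lit 2, nat_lit 6, nat_lit 5, nat_lit 4, nat_lit 3, nat_lit 7, nat_lit 8, nat_lit 2, nat_lit 6, nat_lit 5], (nat_lit 125)), ([nat_lit 2, nat_lit 6, nat_lit 5, nat_lit 4, nat_lit 3, nat_lit 7, nat_lit 8, nat_lit 2, nat_lit 6, nat_lit 5, nat_lit 4, nat_lit 3, nat_lit 7, nat_lit 8, nat_lit 2, nat_lit 6, nat_lit 5, nat_lit 4, nat_lit 3, nat_lit 7, nat_lit 8, nat_lit 2, nat_lit 6, nat_lit 5, nat_lit 4, nat_lit 3, nat_lit 7, nat_lit 8, nat_lit 2, nat_lit 6, nat_lit 5, nat_lit 4, nat_lit 3, nat_lit 7, nat_lit 8, nat_lit 2, nat_lit 6], (nat_lit 127)), ([nat_lit 2, nat_lit 6, nat_lit 5, nat_lit 4, nat_lit 3, nat_lit 7, nat_lit 8, nat_lit 2, nat_lit 6, nat_lit 5, nat_lit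 4, nat_lit 3, nat_lit 7, nat_lit 8, nat_lit 2, nat_lit 6, nat_lit 5, nat_lit 4, nat_lit 3, nat_lit 7, nat_lit 8, nat_lit 2, nat_lit 6, nat_lit 5, nat_lit 4, nat_lit 3, nat_lit 7, nat_lit 8, nat_lit 2, nat_lit 6, nat_lit 5, nat_lit 4, nat_lit 3, nat_lit 7, nat_lit 8, nat_lit 2], (nat_lit 119)), ([nat_lit 2, nat_lit 6, nat_lit 5, nat_lit 4, nat_lit 3, nat_lit 7, nat_lit 8, nat_lit 2, nat_lit 6, nat_lit 5, nat_lit 4, nat_lit 3, nat_lit 7, nat_lit 8, nat_lit 2, nat_lit 6, nat_lit 5, nat_lit 4, nat_lit 3, nat_lit 7, nat_lit 8, nat_lit 2, nat_lit 6, nat_lit 5, nat_lit 4, nat_lit 3, nat_lit 7, nat_lit 8, nat_lit 2, nat_lit 6, nat_lit 5, nat_lit 4, nat_lit 3, nat_lit 7, nat_lit 8, nat_lit 10, nat_lit 1], (nat_lit 117)), ([nat_lit 2, nat_lit 6, nat_lit 5, nat_lit 4, nat_lit 3, nat_lit 7, nat_lit 8, nat_lit 2, nat_lit 6, nat_lit 5, nat_lit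 4, nat_lit 3, nat_lit 7, nat_lit 8, nat_lit 2, nat_lit 6, nat_lit 5, nat_lit 4, nat_lit 3, nat_lit 7, nat_lit 8, nat_lit 2, nat_lit 6, nat_lit 5, nat_lit 4, nat_lit 3, nat_lit 7, nat_lit 8, nat_lit 2, nat_lit 6, nat_lit 5, nat_lit 4, nat_lit 3, nat_lit 7, nat_lit 10, nat_lit 2], (nat_lit 119)), ([nat_lit 2, nat_lit 6, nat_lit 5, nat_lit 4, nat_lit 3, nat_lit 7, nat_lit 8, nat_lit 2, nat_lit 6, nat_lit 5, nat_lit 4, nat_lit 3, nat_lit 7, nat_lit 8, nat_lit 2, nat_lit 6, nat_lit 5, nat_lit 4, nat_lit 3, nat_lit 7, nat_lit 8, nat_lit 2, nat_lit 6, nat_lit 5, nat_lit 4, nat_lit 3, nat_lit 7, nat_lit 8, nat_lit 2, nat_lit 6, nat_lit 5, nat_lit 4, nat_lit 3], (nat_lit 121)), ([nat_lit 2, nat_lit 6, nat_lit 5, nat_lit 4, nat_lit 3, nat_lit 7, nat_lit 8, nat_lit 2, nat_lit 6, nat_lit 5, nat_lit 4, nat_lit 3, nat_lit 7, nat_lit 8, nat_lit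 2, nat_lit 6, nat_lit 5, nat_lit 4, nat_lit 3, nat_lit 7, nat_lit 8, nat_lit 2, nat_lit 6, nat_lit 5, nat_lit 4, nat_lit 3, nat_lit 7, nat_lit 8, nat_lit 2, nat_lit 6, nat_lit 5, nat_lit 4], (nat_lit 123)), ([nat_lit 2, nat_lit 6, nat_lit 5, nat_lit 4, nat_lit 3, nat_lit 7, nat_lit 8, nat_lit 2, nat_lit 6, nat_lit 5, nat_lit 4, nat_lit 3, nat_lit 7, nat_lit 8, nat_lit 2, nat_lit 6, nat_lit 5, nat_lit 4, nat_lit 3, nat_lit 7, nat_lit 8, nat_lit 2, nat_lit 6, nat_lit 5, nat_lit 4, nat_lit 3, nat_lit 7, nat_lit 8, nat_lit 2, nat_lit 6, nat_lit 5], (nat_lit 125)), ([nat_lit 2, nat_lit 6, nat_lit 5, nat_lit 4, nat_lit 3, nat_lit 7, nat_lit 8, nat_lit 2, nat_lit 6, nat_lit 5, nat_lit 4, nat_lit 3, nat_lit 7, nat_lit 8, nat_lit 2, nat_lit 6, nat_lit 5, nat_lit 4, nat_lit 3, nat_lit 7, nat_lit 8, nat_lit 2, nat_lit 6, nat_lit 5, nat_lit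 4, nat_lit 3, nat_lit 7, nat_lit 8, nat_lit 2, nat_lit 6], (nat_lit 127)), ([nat_lit 2, nat_lit 6, nat_lit 5, nat_lit 4, nat_lit 3, nat_lit 7, nat_lit 8, nat_lit 2, nat_lit 6, nat_lit 5, nat_lit 4, nat_lit 3, nat_lit 7, nat_lit 8, nat_lit 2, nat_lit 6, nat_lit 5, nat_lit 4, nat_lit 3, nat_lit 7, nat_lit 8, nat_lit 2, nat_lit 6, nat_lit 5, nat_lit 4, nat_lit 3, nat_lit 7, nat_lit 8, nat_lit 2], (nat_lit 119)), ([nat_lit 2, nat_lit 6, nat_lit 5, nat_lit 4, nat_lit 3, nat_lit 7, nat_lit 8, nat_lit 2, nat_lit 6, nat_lit 5, nat_lit 4, nat_lit 3, nat_lit 7, nat_lit 8, nat_lit 2, nat_lit 6, nat_lit 5, nat_lit 4, nat_lit 3, nat_lit 7, nat_lit 8, nat_lit 2, nat_lit 6, nat_lit 5, nat_lit 4, nat_lit 3, nat_lit 7, nat_lit 8, nat_lit 10, nat_lit 1], (nat_lit 117)), ([nat_lit 2, nat_lit 6, nat_lit 5, nat_lit 4, nat_lit 3, nat_lit 7, nat_lit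 8, nat_lit 2, nat_lit 6, nat_lit 5, nat_lit 4, nat_lit 3, nat_lit 7, nat_lit 8, nat_lit 2, nat_lit 6, nat_lit 5, nat_lit 4, nat_lit 3, nat_lit 7, nat_lit 8, nat_lit 2, nat_lit 6, nat_lit 5, nat_lit 4, nat_lit 3, nat_lit 7, nat_lit 10, nat_lit 2], (nat_lit 119)), ([nat_lit 2, nat_lit 6, nat_lit 5, nat_lit 4, nat_lit 3, nat_lit 7, nat_lit 8, nat_lit 2, nat_lit 6, nat_lit 5, nat_lit 4, nat_lit 3, nat_lit 7, nat_lit 8, nat_lit 2, nat_lit 6, nat_lit 5, nat_lit 4, nat_lit 3, nat_lit 7, nat_lit 8, nat_lit 2, nat_lit 6, nat_lit 5, nat_lit 4, nat_lit 3], (nat_lit 121)), ([nat_lit 2, nat_lit 6, nat_lit 5, nat_lit 4, nat_lit 3, nat_lit 7, nat_lit 8, nat_lit 2, nat_lit 6, nat_lit 5, nat_lit 4, nat_lit 3, nat_lit 7, nat_lit 8, nat_lit 2, nat_lit 6, nat_lit 5, nat_lit 4, nat_lit 3, nat_lit 7, nat_lit 8, nat_lit 2, nat_lit 6, nat_lit 5, nat_lit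 4], (nat_lit 123)), ([nat_lit 2, nat_lit 6, nat_lit 5, nat_lit 4, nat_lit 3, nat_lit 7, nat_lit 8, nat_lit 2, nat_lit 6, nat_lit 5, nat_lit 4, nat_lit 3, nat_lit 7, nat_lit 8, nat_lit 2, nat_lit 6, nat_lit 5, nat_lit 4, nat_lit 3, nat_lit 7, nat_lit 8, nat_lit 2, nat_lit 6, nat_lit 5], (nat_lit 125)), ([nat_lit 2, nat_lit 6, nat_lit 5, nat_lit 4, nat_lit 3, nat_lit 7, nat_lit 8, nat_lit 2, nat_lit 6, nat_lit 5, nat_lit 4, nat_lit 3, nat_lit 7, nat_lit 8, nat_lit 2, nat_lit 6, nat_lit 5, nat_lit 4, nat_lit 3, nat_lit 7, nat_lit 8, nat_lit 2, nat_lit 6], (nat_lit 127)), ([nat_lit 2, nat_lit 6, nat_lit 5, nat_lit 4, nat_lit 3, nat_lit 7, nat_lit 8, nat_lit 2, nat_lit 6, nat_lit 5, nat_lit 4, nat_lit 3, nat_lit 7, nat_lit 8, nat_lit 2, nat_lit 6, nat_lit 5, nat_lit 4, nat_lit 3, nat_lit 7, nat_lit 8, nat_lit 2], (nat_lit 119)),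 ([nat_lit 2, nat_lit 6, nat_lit 5, nat_lit 4, nat_lit 3, nat_lit 7, nat_lit 8, nat_lit 2, nat_lit 6, nat_lit 5, nat_lit 4, nat_lit 3, nat_lit 7, nat_lit 8, nat_lit 2, nat_lit 6, nat_lit 5, nat_lit 4, nat_lit 3, nat_lit 7, nat_lit 8, nat_lit 10, nat_lit 1], (nat_lit 117)), ([nat_lit 2, nat_lit 6, nat_lit 5, nat_lit 4, nat_lit 3, nat_lit 7, nat_lit 8, nat_lit 2, nat_lit 6, nat_lit 5, nat_lit 4, nat_lit 3, nat_lit 7, nat_lit 8, nat_lit 2, nat_lit 6, nat_lit 5, nat_lit 4, nat_lit 3, nat_lit 7, nat_lit 10, nat_lit 2], (nat_lit 119)), ([nat_lit 2, nat_lit 6, nat_lit 5, nat_lit 4, nat_lit 3, nat_lit 7, nat_lit 8, nat_lit 2, nat_lit 6, nat_lit 5, nat_lit 4, nat_lit 3, nat_lit 7, nat_lit 8, nat_lit 2, nat_lit 6, nat_lit 5, nat_lit 4, nat_lit 3], (nat_lit 121)), ([nat_lit 2, nat_lit 6, nat_lit 5, nat_lit 4, nat_lit 3, nat_lit 7, nat_lit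 8, nat_lit 2, nat_lit 6, nat_lit 5, nat_lit 4, nat_lit 3, nat_lit 7, nat_lit 8, nat_lit 2, nat_lit 6, nat_lit 5, nat_lit 4], (nat_lit 123)), ([nat_lit 2, nat_lit 6, nat_lit 5, nat_lit 4, nat_lit 3, nat_lit 7, nat_lit 8, nat_lit 2, nat_lit 6, nat_lit 5, nat_lit 4, nat_lit 3, nat_lit 7, nat_lit 8, nat_lit 2, nat_lit 6, nat_lit 5], (nat_lit 125)), ([nat_lit 2, nat_lit 6, nat_lit 5, nat_lit 4, nat_lit 3, nat_lit 7, nat_lit 8, nat_lit 2, nat_lit 6, nat_lit 5, nat_lit 4, nat_lit 3, nat_lit 7, nat_lit 8, nat_lit 2, nat_lit 6], (nat_lit 127)), ([nat_lit 2, nat_lit 6, nat_lit 5, nat_lit 4, nat_lit 3, nat_lit 7, nat_lit 8, nat_lit 2, nat_lit 6, nat_lit 5, nat_lit 4, nat_lit 3, nat_lit 7, nat_lit 8, nat_lit 2], (nat_lit 119)), ([nat_lit 2, nat_lit 6, nat_lit 5, nat_lit 4, nat_lit 3, nat_lit 7, nat_lit 8, nat_lit 2, nat_lit 6, nat_lit 5,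 nat_lit 4, nat_lit 3, nat_lit 7, nat_lit 8, nat_lit 10, nat_lit 1], (nat_lit 117)), ([nat_lit 2, nat_lit 6, nat_lit 5, nat_lit 4, nat_lit 3, nat_lit 7, nat_lit 8, nat_lit 2, nat_lit 6, nat_lit 5, nat_lit 4, nat_lit 3, nat_lit 7, nat_lit 10, nat_lit 2], (nat_lit 119)), ([nat_lit 2, nat_lit 6, nat_lit 5, nat_lit 4, nat_lit 3, nat_lit 7, nat_lit 8, nat_lit 2, nat_lit 6, nat_lit 5, nat_lit 4, nat_lit 3], (nat_lit 121)), ([nat_lit 2, nat_lit 6, nat_lit 5, nat_lit 4, nat_lit 3, nat_lit 7, nat_lit 8, nat_lit 2, nat_lit 6, nat_lit 5, nat_lit 4], (nat_lit 123)), ([nat_lit 2, nat_lit 6, nat_lit 5, nat_lit 4, nat_lit 3, nat_lit 7, nat_lit 8, nat_lit 2, nat_lit 6, nat_lit 5], (nat_lit 125)), ([nat_lit 2, nat_lit 6, nat_lit 5, nat_lit 4, nat_lit 3, nat_lit 7, nat_lit 8, nat_lit 2, nat_lit 6], (nat_lit 127)), ([nat_lit 2, nat_lit 6, nat_lit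 5, nat_lit 4, nat_lit 3, nat_lit 7, nat_lit 8, nat_lit 2], (nat_lit 119)), ([nat_lit 2, nat_lit 6, nat_lit 5, nat_lit 4, nat_lit 3, nat_lit 7, nat_lit 8, nat_lit 10, nat_lit 1], (nat_lit 117)), ([nat_lit 2, nat_lit 6, nat_lit 5, nat_lit 4, nat_lit 3, nat_lit 7, nat_lit 10, nat_lit 2], (nat_lit 119)), ([nat_lit 2, nat_lit 6, nat_lit 5, nat_lit 4, nat_lit 3], (nat_lit 121)), ([nat_lit 2, nat_lit 6, nat_lit 5, nat_lit 4], (nat_lit 123)), ([nat_lit 2, nat_lit 6, nat_lit 5], (nat_lit 125)), ([nat_lit 2, nat_lit 6], (nat_lit 127)), ([nat_lit 2], (nat_lit 119))],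
  [([], (nat_lit 155))]] = true := by decide +kernel
theorem sz : subW Q1 (nat_lit 10) [H26.Fi23.mW] [[nat_lit 0, nat_lit 0]]
  [[([], (nat_lit 135))]] = true := by decide +kernel
noncomputable def RB : List (List ℕ) := [[nat_lit 0, nat_lit 0],
  [nat_lit 1, nat_lit 1],
  [nat_lit 2, nat_lit 2],
  [nat_lit 3, nat_lit 3],
  [nat_lit 4, nat_lit 4],
  [nat_lit 5, nat_lit 5],
  [nat_lit 6, nat_lit 6],
  [nat_lit 7, nat_lit 7],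
  [nat_lit 8, nat_lit 8],
  [nat_lit 9, nat_lit 9],
  [nat_lit 10, nat_lit 10],
  [nat_lit 1, nat_lit 0, nat_lit 1, nat_lit 0, nat_lit 1, nat_lit 0],
  [nat_lit 2, nat_lit 0, nat_lit 2, nat_lit 0],
  [nat_lit 2, nat_lit 1, nat_lit 2, nat_lit 1, nat_lit 2, nat_lit 1],
  [nat_lit 3, nat_lit 0, nat_lit 3, nat_lit 0],
  [nat_lit 3, nat_lit 1, nat_lit 3, nat_lit 1],
  [nat_lit 3, nat_lit 2, nat_lit 3, nat_lit 2, nat_lit 3, nat_lit 2],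
  [nat_lit 4, nat_lit 0, nat_lit 4, nat_lit 0],
  [nat_lit 4, nat_lit 1, nat_lit 4, nat_lit 1],
  [nat_lit 4, nat_lit 2, nat_lit 4, nat_lit 2],
  [nat_lit 4, nat_lit 3, nat_lit 4, nat_lit 3, nat_lit 4, nat_lit 3],
  [nat_lit 5, nat_lit 0, nat_lit 5, nat_lit 0],
  [nat_lit 5, nat_lit 1, nat_lit 5, nat_lit 1],
  [nat_lit 5, nat_lit 2, nat_lit 5, nat_lit 2],
  [nat_lit 5, nat_lit 3, nat_lit 5, nat_lit 3],
  [nat_lit 5, nat_lit 4, nat_lit 5, nat_lit 4, nat_lit 5, nat_lit 4],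
  [nat_lit 6, nat_lit 0, nat_lit 6, nat_lit 0],
  [nat_lit 6, nat_lit 1, nat_lit 6, nat_lit 1],
  [nat_lit 6, nat_lit 2, nat_lit 6, nat_lit 2],
  [nat_lit 6, nat_lit 3, nat_lit 6, nat_lit 3],
  [nat_lit 6, nat_lit 4, nat_lit 6, nat_lit 4],
  [nat_lit 6, nat_lit 5, nat_lit 6, nat_lit 5, nat_lit 6, nat_lit 5],
  [nat_lit 7, nat_lit 0, nat_lit 7, nat_lit 0],
  [nat_lit 7, nat_lit 1, nat_lit 7, nat_lit 1],
  [nat_lit 7, nat_lit 2, nat_lit 7, nat_lit 2],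
  [nat_lit 7, nat_lit 3, nat_lit 7, nat_lit 3, nat_lit 7, nat_lit 3],
  [nat_lit 7, nat_lit 4, nat_lit 7, nat_lit 4],
  [nat_lit 7, nat_lit 5, nat_lit 7, nat_lit 5],
  [nat_lit 7, nat_lit 6, nat_lit 7, nat_lit 6],
  [nat_lit 8, nat_lit 0, nat_lit 8, nat_lit 0],
  [nat_lit 8, nat_lit 1, nat_lit 8, nat_lit 1],
  [nat_lit 8, nat_lit 2, nat_lit 8, nat_lit 2],
  [nat_lit 8, nat_lit 3, nat_lit 8, nat_lit 3],
  [nat_lit 8, nat_lit 4, nat_lit 8, nat_lit 4],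
  [nat_lit 8, nat_lit 5, nat_lit 8, nat_lit 5],
  [nat_lit 8, nat_lit 6, nat_lit 8, nat_lit 6],
  [nat_lit 8, nat_lit 7, nat_lit 8, nat_lit 7, nat_lit 8, nat_lit 7],
  [nat_lit 9, nat_lit 0, nat_lit 9, nat_lit 0],
  [nat_lit 9, nat_lit 1, nat_lit 9, nat_lit 1],
  [nat_lit 9, nat_lit 2, nat_lit 9, nat_lit 2],
  [nat_lit 9, nat_lit 3, nat_lit 9, nat_lit 3],
  [nat_lit 9, nat_lit 4, nat_lit 9, nat_lit 4],
  [nat_lit 9, nat_lit 5, nat_lit 9, nat_lit 5],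
  [nat_lit 9, nat_lit 6, nat_lit 9, nat_lit 6, nat_lit 9, nat_lit 6],
  [nat_lit 9, nat_lit 7, nat_lit 9, nat_lit 7],
  [nat_lit 9, nat_lit 8, nat_lit 9, nat_lit 8],
  [nat_lit 10, nat_lit 0, nat_lit 10, nat_lit 0],
  [nat_lit 10, nat_lit 1, nat_lit 10, nat_lit 1],
  [nat_lit 10, nat_lit 2, nat_lit 10, nat_lit 2],
  [nat_lit 10, nat_lit 3, nat_lit 10, nat_lit 3],
  [nat_lit 10, nat_lit 4, nat_lit 10, nat_lit 4],
  [nat_lit 10, nat_lit 5, nat_lit 10, nat_lit 5],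
  [nat_lit 10, nat_lit 6, nat_lit 10, nat_lit 6],
  [nat_lit 10, nat_lit 7, nat_lit 10, nat_lit 7],
  [nat_lit 10, nat_lit 8, nat_lit 10, nat_lit 8, nat_lit 10, nat_lit 8],
  [nat_lit 10, nat_lit 9, nat_lit 10, nat_lit 9],
  [nat_lit 1, nat_lit 2, nat_lit 3, nat_lit 8, nat_lit 7, nat_lit 3, nat_lit 5, nat_lit 4, nat_lit 3, nat_lit 1, nat_lit 2, nat_lit 3, nat_lit 8, nat_lit 7, nat_lit 3, nat_lit 5, nat_lit 4, nat_lit 3, nat_lit 1, nat_lit 2, nat_lit 3, nat_lit 8, nat_lit 7, nat_lit 3, nat_lit 5, nat_lit 4, nat_lit 3, nat_lit 1, nat_lit 2, nat_lit 3, nat_lit 8, nat_lit 7, nat_lit 3, nat_lit 5, nat_lit 4, nat_lit 3, nat_lit 1, nat_lit 2, nat_lit 3, nat_lit 8, nat_lit 7, nat_lit 3, nat_lit 5, nat_lit 4, nat_lit 3, nat_lit 1, nat_lit 2, nat_lit 3, nat_lit 8, nat_lit 7, nat_lit 3, nat_lit 5, nat_lit 4, nat_lit 3, nat_lit 1, nat_lit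 2, nat_lit 3, nat_lit 8, nat_lit 7, nat_lit 3, nat_lit 5, nat_lit 4, nat_lit 3, nat_lit 1, nat_lit 2, nat_lit 3, nat_lit 8, nat_lit 7, nat_lit 3, nat_lit 5, nat_lit 4, nat_lit 3, nat_lit 1, nat_lit 2, nat_lit 3, nat_lit 8, nat_lit 7, nat_lit 3, nat_lit 5, nat_lit 4, nat_lit 3, nat_lit 1, nat_lit 2, nat_lit 3, nat_lit 8, nat_lit 7, nat_lit 3, nat_lit 5, nat_lit 4, nat_lit 3],
  [nat_lit 2, nat_lit 10, nat_lit 8, nat_lit 7, nat_lit 5, nat_lit 4, nat_lit 3, nat_lit 2, nat_lit 10, nat_lit 8, nat_lit 7, nat_lit 5, nat_lit 4, nat_lit 3, nat_lit 2, nat_lit 10, nat_lit 8, nat_lit 7, nat_lit 5, nat_lit 4, nat_lit 3, nat_lit 2, nat_lit 10, nat_lit 8, nat_lit 7, nat_lit 5, nat_lit 4, nat_lit 3, nat_lit 2, nat_lit 10, nat_lit 8, nat_lit 7, nat_lit 5, nat_lit 4, nat_lit 3, nat_lit 2, nat_lit 10, nat_lit 8, nat_lit 7, nat_lit 5, nat_lit 4,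 nat_lit 3, nat_lit 2, nat_lit 10, nat_lit 8, nat_lit 7, nat_lit 5, nat_lit 4, nat_lit 3, nat_lit 2, nat_lit 10, nat_lit 8, nat_lit 7, nat_lit 5, nat_lit 4, nat_lit 3, nat_lit 2, nat_lit 10, nat_lit 8, nat_lit 7, nat_lit 5, nat_lit 4, nat_lit 3],
  [nat_lit 0, nat_lit 1, nat_lit 2, nat_lit 7, nat_lit 5, nat_lit 4, nat_lit 3, nat_lit 0, nat_lit 1, nat_lit 2, nat_lit 7, nat_lit 5, nat_lit 4, nat_lit 3, nat_lit 0, nat_lit 1, nat_lit 2, nat_lit 7, nat_lit 5, nat_lit 4, nat_lit 3, nat_lit 0, nat_lit 1, nat_lit 2, nat_lit 7, nat_lit 5, nat_lit 4, nat_lit 3, nat_lit 0, nat_lit 1, nat_lit 2, nat_lit 7, nat_lit 5, nat_lit 4, nat_lit 3, nat_lit 0, nat_lit 1, nat_lit 2, nat_lit 7, nat_lit 5, nat_lit 4, nat_lit 3, nat_lit 0, nat_lit 1, nat_lit 2, nat_lit 7, nat_lit 5, nat_lit 4, nat_lit 3, nat_lit 0, nat_lit 1, nat_lit 2, nat_lit 7, nat_lit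 5, nat_lit 4, nat_lit 3, nat_lit 0, nat_lit 1, nat_lit 2, nat_lit 7, nat_lit 5, nat_lit 4, nat_lit 3]]
noncomputable def Uu : List (List ℕ) := [[nat_lit 0],
  [nat_lit 1],
  [nat_lit 2],
  [nat_lit 3],
  [nat_lit 4],
  [nat_lit 5],
  [nat_lit 6],
  [nat_lit 7],
  [nat_lit 8],
  [nat_lit 9]]
noncomputable def Uv : List (List ℕ) := [[nat_lit 10],
  [nat_lit 8],
  [nat_lit 7],
  [nat_lit 3],
  [nat_lit 4],
  [nat_lit 5],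
  [nat_lit 6],
  [nat_lit 2],
  [nat_lit 1],
  [nat_lit 9]]
noncomputable def E3 : List (List ℕ) := [[nat_lit 1, nat_lit 2, nat_lit 3, nat_lit 5, nat_lit 4, nat_lit 3, nat_lit 8, nat_lit 7, nat_lit 3, nat_lit 1, nat_lit 2, nat_lit 3, nat_lit 5, nat_lit 4, nat_lit 3, nat_lit 8, nat_lit 7, nat_lit 3, nat_lit 1, nat_lit 2, nat_lit 3, nat_lit 5, nat_lit 4, nat_lit 3, nat_lit 8, nat_lit 7, nat_lit 3, nat_lit 1, nat_lit 2, nat_lit 3, nat_lit 5, nat_lit 4, nat_lit 3, nat_lit 8, nat_lit 7, nat_lit 3, nat_lit 1, nat_lit 2, nat_lit 3, nat_lit 5, nat_lit 4, nat_lit 3, nat_lit 8, nat_lit 7, nat_lit 3, nat_lit 1, nat_lit 2, nat_lit 3, nat_lit 5, nat_lit 4, nat_lit 3, nat_lit 8, nat_lit 7, nat_lit 3, nat_lit 1, nat_lit 2, nat_lit 3, nat_lit 5, nat_lit 4, nat_lit 3, nat_lit 8, nat_lit 7, nat_lit 3, nat_lit 1, nat_lit 2, nat_lit 3, nat_lit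 5, nat_lit 4, nat_lit 3, nat_lit 8, nat_lit 7, nat_lit 3, nat_lit 1, nat_lit 2, nat_lit 3, nat_lit 5, nat_lit 4, nat_lit 3, nat_lit 8, nat_lit 7, nat_lit 3, nat_lit 1, nat_lit 2, nat_lit 3, nat_lit 5, nat_lit 4, nat_lit 3, nat_lit 8, nat_lit 7, nat_lit 3]]
theorem su : subW RB (nat_lit 11) Uu H26.F23.R0
  [[],
  [],
  [],
  [],
  [],
  [],
  [],
  [],
  [],
  [],
  [([], (nat_lit 23))],
  [([], (nat_lit 25))],
  [([], (nat_lit 27))],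
  [([], (nat_lit 29))],
  [([], (nat_lit 31))],
  [([], (nat_lit 33))],
  [([], (nat_lit 35))],
  [([], (nat_lit 37))],
  [([], (nat_lit 39))],
  [([], (nat_lit 41))],
  [([], (nat_lit 43))],
  [([], (nat_lit 45))],
  [([], (nat_lit 47))],
  [([], (nat_lit 49))],
  [([], (nat_lit 51))],
  [([], (nat_lit 53))],
  [([], (nat_lit 55))],
  [([], (nat_lit 57))],
  [([], (nat_lit 59))],
  [([], (nat_lit 61))],
  [([], (nat_lit 63))],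
  [([], (nat_lit 65))],
  [([], (nat_lit 67))],
  [([], (nat_lit 69))],
  [([], (nat_lit 71))],
  [([], (nat_lit 73))],
  [([], (nat_lit 75))],
  [([], (nat_lit 77))],
  [([], (nat_lit 79))],
  [([], (nat_lit 81))],
  [([], (nat_lit 83))],
  [([], (nat_lit 85))],
  [([], (nat_lit 87))],
  [([], (nat_lit 89))],
  [([], (nat_lit 91))],
  [([], (nat_lit 93))],
  [([], (nat_lit 95))],
  [([], (nat_lit 97))],
  [([], (nat_lit 99))],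
  [([], (nat_lit 101))],
  [([], (nat_lit 103))],
  [([], (nat_lit 105))],
  [([], (nat_lit 107))],
  [([], (nat_lit 109))],
  [([], (nat_lit 111))],
  [([nat_lit 0, nat_lit 1, nat_lit 0, nat_lit 2, nat_lit 1, nat_lit 0], (nat_lit 137)), ([], (nat_lit 65)), ([nat_lit 7, nat_lit 0, nat_lit 7], (nat_lit 67)), ([nat_lit 7], (nat_lit 43)), ([nat_lit 7, nat_lit 5, nat_lit 0, nat_lit 5], (nat_lit 45)), ([nat_lit 7, nat_lit 5, nat_lit 0, nat_lit 1, nat_lit 5], (nat_lit 43)), ([nat_lit 7, nat_lit 5, nat_lit 0, nat_lit 1, nat_lit 0, nat_lit 5], (nat_lit 65)), ([nat_lit 7, nat_lit 5], (nat_lit 35)), ([nat_lit 7, nat_lit 5, nat_lit 4, nat_lit 0, nat_lit 4], (nat_lit 37)), ([nat_lit 7, nat_lit 5, nat_lit 4, nat_lit 0, nat_lit 1, nat_lit 4], (nat_lit 35)), ([nat_lit 7, nat_lit 5, nat_lit 4], (nat_lit 29)), ([nat_lit 7, nat_lit 5, nat_lit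 4, nat_lit 3, nat_lit 0, nat_lit 3], (nat_lit 31)), ([nat_lit 7, nat_lit 5, nat_lit 4, nat_lit 3, nat_lit 0, nat_lit 1, nat_lit 3], (nat_lit 29)), ([nat_lit 7, nat_lit 5, nat_lit 4, nat_lit 3], (nat_lit 25)), ([nat_lit 7, nat_lit 5, nat_lit 4, nat_lit 3, nat_lit 2], (nat_lit 65)), ([nat_lit 7, nat_lit 5, nat_lit 4, nat_lit 3, nat_lit 2, nat_lit 7], (nat_lit 43)), ([nat_lit 7, nat_lit 5, nat_lit 4, nat_lit 3, nat_lit 2, nat_lit 7], (nat_lit 67)), ([nat_lit 7, nat_lit 5, nat_lit 4, nat_lit 3, nat_lit 2, nat_lit 1, nat_lit 7], (nat_lit 45)), ([nat_lit 7, nat_lit 5, nat_lit 4, nat_lit 3, nat_lit 2, nat_lit 1, nat_lit 7, nat_lit 5], (nat_lit 37)), ([nat_lit 7, nat_lit 5, nat_lit 4, nat_lit 3, nat_lit 2, nat_lit 1, nat_lit 7, nat_lit 5, nat_lit 4, nat_lit 1, nat_lit 4], (nat_lit 35)), ([nat_lit 7, nat_lit 5, nat_lit 4, nat_lit 3,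 nat_lit 2, nat_lit 1, nat_lit 7], (nat_lit 65)), ([nat_lit 7, nat_lit 5, nat_lit 4, nat_lit 3, nat_lit 2, nat_lit 1, nat_lit 0, nat_lit 7], (nat_lit 43)), ([nat_lit 7, nat_lit 5, nat_lit 4, nat_lit 3, nat_lit 2, nat_lit 1, nat_lit 0, nat_lit 7, nat_lit 5], (nat_lit 35)), ([nat_lit 7, nat_lit 5, nat_lit 4, nat_lit 3, nat_lit 2, nat_lit 1, nat_lit 0, nat_lit 7, nat_lit 5, nat_lit 4], (nat_lit 29)), ([nat_lit 7, nat_lit 5, nat_lit 4, nat_lit 3, nat_lit 2, nat_lit 1, nat_lit 0, nat_lit 7, nat_lit 5, nat_lit 4, nat_lit 3, nat_lit 0, nat_lit 3], (nat_lit 31)), ([nat_lit 7, nat_lit 5, nat_lit 4, nat_lit 3, nat_lit 2, nat_lit 1, nat_lit 0, nat_lit 7, nat_lit 5, nat_lit 4, nat_lit 3, nat_lit 0, nat_lit 1, nat_lit 3], (nat_lit 29)), ([nat_lit 7, nat_lit 5, nat_lit 4, nat_lit 3, nat_lit 2, nat_lit 1, nat_lit 0, nat_lit 7, nat_lit 5, nat_lit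 4, nat_lit 3], (nat_lit 25)), ([nat_lit 7, nat_lit 5, nat_lit 4, nat_lit 3, nat_lit 2, nat_lit 1, nat_lit 0, nat_lit 7, nat_lit 5, nat_lit 4, nat_lit 3, nat_lit 2], (nat_lit 65)), ([nat_lit 7, nat_lit 5, nat_lit 4, nat_lit 3, nat_lit 2, nat_lit 1, nat_lit 0, nat_lit 7, nat_lit 5, nat_lit 4, nat_lit 3, nat_lit 2, nat_lit 7], (nat_lit 43)), ([nat_lit 7, nat_lit 5, nat_lit 4, nat_lit 3, nat_lit 2, nat_lit 1, nat_lit 0, nat_lit 7, nat_lit 5, nat_lit 4, nat_lit 3, nat_lit 2, nat_lit 7], (nat_lit 67)), ([nat_lit 7, nat_lit 5, nat_lit 4, nat_lit 3, nat_lit 2, nat_lit 1, nat_lit 0, nat_lit 7, nat_lit 5, nat_lit 4, nat_lit 3, nat_lit 2, nat_lit 1, nat_lit 7], (nat_lit 45)), ([nat_lit 7, nat_lit 5, nat_lit 4, nat_lit 3, nat_lit 2, nat_lit 1, nat_lit 0, nat_lit 7, nat_lit 5, nat_lit 4, nat_lit 3, nat_lit 2, nat_lit 1, nat_lit 7, nat_lit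 5], (nat_lit 37)), ([nat_lit 7, nat_lit 5, nat_lit 4, nat_lit 3, nat_lit 2, nat_lit 1, nat_lit 0, nat_lit 7, nat_lit 5, nat_lit 4, nat_lit 3, nat_lit 2, nat_lit 1, nat_lit 7, nat_lit 5, nat_lit 4, nat_lit 1, nat_lit 4], (nat_lit 35)), ([nat_lit 7, nat_lit 5, nat_lit 4, nat_lit 3, nat_lit 2, nat_lit 1, nat_lit 0, nat_lit 7, nat_lit 5, nat_lit 4, nat_lit 3, nat_lit 2, nat_lit 1, nat_lit 7], (nat_lit 65)), ([nat_lit 7, nat_lit 5, nat_lit 4, nat_lit 3, nat_lit 2, nat_lit 1, nat_lit 0, nat_lit 7, nat_lit 5, nat_lit 4, nat_lit 3, nat_lit 2, nat_lit 1, nat_lit 0, nat_lit 7], (nat_lit 43)), ([nat_lit 7, nat_lit 5, nat_lit 4, nat_lit 3, nat_lit 2, nat_lit 1, nat_lit 0, nat_lit 7, nat_lit 5, nat_lit 4, nat_lit 3, nat_lit 2, nat_lit 1, nat_lit 0, nat_lit 7, nat_lit 5], (nat_lit 35)), ([nat_lit 7, nat_lit 5, nat_lit 4, nat_lit 3, nat_lit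 2, nat_lit 1, nat_lit 0, nat_lit 7, nat_lit 5, nat_lit 4, nat_lit 3, nat_lit 2, nat_lit 1, nat_lit 0, nat_lit 7, nat_lit 5, nat_lit 4], (nat_lit 29)), ([nat_lit 7, nat_lit 5, nat_lit 4, nat_lit 3, nat_lit 2, nat_lit 1, nat_lit 0, nat_lit 7, nat_lit 5, nat_lit 4, nat_lit 3, nat_lit 2, nat_lit 1, nat_lit 0, nat_lit 7, nat_lit 5, nat_lit 4, nat_lit 3, nat_lit 0, nat_lit 3], (nat_lit 31)), ([nat_lit 7, nat_lit 5, nat_lit 4, nat_lit 3, nat_lit 2, nat_lit 1, nat_lit 0, nat_lit 7, nat_lit 5, nat_lit 4, nat_lit 3, nat_lit 2, nat_lit 1, nat_lit 0, nat_lit 7, nat_lit 5, nat_lit 4, nat_lit 3, nat_lit 0, nat_lit 1, nat_lit 3], (nat_lit 29)), ([nat_lit 7, nat_lit 5, nat_lit 4, nat_lit 3, nat_lit 2, nat_lit 1, nat_lit 0, nat_lit 7, nat_lit 5, nat_lit 4, nat_lit 3, nat_lit 2, nat_lit 1, nat_lit 0, nat_lit 7, nat_lit 5, nat_lit 4, nat_lit 3],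 (nat_lit 25)), ([nat_lit 7, nat_lit 5, nat_lit 4, nat_lit 3, nat_lit 2, nat_lit 1, nat_lit 0, nat_lit 7, nat_lit 5, nat_lit 4, nat_lit 3, nat_lit 2, nat_lit 1, nat_lit 0, nat_lit 7, nat_lit 5, nat_lit 4, nat_lit 3, nat_lit 2], (nat_lit 65)), ([nat_lit 7, nat_lit 5, nat_lit 4, nat_lit 3, nat_lit 2, nat_lit 1, nat_lit 0, nat_lit 7, nat_lit 5, nat_lit 4, nat_lit 3, nat_lit 2, nat_lit 1, nat_lit 0, nat_lit 7, nat_lit 5, nat_lit 4, nat_lit 3, nat_lit 2, nat_lit 7], (nat_lit 43)), ([nat_lit 7, nat_lit 5, nat_lit 4, nat_lit 3, nat_lit 2, nat_lit 1, nat_lit 0, nat_lit 7, nat_lit 5, nat_lit 4, nat_lit 3, nat_lit 2, nat_lit 1, nat_lit 0, nat_lit 7, nat_lit 5, nat_lit 4, nat_lit 3, nat_lit 2, nat_lit 7], (nat_lit 67)), ([nat_lit 7, nat_lit 5, nat_lit 4, nat_lit 3, nat_lit 2, nat_lit 1, nat_lit 0, nat_lit 7, nat_lit 5, nat_lit 4, nat_lit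 3, nat_lit 2, nat_lit 1, nat_lit 0, nat_lit 7, nat_lit 5, nat_lit 4, nat_lit 3, nat_lit 2, nat_lit 1, nat_lit 7], (nat_lit 45)), ([nat_lit 7, nat_lit 5, nat_lit 4, nat_lit 3, nat_lit 2, nat_lit 1, nat_lit 0, nat_lit 7, nat_lit 5, nat_lit 4, nat_lit 3, nat_lit 2, nat_lit 1, nat_lit 0, nat_lit 7, nat_lit 5, nat_lit 4, nat_lit 3, nat_lit 2, nat_lit 1, nat_lit 7, nat_lit 5], (nat_lit 37)), ([nat_lit 7, nat_lit 5, nat_lit 4, nat_lit 3, nat_lit 2, nat_lit 1, nat_lit 0, nat_lit 7, nat_lit 5, nat_lit 4, nat_lit 3, nat_lit 2, nat_lit 1, nat_lit 0, nat_lit 7, nat_lit 5, nat_lit 4, nat_lit 3, nat_lit 2, nat_lit 1, nat_lit 7, nat_lit 5, nat_lit 4, nat_lit 1, nat_lit 4], (nat_lit 35)), ([nat_lit 7, nat_lit 5, nat_lit 4, nat_lit 3, nat_lit 2, nat_lit 1, nat_lit 0, nat_lit 7, nat_lit 5, nat_lit 4, nat_lit 3, nat_lit 2, nat_lit 1, nat_lit 0,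 nat_lit 7, nat_lit 5, nat_lit 4, nat_lit 3, nat_lit 2, nat_lit 1, nat_lit 7], (nat_lit 65)), ([nat_lit 7, nat_lit 5, nat_lit 4, nat_lit 3, nat_lit 2, nat_lit 1, nat_lit 0, nat_lit 7, nat_lit 5, nat_lit 4, nat_lit 3, nat_lit 2, nat_lit 1, nat_lit 0, nat_lit 7, nat_lit 5, nat_lit 4, nat_lit 3, nat_lit 2, nat_lit 1, nat_lit 0, nat_lit 7], (nat_lit 43)), ([nat_lit 7, nat_lit 5, nat_lit 4, nat_lit 3, nat_lit 2, nat_lit 1, nat_lit 0, nat_lit 7, nat_lit 5, nat_lit 4, nat_lit 3, nat_lit 2, nat_lit 1, nat_lit 0, nat_lit 7, nat_lit 5, nat_lit 4, nat_lit 3, nat_lit 2, nat_lit 1, nat_lit 0, nat_lit 7, nat_lit 5], (nat_lit 35)), ([nat_lit 7, nat_lit 5, nat_lit 4, nat_lit 3, nat_lit 2, nat_lit 1, nat_lit 0, nat_lit 7, nat_lit 5, nat_lit 4, nat_lit 3, nat_lit 2, nat_lit 1, nat_lit 0, nat_lit 7, nat_lit 5, nat_lit 4, nat_lit 3, nat_lit 2, nat_lit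 1, nat_lit 0, nat_lit 7, nat_lit 5, nat_lit 4], (nat_lit 29)), ([nat_lit 7, nat_lit 5, nat_lit 4, nat_lit 3, nat_lit 2, nat_lit 1, nat_lit 0, nat_lit 7, nat_lit 5, nat_lit 4, nat_lit 3, nat_lit 2, nat_lit 1, nat_lit 0, nat_lit 7, nat_lit 5, nat_lit 4, nat_lit 3, nat_lit 2, nat_lit 1, nat_lit 0, nat_lit 7, nat_lit 5, nat_lit 4, nat_lit 3, nat_lit 0, nat_lit 3], (nat_lit 31)), ([nat_lit 7, nat_lit 5, nat_lit 4, nat_lit 3, nat_lit 2, nat_lit 1, nat_lit 0, nat_lit 7, nat_lit 5, nat_lit 4, nat_lit 3, nat_lit 2, nat_lit 1, nat_lit 0, nat_lit 7, nat_lit 5, nat_lit 4, nat_lit 3, nat_lit 2, nat_lit 1, nat_lit 0, nat_lit 7, nat_lit 5, nat_lit 4, nat_lit 3, nat_lit 0, nat_lit 1, nat_lit 3], (nat_lit 29)), ([nat_lit 7, nat_lit 5, nat_lit 4, nat_lit 3, nat_lit 2, nat_lit 1, nat_lit 0, nat_lit 7, nat_lit 5, nat_lit 4, nat_lit 3, nat_lit 2,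 nat_lit 1, nat_lit 0, nat_lit 7, nat_lit 5, nat_lit 4, nat_lit 3, nat_lit 2, nat_lit 1, nat_lit 0, nat_lit 7, nat_lit 5, nat_lit 4, nat_lit 3], (nat_lit 25)), ([nat_lit 7, nat_lit 5, nat_lit 4, nat_lit 3, nat_lit 2, nat_lit 1, nat_lit 0, nat_lit 7, nat_lit 5, nat_lit 4, nat_lit 3, nat_lit 2, nat_lit 1, nat_lit 0, nat_lit 7, nat_lit 5, nat_lit 4, nat_lit 3, nat_lit 2, nat_lit 1, nat_lit 0, nat_lit 7, nat_lit 5, nat_lit 4, nat_lit 3, nat_lit 2], (nat_lit 65)), ([nat_lit 7, nat_lit 5, nat_lit 4, nat_lit 3, nat_lit 2, nat_lit 1, nat_lit 0, nat_lit 7, nat_lit 5, nat_lit 4, nat_lit 3, nat_lit 2, nat_lit 1, nat_lit 0, nat_lit 7, nat_lit 5, nat_lit 4, nat_lit 3, nat_lit 2, nat_lit 1, nat_lit 0, nat_lit 7, nat_lit 5, nat_lit 4, nat_lit 3, nat_lit 2, nat_lit 7], (nat_lit 43)), ([nat_lit 7, nat_lit 5, nat_lit 4, nat_lit 3, nat_lit 2, nat_lit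 1, nat_lit 0, nat_lit 7, nat_lit 5, nat_lit 4, nat_lit 3, nat_lit 2, nat_lit 1, nat_lit 0, nat_lit 7, nat_lit 5, nat_lit 4, nat_lit 3, nat_lit 2, nat_lit 1, nat_lit 0, nat_lit 7, nat_lit 5, nat_lit 4, nat_lit 3, nat_lit 2, nat_lit 7], (nat_lit 67)), ([nat_lit 7, nat_lit 5, nat_lit 4, nat_lit 3, nat_lit 2, nat_lit 1, nat_lit 0, nat_lit 7, nat_lit 5, nat_lit 4, nat_lit 3, nat_lit 2, nat_lit 1, nat_lit 0, nat_lit 7, nat_lit 5, nat_lit 4, nat_lit 3, nat_lit 2, nat_lit 1, nat_lit 0, nat_lit 7, nat_lit 5, nat_lit 4, nat_lit 3, nat_lit 2, nat_lit 1, nat_lit 7], (nat_lit 45)), ([nat_lit 7, nat_lit 5, nat_lit 4, nat_lit 3, nat_lit 2, nat_lit 1, nat_lit 0, nat_lit 7, nat_lit 5, nat_lit 4, nat_lit 3, nat_lit 2, nat_lit 1, nat_lit 0, nat_lit 7, nat_lit 5, nat_lit 4, nat_lit 3, nat_lit 2, nat_lit 1, nat_lit 0, nat_lit 7, nat_lit 5, nat_lit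 4, nat_lit 3, nat_lit 2, nat_lit 1, nat_lit 7, nat_lit 5], (nat_lit 37)), ([nat_lit 7, nat_lit 5, nat_lit 4, nat_lit 3, nat_lit 2, nat_lit 1, nat_lit 0, nat_lit 7, nat_lit 5, nat_lit 4, nat_lit 3, nat_lit 2, nat_lit 1, nat_lit 0, nat_lit 7, nat_lit 5, nat_lit 4, nat_lit 3, nat_lit 2, nat_lit 1, nat_lit 0, nat_lit 7, nat_lit 5, nat_lit 4, nat_lit 3, nat_lit 2, nat_lit 1, nat_lit 7, nat_lit 5, nat_lit 4, nat_lit 1, nat_lit 4], (nat_lit 35)), ([nat_lit 7, nat_lit 5, nat_lit 4, nat_lit 3, nat_lit 2, nat_lit 1, nat_lit 0, nat_lit 7, nat_lit 5, nat_lit 4, nat_lit 3, nat_lit 2, nat_lit 1, nat_lit 0, nat_lit 7, nat_lit 5, nat_lit 4, nat_lit 3, nat_lit 2, nat_lit 1, nat_lit 0, nat_lit 7, nat_lit 5, nat_lit 4, nat_lit 3, nat_lit 2, nat_lit 1, nat_lit 7], (nat_lit 65)), ([nat_lit 7, nat_lit 5, nat_lit 4, nat_lit 3, nat_lit 2, nat_lit 1,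 nat_lit 0, nat_lit 7, nat_lit 5, nat_lit 4, nat_lit 3, nat_lit 2, nat_lit 1, nat_lit 0, nat_lit 7, nat_lit 5, nat_lit 4, nat_lit 3, nat_lit 2, nat_lit 1, nat_lit 0, nat_lit 7, nat_lit 5, nat_lit 4, nat_lit 3, nat_lit 2, nat_lit 1, nat_lit 0, nat_lit 7], (nat_lit 43)), ([nat_lit 7, nat_lit 5, nat_lit 4, nat_lit 3, nat_lit 2, nat_lit 1, nat_lit 0, nat_lit 7, nat_lit 5, nat_lit 4, nat_lit 3, nat_lit 2, nat_lit 1, nat_lit 0, nat_lit 7, nat_lit 5, nat_lit 4, nat_lit 3, nat_lit 2, nat_lit 1, nat_lit 0, nat_lit 7, nat_lit 5, nat_lit 4, nat_lit 3, nat_lit 2, nat_lit 1, nat_lit 0, nat_lit 7, nat_lit 5], (nat_lit 35)), ([nat_lit 7, nat_lit 5, nat_lit 4, nat_lit 3, nat_lit 2, nat_lit 1, nat_lit 0, nat_lit 7, nat_lit 5, nat_lit 4, nat_lit 3, nat_lit 2, nat_lit 1, nat_lit 0, nat_lit 7, nat_lit 5, nat_lit 4, nat_lit 3, nat_lit 2, nat_lit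 1, nat_lit 0, nat_lit 7, nat_lit 5, nat_lit 4, nat_lit 3, nat_lit 2, nat_lit 1, nat_lit 0, nat_lit 7, nat_lit 5, nat_lit 4], (nat_lit 29)), ([nat_lit 7, nat_lit 5, nat_lit 4, nat_lit 3, nat_lit 2, nat_lit 1, nat_lit 0, nat_lit 7, nat_lit 5, nat_lit 4, nat_lit 3, nat_lit 2, nat_lit 1, nat_lit 0, nat_lit 7, nat_lit 5, nat_lit 4, nat_lit 3, nat_lit 2, nat_lit 1, nat_lit 0, nat_lit 7, nat_lit 5, nat_lit 4, nat_lit 3, nat_lit 2, nat_lit 1, nat_lit 0, nat_lit 7, nat_lit 5, nat_lit 4, nat_lit 3, nat_lit 0, nat_lit 3], (nat_lit 31)), ([nat_lit 7, nat_lit 5, nat_lit 4, nat_lit 3, nat_lit 2, nat_lit 1, nat_lit 0, nat_lit 7, nat_lit 5, nat_lit 4, nat_lit 3, nat_lit 2, nat_lit 1, nat_lit 0, nat_lit 7, nat_lit 5, nat_lit 4, nat_lit 3, nat_lit 2, nat_lit 1, nat_lit 0, nat_lit 7, nat_lit 5, nat_lit 4, nat_lit 3, nat_lit 2, nat_lit 1, nat_lit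 0, nat_lit 7, nat_lit 5, nat_lit 4, nat_lit 3, nat_lit 0, nat_lit 1, nat_lit 3], (nat_lit 29)), ([nat_lit 7, nat_lit 5, nat_lit 4, nat_lit 3, nat_lit 2, nat_lit 1, nat_lit 0, nat_lit 7, nat_lit 5, nat_lit 4, nat_lit 3, nat_lit 2, nat_lit 1, nat_lit 0, nat_lit 7, nat_lit 5, nat_lit 4, nat_lit 3, nat_lit 2, nat_lit 1, nat_lit 0, nat_lit 7, nat_lit 5, nat_lit 4, nat_lit 3, nat_lit 2, nat_lit 1, nat_lit 0, nat_lit 7, nat_lit 5, nat_lit 4, nat_lit 3], (nat_lit 25)), ([nat_lit 7, nat_lit 5, nat_lit 4, nat_lit 3, nat_lit 2, nat_lit 1, nat_lit 0, nat_lit 7, nat_lit 5, nat_lit 4, nat_lit 3, nat_lit 2, nat_lit 1, nat_lit 0, nat_lit 7, nat_lit 5, nat_lit 4, nat_lit 3, nat_lit 2, nat_lit 1, nat_lit 0, nat_lit 7, nat_lit 5, nat_lit 4, nat_lit 3, nat_lit 2, nat_lit 1, nat_lit 0, nat_lit 7, nat_lit 5, nat_lit 4, nat_lit 3, nat_lit 2], (nat_lit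 65)), ([nat_lit 7, nat_lit 5, nat_lit 4, nat_lit 3, nat_lit 2, nat_lit 1, nat_lit 0, nat_lit 7, nat_lit 5, nat_lit 4, nat_lit 3, nat_lit 2, nat_lit 1, nat_lit 0, nat_lit 7, nat_lit 5, nat_lit 4, nat_lit 3, nat_lit 2, nat_lit 1, nat_lit 0, nat_lit 7, nat_lit 5, nat_lit 4, nat_lit 3, nat_lit 2, nat_lit 1, nat_lit 0, nat_lit 7, nat_lit 5, nat_lit 4, nat_lit 3, nat_lit 2, nat_lit 7], (nat_lit 43)), ([nat_lit 7, nat_lit 5, nat_lit 4, nat_lit 3, nat_lit 2, nat_lit 1, nat_lit 0, nat_lit 7, nat_lit 5, nat_lit 4, nat_lit 3, nat_lit 2, nat_lit 1, nat_lit 0, nat_lit 7, nat_lit 5, nat_lit 4, nat_lit 3, nat_lit 2, nat_lit 1, nat_lit 0, nat_lit 7, nat_lit 5, nat_lit 4, nat_lit 3, nat_lit 2, nat_lit 1, nat_lit 0, nat_lit 7, nat_lit 5, nat_lit 4, nat_lit 3, nat_lit 2, nat_lit 7], (nat_lit 67)), ([nat_lit 7, nat_lit 5, nat_lit 4, nat_lit 3,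 nat_lit 2, nat_lit 1, nat_lit 0, nat_lit 7, nat_lit 5, nat_lit 4, nat_lit 3, nat_lit 2, nat_lit 1, nat_lit 0, nat_lit 7, nat_lit 5, nat_lit 4, nat_lit 3, nat_lit 2, nat_lit 1, nat_lit 0, nat_lit 7, nat_lit 5, nat_lit 4, nat_lit 3, nat_lit 2, nat_lit 1, nat_lit 0, nat_lit 7, nat_lit 5, nat_lit 4, nat_lit 3, nat_lit 2, nat_lit 1, nat_lit 7], (nat_lit 45)), ([nat_lit 7, nat_lit 5, nat_lit 4, nat_lit 3, nat_lit 2, nat_lit 1, nat_lit 0, nat_lit 7, nat_lit 5, nat_lit 4, nat_lit 3, nat_lit 2, nat_lit 1, nat_lit 0, nat_lit 7, nat_lit 5, nat_lit 4, nat_lit 3, nat_lit 2, nat_lit 1, nat_lit 0, nat_lit 7, nat_lit 5, nat_lit 4, nat_lit 3, nat_lit 2, nat_lit 1, nat_lit 0, nat_lit 7, nat_lit 5, nat_lit 4, nat_lit 3, nat_lit 2, nat_lit 1, nat_lit 7, nat_lit 5], (nat_lit 37)), ([nat_lit 7, nat_lit 5, nat_lit 4, nat_lit 3, nat_lit 2, nat_lit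 1, nat_lit 0, nat_lit 7, nat_lit 5, nat_lit 4, nat_lit 3, nat_lit 2, nat_lit 1, nat_lit 0, nat_lit 7, nat_lit 5, nat_lit 4, nat_lit 3, nat_lit 2, nat_lit 1, nat_lit 0, nat_lit 7, nat_lit 5, nat_lit 4, nat_lit 3, nat_lit 2, nat_lit 1, nat_lit 0, nat_lit 7, nat_lit 5, nat_lit 4, nat_lit 3, nat_lit 2, nat_lit 1, nat_lit 7, nat_lit 5, nat_lit 4, nat_lit 1, nat_lit 4], (nat_lit 35)), ([nat_lit 7, nat_lit 5, nat_lit 4, nat_lit 3, nat_lit 2, nat_lit 1, nat_lit 0, nat_lit 7, nat_lit 5, nat_lit 4, nat_lit 3, nat_lit 2, nat_lit 1, nat_lit 0, nat_lit 7, nat_lit 5, nat_lit 4, nat_lit 3, nat_lit 2, nat_lit 1, nat_lit 0, nat_lit 7, nat_lit 5, nat_lit 4, nat_lit 3, nat_lit 2, nat_lit 1, nat_lit 0, nat_lit 7, nat_lit 5, nat_lit 4, nat_lit 3, nat_lit 2, nat_lit 1, nat_lit 7], (nat_lit 65)), ([nat_lit 7, nat_lit 5, nat_lit 4, nat_lit 3, nat_lit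 2, nat_lit 1, nat_lit 0, nat_lit 7, nat_lit 5, nat_lit 4, nat_lit 3, nat_lit 2, nat_lit 1, nat_lit 0, nat_lit 7, nat_lit 5, nat_lit 4, nat_lit 3, nat_lit 2, nat_lit 1, nat_lit 0, nat_lit 7, nat_lit 5, nat_lit 4, nat_lit 3, nat_lit 2, nat_lit 1, nat_lit 0, nat_lit 7, nat_lit 5, nat_lit 4, nat_lit 3, nat_lit 2, nat_lit 1, nat_lit 0, nat_lit 7], (nat_lit 43)), ([nat_lit 7, nat_lit 5, nat_lit 4, nat_lit 3, nat_lit 2, nat_lit 1, nat_lit 0, nat_lit 7, nat_lit 5, nat_lit 4, nat_lit 3, nat_lit 2, nat_lit 1, nat_lit 0, nat_lit 7, nat_lit 5, nat_lit 4, nat_lit 3, nat_lit 2, nat_lit 1, nat_lit 0, nat_lit 7, nat_lit 5, nat_lit 4, nat_lit 3, nat_lit 2, nat_lit 1, nat_lit 0, nat_lit 7, nat_lit 5, nat_lit 4, nat_lit 3, nat_lit 2, nat_lit 1, nat_lit 0, nat_lit 7, nat_lit 5], (nat_lit 35)), ([nat_lit 7, nat_lit 5, nat_lit 4, nat_lit 3, nat_lit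 2, nat_lit 1, nat_lit 0, nat_lit 7, nat_lit 5, nat_lit 4, nat_lit 3, nat_lit 2, nat_lit 1, nat_lit 0, nat_lit 7, nat_lit 5, nat_lit 4, nat_lit 3, nat_lit 2, nat_lit 1, nat_lit 0, nat_lit 7, nat_lit 5, nat_lit 4, nat_lit 3, nat_lit 2, nat_lit 1, nat_lit 0, nat_lit 7, nat_lit 5, nat_lit 4, nat_lit 3, nat_lit 2, nat_lit 1, nat_lit 0, nat_lit 7, nat_lit 5, nat_lit 4], (nat_lit 29)), ([nat_lit 7, nat_lit 5, nat_lit 4, nat_lit 3, nat_lit 2, nat_lit 1, nat_lit 0, nat_lit 7, nat_lit 5, nat_lit 4, nat_lit 3, nat_lit 2, nat_lit 1, nat_lit 0, nat_lit 7, nat_lit 5, nat_lit 4, nat_lit 3, nat_lit 2, nat_lit 1, nat_lit 0, nat_lit 7, nat_lit 5, nat_lit 4, nat_lit 3, nat_lit 2, nat_lit 1, nat_lit 0, nat_lit 7, nat_lit 5, nat_lit 4, nat_lit 3, nat_lit 2, nat_lit 1, nat_lit 0, nat_lit 7, nat_lit 5, nat_lit 4, nat_lit 3, nat_lit 0, nat_lit 3],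 (nat_lit 31)), ([nat_lit 7, nat_lit 5, nat_lit 4, nat_lit 3, nat_lit 2, nat_lit 1, nat_lit 0, nat_lit 7, nat_lit 5, nat_lit 4, nat_lit 3, nat_lit 2, nat_lit 1, nat_lit 0, nat_lit 7, nat_lit 5, nat_lit 4, nat_lit 3, nat_lit 2, nat_lit 1, nat_lit 0, nat_lit 7, nat_lit 5, nat_lit 4, nat_lit 3, nat_lit 2, nat_lit 1, nat_lit 0, nat_lit 7, nat_lit 5, nat_lit 4, nat_lit 3, nat_lit 2, nat_lit 1, nat_lit 0, nat_lit 7, nat_lit 5, nat_lit 4, nat_lit 3, nat_lit 0, nat_lit 1, nat_lit 3], (nat_lit 29)), ([nat_lit 7, nat_lit 5, nat_lit 4, nat_lit 3, nat_lit 2, nat_lit 1, nat_lit 0, nat_lit 7, nat_lit 5, nat_lit 4, nat_lit 3, nat_lit 2, nat_lit 1, nat_lit 0, nat_lit 7, nat_lit 5, nat_lit 4, nat_lit 3, nat_lit 2, nat_lit 1, nat_lit 0, nat_lit 7, nat_lit 5, nat_lit 4, nat_lit 3, nat_lit 2, nat_lit 1, nat_lit 0, nat_lit 7, nat_lit 5, nat_lit 4,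 nat_lit 3, nat_lit 2, nat_lit 1, nat_lit 0, nat_lit 7, nat_lit 5, nat_lit 4, nat_lit 3], (nat_lit 25)), ([nat_lit 7, nat_lit 5, nat_lit 4, nat_lit 3, nat_lit 2, nat_lit 1, nat_lit 0, nat_lit 7, nat_lit 5, nat_lit 4, nat_lit 3, nat_lit 2, nat_lit 1, nat_lit 0, nat_lit 7, nat_lit 5, nat_lit 4, nat_lit 3, nat_lit 2, nat_lit 1, nat_lit 0, nat_lit 7, nat_lit 5, nat_lit 4, nat_lit 3, nat_lit 2, nat_lit 1, nat_lit 0, nat_lit 7, nat_lit 5, nat_lit 4, nat_lit 3, nat_lit 2, nat_lit 1, nat_lit 0, nat_lit 7, nat_lit 5, nat_lit 4, nat_lit 3, nat_lit 2], (nat_lit 65)), ([nat_lit 7, nat_lit 5, nat_lit 4, nat_lit 3, nat_lit 2, nat_lit 1, nat_lit 0, nat_lit 7, nat_lit 5, nat_lit 4, nat_lit 3, nat_lit 2, nat_lit 1, nat_lit 0, nat_lit 7, nat_lit 5, nat_lit 4, nat_lit 3, nat_lit 2, nat_lit 1, nat_lit 0, nat_lit 7, nat_lit 5, nat_lit 4, nat_lit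 3, nat_lit 2, nat_lit 1, nat_lit 0, nat_lit 7, nat_lit 5, nat_lit 4, nat_lit 3, nat_lit 2, nat_lit 1, nat_lit 0, nat_lit 7, nat_lit 5, nat_lit 4, nat_lit 3, nat_lit 2, nat_lit 7], (nat_lit 43)), ([nat_lit 7, nat_lit 5, nat_lit 4, nat_lit 3, nat_lit 2, nat_lit 1, nat_lit 0, nat_lit 7, nat_lit 5, nat_lit 4, nat_lit 3, nat_lit 2, nat_lit 1, nat_lit 0, nat_lit 7, nat_lit 5, nat_lit 4, nat_lit 3, nat_lit 2, nat_lit 1, nat_lit 0, nat_lit 7, nat_lit 5, nat_lit 4, nat_lit 3, nat_lit 2, nat_lit 1, nat_lit 0, nat_lit 7, nat_lit 5, nat_lit 4, nat_lit 3, nat_lit 2, nat_lit 1, nat_lit 0, nat_lit 7, nat_lit 5, nat_lit 4, nat_lit 3, nat_lit 2, nat_lit 7], (nat_lit 67)), ([nat_lit 7, nat_lit 5, nat_lit 4, nat_lit 3, nat_lit 2, nat_lit 1, nat_lit 0, nat_lit 7, nat_lit 5, nat_lit 4, nat_lit 3, nat_lit 2, nat_lit 1, nat_lit 0, nat_lit 7, nat_lit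 5, nat_lit 4, nat_lit 3, nat_lit 2, nat_lit 1, nat_lit 0, nat_lit 7, nat_lit 5, nat_lit 4, nat_lit 3, nat_lit 2, nat_lit 1, nat_lit 0, nat_lit 7, nat_lit 5, nat_lit 4, nat_lit 3, nat_lit 2, nat_lit 1, nat_lit 0, nat_lit 7, nat_lit 5, nat_lit 4, nat_lit 3, nat_lit 2, nat_lit 1, nat_lit 7], (nat_lit 45)), ([nat_lit 7, nat_lit 5, nat_lit 4, nat_lit 3, nat_lit 2, nat_lit 1, nat_lit 0, nat_lit 7, nat_lit 5, nat_lit 4, nat_lit 3, nat_lit 2, nat_lit 1, nat_lit 0, nat_lit 7, nat_lit 5, nat_lit 4, nat_lit 3, nat_lit 2, nat_lit 1, nat_lit 0, nat_lit 7, nat_lit 5, nat_lit 4, nat_lit 3, nat_lit 2, nat_lit 1, nat_lit 0, nat_lit 7, nat_lit 5, nat_lit 4, nat_lit 3, nat_lit 2, nat_lit 1, nat_lit 0, nat_lit 7, nat_lit 5, nat_lit 4, nat_lit 3, nat_lit 2, nat_lit 1, nat_lit 7, nat_lit 5], (nat_lit 37)), ([nat_lit 7, nat_lit 5, nat_lit 4, nat_lit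 3, nat_lit 2, nat_lit 1, nat_lit 0, nat_lit 7, nat_lit 5, nat_lit 4, nat_lit 3, nat_lit 2, nat_lit 1, nat_lit 0, nat_lit 7, nat_lit 5, nat_lit 4, nat_lit 3, nat_lit 2, nat_lit 1, nat_lit 0, nat_lit 7, nat_lit 5, nat_lit 4, nat_lit 3, nat_lit 2, nat_lit 1, nat_lit 0, nat_lit 7, nat_lit 5, nat_lit 4, nat_lit 3, nat_lit 2, nat_lit 1, nat_lit 0, nat_lit 7, nat_lit 5, nat_lit 4, nat_lit 3, nat_lit 2, nat_lit 1, nat_lit 7, nat_lit 5, nat_lit 4, nat_lit 1, nat_lit 4], (nat_lit 35)), ([nat_lit 7, nat_lit 5, nat_lit 4, nat_lit 3, nat_lit 2, nat_lit 1, nat_lit 0, nat_lit 7, nat_lit 5, nat_lit 4, nat_lit 3, nat_lit 2, nat_lit 1, nat_lit 0, nat_lit 7, nat_lit 5, nat_lit 4, nat_lit 3, nat_lit 2, nat_lit 1, nat_lit 0, nat_lit 7, nat_lit 5, nat_lit 4, nat_lit 3, nat_lit 2, nat_lit 1, nat_lit 0, nat_lit 7, nat_lit 5, nat_lit 4, nat_lit 3, nat_lit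 2, nat_lit 1, nat_lit 0, nat_lit 7, nat_lit 5, nat_lit 4, nat_lit 3, nat_lit 2, nat_lit 1, nat_lit 7], (nat_lit 65)), ([nat_lit 7, nat_lit 5, nat_lit 4, nat_lit 3, nat_lit 2, nat_lit 1, nat_lit 0, nat_lit 7, nat_lit 5, nat_lit 4, nat_lit 3, nat_lit 2, nat_lit 1, nat_lit 0, nat_lit 7, nat_lit 5, nat_lit 4, nat_lit 3, nat_lit 2, nat_lit 1, nat_lit 0, nat_lit 7, nat_lit 5, nat_lit 4, nat_lit 3, nat_lit 2, nat_lit 1, nat_lit 0, nat_lit 7, nat_lit 5, nat_lit 4, nat_lit 3, nat_lit 2, nat_lit 1, nat_lit 0, nat_lit 7, nat_lit 5, nat_lit 4, nat_lit 3, nat_lit 2, nat_lit 1, nat_lit 0, nat_lit 7], (nat_lit 43)), ([nat_lit 7, nat_lit 5, nat_lit 4, nat_lit 3, nat_lit 2, nat_lit 1, nat_lit 0, nat_lit 7, nat_lit 5, nat_lit 4, nat_lit 3, nat_lit 2, nat_lit 1, nat_lit 0, nat_lit 7, nat_lit 5, nat_lit 4, nat_lit 3, nat_lit 2, nat_lit 1, nat_lit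 0, nat_lit 7, nat_lit 5, nat_lit 4, nat_lit 3, nat_lit 2, nat_lit 1, nat_lit 0, nat_lit 7, nat_lit 5, nat_lit 4, nat_lit 3, nat_lit 2, nat_lit 1, nat_lit 0, nat_lit 7, nat_lit 5, nat_lit 4, nat_lit 3, nat_lit 2, nat_lit 1, nat_lit 0, nat_lit 7, nat_lit 5], (nat_lit 35)), ([nat_lit 7, nat_lit 5, nat_lit 4, nat_lit 3, nat_lit 2, nat_lit 1, nat_lit 0, nat_lit 7, nat_lit 5, nat_lit 4, nat_lit 3, nat_lit 2, nat_lit 1, nat_lit 0, nat_lit 7, nat_lit 5, nat_lit 4, nat_lit 3, nat_lit 2, nat_lit 1, nat_lit 0, nat_lit 7, nat_lit 5, nat_lit 4, nat_lit 3, nat_lit 2, nat_lit 1, nat_lit 0, nat_lit 7, nat_lit 5, nat_lit 4, nat_lit 3, nat_lit 2, nat_lit 1, nat_lit 0, nat_lit 7, nat_lit 5, nat_lit 4, nat_lit 3, nat_lit 2, nat_lit 1, nat_lit 0, nat_lit 7, nat_lit 5, nat_lit 4], (nat_lit 29)), ([nat_lit 7, nat_lit 5, nat_lit 4, nat_lit 3, nat_lit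 2, nat_lit 1, nat_lit 0, nat_lit 7, nat_lit 5, nat_lit 4, nat_lit 3, nat_lit 2, nat_lit 1, nat_lit 0, nat_lit 7, nat_lit 5, nat_lit 4, nat_lit 3, nat_lit 2, nat_lit 1, nat_lit 0, nat_lit 7, nat_lit 5, nat_lit 4, nat_lit 3, nat_lit 2, nat_lit 1, nat_lit 0, nat_lit 7, nat_lit 5, nat_lit 4, nat_lit 3, nat_lit 2, nat_lit 1, nat_lit 0, nat_lit 7, nat_lit 5, nat_lit 4, nat_lit 3, nat_lit 2, nat_lit 1, nat_lit 0, nat_lit 7, nat_lit 5, nat_lit 4, nat_lit 3, nat_lit 0, nat_lit 3], (nat_lit 31)), ([nat_lit 7, nat_lit 5, nat_lit 4, nat_lit 3, nat_lit 2, nat_lit 1, nat_lit 0, nat_lit 7, nat_lit 5, nat_lit 4, nat_lit 3, nat_lit 2, nat_lit 1, nat_lit 0, nat_lit 7, nat_lit 5, nat_lit 4, nat_lit 3, nat_lit 2, nat_lit 1, nat_lit 0, nat_lit 7, nat_lit 5, nat_lit 4, nat_lit 3, nat_lit 2, nat_lit 1, nat_lit 0, nat_lit 7, nat_lit 5, nat_lit 4, nat_lit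 3, nat_lit 2, nat_lit 1, nat_lit 0, nat_lit 7, nat_lit 5, nat_lit 4, nat_lit 3, nat_lit 2, nat_lit 1, nat_lit 0, nat_lit 7, nat_lit 5, nat_lit 4, nat_lit 3, nat_lit 0, nat_lit 1, nat_lit 3], (nat_lit 29)), ([nat_lit 7, nat_lit 5, nat_lit 4, nat_lit 3, nat_lit 2, nat_lit 1, nat_lit 0, nat_lit 7, nat_lit 5, nat_lit 4, nat_lit 3, nat_lit 2, nat_lit 1, nat_lit 0, nat_lit 7, nat_lit 5, nat_lit 4, nat_lit 3, nat_lit 2, nat_lit 1, nat_lit 0, nat_lit 7, nat_lit 5, nat_lit 4, nat_lit 3, nat_lit 2, nat_lit 1, nat_lit 0, nat_lit 7, nat_lit 5, nat_lit 4, nat_lit 3, nat_lit 2, nat_lit 1, nat_lit 0, nat_lit 7, nat_lit 5, nat_lit 4, nat_lit 3, nat_lit 2, nat_lit 1, nat_lit 0, nat_lit 7, nat_lit 5, nat_lit 4, nat_lit 3], (nat_lit 25)), ([nat_lit 7, nat_lit 5, nat_lit 4, nat_lit 3, nat_lit 2, nat_lit 1, nat_lit 0, nat_lit 7, nat_lit 5, nat_lit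 4, nat_lit 3, nat_lit 2, nat_lit 1, nat_lit 0, nat_lit 7, nat_lit 5, nat_lit 4, nat_lit 3, nat_lit 2, nat_lit 1, nat_lit 0, nat_lit 7, nat_lit 5, nat_lit 4, nat_lit 3, nat_lit 2, nat_lit 1, nat_lit 0, nat_lit 7, nat_lit 5, nat_lit 4, nat_lit 3, nat_lit 2, nat_lit 1, nat_lit 0, nat_lit 7, nat_lit 5, nat_lit 4, nat_lit 3, nat_lit 2, nat_lit 1, nat_lit 0, nat_lit 7, nat_lit 5, nat_lit 4, nat_lit 3, nat_lit 2], (nat_lit 65)), ([nat_lit 7, nat_lit 5, nat_lit 4, nat_lit 3, nat_lit 2, nat_lit 1, nat_lit 0, nat_lit 7, nat_lit 5, nat_lit 4, nat_lit 3, nat_lit 2, nat_lit 1, nat_lit 0, nat_lit 7, nat_lit 5, nat_lit 4, nat_lit 3, nat_lit 2, nat_lit 1, nat_lit 0, nat_lit 7, nat_lit 5, nat_lit 4, nat_lit 3, nat_lit 2, nat_lit 1, nat_lit 0, nat_lit 7, nat_lit 5, nat_lit 4, nat_lit 3, nat_lit 2, nat_lit 1, nat_lit 0, nat_lit 7, nat_lit 5, nat_lit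 4, nat_lit 3, nat_lit 2, nat_lit 1, nat_lit 0, nat_lit 7, nat_lit 5, nat_lit 4, nat_lit 3, nat_lit 2, nat_lit 7], (nat_lit 43)), ([nat_lit 7, nat_lit 5, nat_lit 4, nat_lit 3, nat_lit 2, nat_lit 1, nat_lit 0, nat_lit 7, nat_lit 5, nat_lit 4, nat_lit 3, nat_lit 2, nat_lit 1, nat_lit 0, nat_lit 7, nat_lit 5, nat_lit 4, nat_lit 3, nat_lit 2, nat_lit 1, nat_lit 0, nat_lit 7, nat_lit 5, nat_lit 4, nat_lit 3, nat_lit 2, nat_lit 1, nat_lit 0, nat_lit 7, nat_lit 5, nat_lit 4, nat_lit 3, nat_lit 2, nat_lit 1, nat_lit 0, nat_lit 7, nat_lit 5, nat_lit 4, nat_lit 3, nat_lit 2, nat_lit 1, nat_lit 0, nat_lit 7, nat_lit 5, nat_lit 4, nat_lit 3, nat_lit 2, nat_lit 7], (nat_lit 67)), ([nat_lit 7, nat_lit 5, nat_lit 4, nat_lit 3, nat_lit 2, nat_lit 1, nat_lit 0, nat_lit 7, nat_lit 5, nat_lit 4, nat_lit 3, nat_lit 2, nat_lit 1, nat_lit 0, nat_lit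 7, nat_lit 5, nat_lit 4, nat_lit 3, nat_lit 2, nat_lit 1, nat_lit 0, nat_lit 7, nat_lit 5, nat_lit 4, nat_lit 3, nat_lit 2, nat_lit 1, nat_lit 0, nat_lit 7, nat_lit 5, nat_lit 4, nat_lit 3, nat_lit 2, nat_lit 1, nat_lit 0, nat_lit 7, nat_lit 5, nat_lit 4, nat_lit 3, nat_lit 2, nat_lit 1, nat_lit 0, nat_lit 7, nat_lit 5, nat_lit 4, nat_lit 3, nat_lit 2, nat_lit 1, nat_lit 7], (nat_lit 45)), ([nat_lit 7, nat_lit 5, nat_lit 4, nat_lit 3, nat_lit 2, nat_lit 1, nat_lit 0, nat_lit 7, nat_lit 5, nat_lit 4, nat_lit 3, nat_lit 2, nat_lit 1, nat_lit 0, nat_lit 7, nat_lit 5, nat_lit 4, nat_lit 3, nat_lit 2, nat_lit 1, nat_lit 0, nat_lit 7, nat_lit 5, nat_lit 4, nat_lit 3, nat_lit 2, nat_lit 1, nat_lit 0, nat_lit 7, nat_lit 5, nat_lit 4, nat_lit 3, nat_lit 2, nat_lit 1, nat_lit 0, nat_lit 7, nat_lit 5, nat_lit 4, nat_lit 3, nat_lit 2, nat_lit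 1, nat_lit 0, nat_lit 7, nat_lit 5, nat_lit 4, nat_lit 3, nat_lit 2, nat_lit 1, nat_lit 7, nat_lit 5], (nat_lit 37)), ([nat_lit 7, nat_lit 5, nat_lit 4, nat_lit 3, nat_lit 2, nat_lit 1, nat_lit 0, nat_lit 7, nat_lit 5, nat_lit 4, nat_lit 3, nat_lit 2, nat_lit 1, nat_lit 0, nat_lit 7, nat_lit 5, nat_lit 4, nat_lit 3, nat_lit 2, nat_lit 1, nat_lit 0, nat_lit 7, nat_lit 5, nat_lit 4, nat_lit 3, nat_lit 2, nat_lit 1, nat_lit 0, nat_lit 7, nat_lit 5, nat_lit 4, nat_lit 3, nat_lit 2, nat_lit 1, nat_lit 0, nat_lit 7, nat_lit 5, nat_lit 4, nat_lit 3, nat_lit 2, nat_lit 1, nat_lit 0, nat_lit 7, nat_lit 5, nat_lit 4, nat_lit 3, nat_lit 2, nat_lit 1, nat_lit 7, nat_lit 5, nat_lit 4, nat_lit 1, nat_lit 4], (nat_lit 35)), ([nat_lit 7, nat_lit 5, nat_lit 4, nat_lit 3, nat_lit 2, nat_lit 1, nat_lit 0, nat_lit 7, nat_lit 5, nat_lit 4, nat_lit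 3, nat_lit 2, nat_lit 1, nat_lit 0, nat_lit 7, nat_lit 5, nat_lit 4, nat_lit 3, nat_lit 2, nat_lit 1, nat_lit 0, nat_lit 7, nat_lit 5, nat_lit 4, nat_lit 3, nat_lit 2, nat_lit 1, nat_lit 0, nat_lit 7, nat_lit 5, nat_lit 4, nat_lit 3, nat_lit 2, nat_lit 1, nat_lit 0, nat_lit 7, nat_lit 5, nat_lit 4, nat_lit 3, nat_lit 2, nat_lit 1, nat_lit 0, nat_lit 7, nat_lit 5, nat_lit 4, nat_lit 3, nat_lit 2, nat_lit 1, nat_lit 7], (nat_lit 65)), ([nat_lit 7, nat_lit 5, nat_lit 4, nat_lit 3, nat_lit 2, nat_lit 1, nat_lit 0, nat_lit 7, nat_lit 5, nat_lit 4, nat_lit 3, nat_lit 2, nat_lit 1, nat_lit 0, nat_lit 7, nat_lit 5, nat_lit 4, nat_lit 3, nat_lit 2, nat_lit 1, nat_lit 0, nat_lit 7, nat_lit 5, nat_lit 4, nat_lit 3, nat_lit 2, nat_lit 1, nat_lit 0, nat_lit 7, nat_lit 5, nat_lit 4, nat_lit 3, nat_lit 2, nat_lit 1, nat_lit 0, nat_lit 7, nat_lit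 5, nat_lit 4, nat_lit 3, nat_lit 2, nat_lit 1, nat_lit 0, nat_lit 7, nat_lit 5, nat_lit 4, nat_lit 3, nat_lit 2, nat_lit 1, nat_lit 0, nat_lit 7], (nat_lit 43)), ([nat_lit 7, nat_lit 5, nat_lit 4, nat_lit 3, nat_lit 2, nat_lit 1, nat_lit 0, nat_lit 7, nat_lit 5, nat_lit 4, nat_lit 3, nat_lit 2, nat_lit 1, nat_lit 0, nat_lit 7, nat_lit 5, nat_lit 4, nat_lit 3, nat_lit 2, nat_lit 1, nat_lit 0, nat_lit 7, nat_lit 5, nat_lit 4, nat_lit 3, nat_lit 2, nat_lit 1, nat_lit 0, nat_lit 7, nat_lit 5, nat_lit 4, nat_lit 3, nat_lit 2, nat_lit 1, nat_lit 0, nat_lit 7, nat_lit 5, nat_lit 4, nat_lit 3, nat_lit 2, nat_lit 1, nat_lit 0, nat_lit 7, nat_lit 5, nat_lit 4, nat_lit 3, nat_lit 2, nat_lit 1, nat_lit 0, nat_lit 7, nat_lit 5], (nat_lit 35)), ([nat_lit 7, nat_lit 5, nat_lit 4, nat_lit 3, nat_lit 2, nat_lit 1, nat_lit 0, nat_lit 7, nat_lit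 5, nat_lit 4, nat_lit 3, nat_lit 2, nat_lit 1, nat_lit 0, nat_lit 7, nat_lit 5, nat_lit 4, nat_lit 3, nat_lit 2, nat_lit 1, nat_lit 0, nat_lit 7, nat_lit 5, nat_lit 4, nat_lit 3, nat_lit 2, nat_lit 1, nat_lit 0, nat_lit 7, nat_lit 5, nat_lit 4, nat_lit 3, nat_lit 2, nat_lit 1, nat_lit 0, nat_lit 7, nat_lit 5, nat_lit 4, nat_lit 3, nat_lit 2, nat_lit 1, nat_lit 0, nat_lit 7, nat_lit 5, nat_lit 4, nat_lit 3, nat_lit 2, nat_lit 1, nat_lit 0, nat_lit 7, nat_lit 5, nat_lit 4], (nat_lit 29)), ([nat_lit 7, nat_lit 5, nat_lit 4, nat_lit 3, nat_lit 2, nat_lit 1, nat_lit 0, nat_lit 7, nat_lit 5, nat_lit 4, nat_lit 3, nat_lit 2, nat_lit 1, nat_lit 0, nat_lit 7, nat_lit 5, nat_lit 4, nat_lit 3, nat_lit 2, nat_lit 1, nat_lit 0, nat_lit 7, nat_lit 5, nat_lit 4, nat_lit 3, nat_lit 2, nat_lit 1, nat_lit 0, nat_lit 7, nat_lit 5, nat_lit 4, nat_lit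 3, nat_lit 2, nat_lit 1, nat_lit 0, nat_lit 7, nat_lit 5, nat_lit 4, nat_lit 3, nat_lit 2, nat_lit 1, nat_lit 0, nat_lit 7, nat_lit 5, nat_lit 4, nat_lit 3, nat_lit 2, nat_lit 1, nat_lit 0, nat_lit 7, nat_lit 5, nat_lit 4, nat_lit 3, nat_lit 0, nat_lit 3], (nat_lit 31)), ([nat_lit 7, nat_lit 5, nat_lit 4, nat_lit 3, nat_lit 2, nat_lit 1, nat_lit 0, nat_lit 7, nat_lit 5, nat_lit 4, nat_lit 3, nat_lit 2, nat_lit 1, nat_lit 0, nat_lit 7, nat_lit 5, nat_lit 4, nat_lit 3, nat_lit 2, nat_lit 1, nat_lit 0, nat_lit 7, nat_lit 5, nat_lit 4, nat_lit 3, nat_lit 2, nat_lit 1, nat_lit 0, nat_lit 7, nat_lit 5, nat_lit 4, nat_lit 3, nat_lit 2, nat_lit 1, nat_lit 0, nat_lit 7, nat_lit 5, nat_lit 4, nat_lit 3, nat_lit 2, nat_lit 1, nat_lit 0, nat_lit 7, nat_lit 5, nat_lit 4, nat_lit 3, nat_lit 2, nat_lit 1, nat_lit 0, nat_lit 7, nat_lit 5, nat_lit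 4, nat_lit 3, nat_lit 0, nat_lit 1, nat_lit 3], (nat_lit 29)), ([nat_lit 7, nat_lit 5, nat_lit 4, nat_lit 3, nat_lit 2, nat_lit 1, nat_lit 0, nat_lit 7, nat_lit 5, nat_lit 4, nat_lit 3, nat_lit 2, nat_lit 1, nat_lit 0, nat_lit 7, nat_lit 5, nat_lit 4, nat_lit 3, nat_lit 2, nat_lit 1, nat_lit 0, nat_lit 7, nat_lit 5, nat_lit 4, nat_lit 3, nat_lit 2, nat_lit 1, nat_lit 0, nat_lit 7, nat_lit 5, nat_lit 4, nat_lit 3, nat_lit 2, nat_lit 1, nat_lit 0, nat_lit 7, nat_lit 5, nat_lit 4, nat_lit 3, nat_lit 2, nat_lit 1, nat_lit 0, nat_lit 7, nat_lit 5, nat_lit 4, nat_lit 3, nat_lit 2, nat_lit 1, nat_lit 0, nat_lit 7, nat_lit 5, nat_lit 4, nat_lit 3], (nat_lit 25)), ([nat_lit 7, nat_lit 5, nat_lit 4, nat_lit 3, nat_lit 2, nat_lit 1, nat_lit 0, nat_lit 7, nat_lit 5, nat_lit 4, nat_lit 3, nat_lit 2, nat_lit 1, nat_lit 0, nat_lit 7, nat_lit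 5, nat_lit 4, nat_lit 3, nat_lit 2, nat_lit 1, nat_lit 0, nat_lit 7, nat_lit 5, nat_lit 4, nat_lit 3, nat_lit 2, nat_lit 1, nat_lit 0, nat_lit 7, nat_lit 5, nat_lit 4, nat_lit 3, nat_lit 2, nat_lit 1, nat_lit 0, nat_lit 7, nat_lit 5, nat_lit 4, nat_lit 3, nat_lit 2, nat_lit 1, nat_lit 0, nat_lit 7, nat_lit 5, nat_lit 4, nat_lit 3, nat_lit 2, nat_lit 1, nat_lit 0, nat_lit 7, nat_lit 5, nat_lit 4, nat_lit 3, nat_lit 2], (nat_lit 65)), ([nat_lit 7, nat_lit 5, nat_lit 4, nat_lit 3, nat_lit 2, nat_lit 1, nat_lit 0, nat_lit 7, nat_lit 5, nat_lit 4, nat_lit 3, nat_lit 2, nat_lit 1, nat_lit 0, nat_lit 7, nat_lit 5, nat_lit 4, nat_lit 3, nat_lit 2, nat_lit 1, nat_lit 0, nat_lit 7, nat_lit 5, nat_lit 4, nat_lit 3, nat_lit 2, nat_lit 1, nat_lit 0, nat_lit 7, nat_lit 5, nat_lit 4, nat_lit 3, nat_lit 2, nat_lit 1, nat_lit 0, nat_lit 7, nat_lit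 5, nat_lit 4, nat_lit 3, nat_lit 2, nat_lit 1, nat_lit 0, nat_lit 7, nat_lit 5, nat_lit 4, nat_lit 3, nat_lit 2, nat_lit 1, nat_lit 0, nat_lit 7, nat_lit 5, nat_lit 4, nat_lit 3, nat_lit 2, nat_lit 7], (nat_lit 43)), ([nat_lit 7, nat_lit 5, nat_lit 4, nat_lit 3, nat_lit 2, nat_lit 1, nat_lit 0, nat_lit 7, nat_lit 5, nat_lit 4, nat_lit 3, nat_lit 2, nat_lit 1, nat_lit 0, nat_lit 7, nat_lit 5, nat_lit 4, nat_lit 3, nat_lit 2, nat_lit 1, nat_lit 0, nat_lit 7, nat_lit 5, nat_lit 4, nat_lit 3, nat_lit 2, nat_lit 1, nat_lit 0, nat_lit 7, nat_lit 5, nat_lit 4, nat_lit 3, nat_lit 2, nat_lit 1, nat_lit 0, nat_lit 7, nat_lit 5, nat_lit 4, nat_lit 3, nat_lit 2, nat_lit 1, nat_lit 0, nat_lit 7, nat_lit 5, nat_lit 4, nat_lit 3, nat_lit 2, nat_lit 1, nat_lit 0, nat_lit 7, nat_lit 5, nat_lit 4, nat_lit 3, nat_lit 2, nat_lit 7], (nat_lit 67)),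 ([nat_lit 7, nat_lit 5, nat_lit 4, nat_lit 3, nat_lit 2, nat_lit 1, nat_lit 0, nat_lit 7, nat_lit 5, nat_lit 4, nat_lit 3, nat_lit 2, nat_lit 1, nat_lit 0, nat_lit 7, nat_lit 5, nat_lit 4, nat_lit 3, nat_lit 2, nat_lit 1, nat_lit 0, nat_lit 7, nat_lit 5, nat_lit 4, nat_lit 3, nat_lit 2, nat_lit 1, nat_lit 0, nat_lit 7, nat_lit 5, nat_lit 4, nat_lit 3, nat_lit 2, nat_lit 1, nat_lit 0, nat_lit 7, nat_lit 5, nat_lit 4, nat_lit 3, nat_lit 2, nat_lit 1, nat_lit 0, nat_lit 7, nat_lit 5, nat_lit 4, nat_lit 3, nat_lit 2, nat_lit 1, nat_lit 0, nat_lit 7, nat_lit 5, nat_lit 4, nat_lit 3, nat_lit 2, nat_lit 1, nat_lit 7], (nat_lit 45)), ([nat_lit 7, nat_lit 5, nat_lit 4, nat_lit 3, nat_lit 2, nat_lit 1, nat_lit 0, nat_lit 7, nat_lit 5, nat_lit 4, nat_lit 3, nat_lit 2, nat_lit 1, nat_lit 0, nat_lit 7, nat_lit 5, nat_lit 4, nat_lit 3, nat_lit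 2, nat_lit 1, nat_lit 0, nat_lit 7, nat_lit 5, nat_lit 4, nat_lit 3, nat_lit 2, nat_lit 1, nat_lit 0, nat_lit 7, nat_lit 5, nat_lit 4, nat_lit 3, nat_lit 2, nat_lit 1, nat_lit 0, nat_lit 7, nat_lit 5, nat_lit 4, nat_lit 3, nat_lit 2, nat_lit 1, nat_lit 0, nat_lit 7, nat_lit 5, nat_lit 4, nat_lit 3, nat_lit 2, nat_lit 1, nat_lit 0, nat_lit 7, nat_lit 5, nat_lit 4, nat_lit 3, nat_lit 2, nat_lit 1, nat_lit 7, nat_lit 5], (nat_lit 37)), ([nat_lit 7, nat_lit 5, nat_lit 4, nat_lit 3, nat_lit 2, nat_lit 1, nat_lit 0, nat_lit 7, nat_lit 5, nat_lit 4, nat_lit 3, nat_lit 2, nat_lit 1, nat_lit 0, nat_lit 7, nat_lit 5, nat_lit 4, nat_lit 3, nat_lit 2, nat_lit 1, nat_lit 0, nat_lit 7, nat_lit 5, nat_lit 4, nat_lit 3, nat_lit 2, nat_lit 1, nat_lit 0, nat_lit 7, nat_lit 5, nat_lit 4, nat_lit 3, nat_lit 2, nat_lit 1, nat_lit 0, nat_lit 7, nat_lit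 5, nat_lit 4, nat_lit 3, nat_lit 2, nat_lit 1, nat_lit 0, nat_lit 7, nat_lit 5, nat_lit 4, nat_lit 3, nat_lit 2, nat_lit 1, nat_lit 0, nat_lit 7, nat_lit 5, nat_lit 4, nat_lit 3, nat_lit 2, nat_lit 1, nat_lit 7, nat_lit 5, nat_lit 4, nat_lit 1, nat_lit 4], (nat_lit 35)), ([nat_lit 7, nat_lit 5, nat_lit 4, nat_lit 3, nat_lit 2, nat_lit 1, nat_lit 0, nat_lit 7, nat_lit 5, nat_lit 4, nat_lit 3, nat_lit 2, nat_lit 1, nat_lit 0, nat_lit 7, nat_lit 5, nat_lit 4, nat_lit 3, nat_lit 2, nat_lit 1, nat_lit 0, nat_lit 7, nat_lit 5, nat_lit 4, nat_lit 3, nat_lit 2, nat_lit 1, nat_lit 0, nat_lit 7, nat_lit 5, nat_lit 4, nat_lit 3, nat_lit 2, nat_lit 1, nat_lit 0, nat_lit 7, nat_lit 5, nat_lit 4, nat_lit 3, nat_lit 2, nat_lit 1, nat_lit 0, nat_lit 7, nat_lit 5, nat_lit 4, nat_lit 3, nat_lit 2, nat_lit 1, nat_lit 0, nat_lit 7, nat_lit 5, nat_lit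 4, nat_lit 3, nat_lit 2, nat_lit 1, nat_lit 7], (nat_lit 65)), ([nat_lit 7, nat_lit 5, nat_lit 4, nat_lit 3, nat_lit 2, nat_lit 1, nat_lit 0, nat_lit 7, nat_lit 5, nat_lit 4, nat_lit 3, nat_lit 2, nat_lit 1, nat_lit 0, nat_lit 7, nat_lit 5, nat_lit 4, nat_lit 3, nat_lit 2, nat_lit 1, nat_lit 0, nat_lit 7, nat_lit 5, nat_lit 4, nat_lit 3, nat_lit 2, nat_lit 1, nat_lit 0, nat_lit 7, nat_lit 5, nat_lit 4, nat_lit 3, nat_lit 2, nat_lit 1, nat_lit 0, nat_lit 7, nat_lit 5, nat_lit 4, nat_lit 3, nat_lit 2, nat_lit 1, nat_lit 0, nat_lit 7, nat_lit 5, nat_lit 4, nat_lit 3, nat_lit 2, nat_lit 1, nat_lit 0, nat_lit 7, nat_lit 5, nat_lit 4, nat_lit 3, nat_lit 2, nat_lit 1, nat_lit 0, nat_lit 7], (nat_lit 43)), ([nat_lit 7, nat_lit 5, nat_lit 4, nat_lit 3, nat_lit 2, nat_lit 1, nat_lit 0, nat_lit 7, nat_lit 5, nat_lit 4, nat_lit 3, nat_lit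 2, nat_lit 1, nat_lit 0, nat_lit 7, nat_lit 5, nat_lit 4, nat_lit 3, nat_lit 2, nat_lit 1, nat_lit 0, nat_lit 7, nat_lit 5, nat_lit 4, nat_lit 3, nat_lit 2, nat_lit 1, nat_lit 0, nat_lit 7, nat_lit 5, nat_lit 4, nat_lit 3, nat_lit 2, nat_lit 1, nat_lit 0, nat_lit 7, nat_lit 5, nat_lit 4, nat_lit 3, nat_lit 2, nat_lit 1, nat_lit 0, nat_lit 7, nat_lit 5, nat_lit 4, nat_lit 3, nat_lit 2, nat_lit 1, nat_lit 0, nat_lit 7, nat_lit 5, nat_lit 4, nat_lit 3, nat_lit 2, nat_lit 1, nat_lit 0, nat_lit 7, nat_lit 5], (nat_lit 35)), ([nat_lit 7, nat_lit 5, nat_lit 4, nat_lit 3, nat_lit 2, nat_lit 1, nat_lit 0, nat_lit 7, nat_lit 5, nat_lit 4, nat_lit 3, nat_lit 2, nat_lit 1, nat_lit 0, nat_lit 7, nat_lit 5, nat_lit 4, nat_lit 3, nat_lit 2, nat_lit 1, nat_lit 0, nat_lit 7, nat_lit 5, nat_lit 4, nat_lit 3, nat_lit 2, nat_lit 1, nat_lit 0, nat_lit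 7, nat_lit 5, nat_lit 4, nat_lit 3, nat_lit 2, nat_lit 1, nat_lit 0, nat_lit 7, nat_lit 5, nat_lit 4, nat_lit 3, nat_lit 2, nat_lit 1, nat_lit 0, nat_lit 7, nat_lit 5, nat_lit 4, nat_lit 3, nat_lit 2, nat_lit 1, nat_lit 0, nat_lit 7, nat_lit 5, nat_lit 4, nat_lit 3, nat_lit 2, nat_lit 1, nat_lit 0, nat_lit 7, nat_lit 5, nat_lit 4], (nat_lit 29)), ([nat_lit 7, nat_lit 5, nat_lit 4, nat_lit 3, nat_lit 2, nat_lit 1, nat_lit 0, nat_lit 7, nat_lit 5, nat_lit 4, nat_lit 3, nat_lit 2, nat_lit 1, nat_lit 0, nat_lit 7, nat_lit 5, nat_lit 4, nat_lit 3, nat_lit 2, nat_lit 1, nat_lit 0, nat_lit 7, nat_lit 5, nat_lit 4, nat_lit 3, nat_lit 2, nat_lit 1, nat_lit 0, nat_lit 7, nat_lit 5, nat_lit 4, nat_lit 3, nat_lit 2, nat_lit 1, nat_lit 0, nat_lit 7, nat_lit 5, nat_lit 4, nat_lit 3, nat_lit 2, nat_lit 1, nat_lit 0, nat_lit 7, nat_lit 5, nat_lit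 4, nat_lit 3, nat_lit 2, nat_lit 1, nat_lit 0, nat_lit 7, nat_lit 5, nat_lit 4, nat_lit 3, nat_lit 2, nat_lit 1, nat_lit 0, nat_lit 7, nat_lit 5, nat_lit 4, nat_lit 3, nat_lit 0, nat_lit 3], (nat_lit 31)), ([nat_lit 7, nat_lit 5, nat_lit 4, nat_lit 3, nat_lit 2, nat_lit 1, nat_lit 0, nat_lit 7, nat_lit 5, nat_lit 4, nat_lit 3, nat_lit 2, nat_lit 1, nat_lit 0, nat_lit 7, nat_lit 5, nat_lit 4, nat_lit 3, nat_lit 2, nat_lit 1, nat_lit 0, nat_lit 7, nat_lit 5, nat_lit 4, nat_lit 3, nat_lit 2, nat_lit 1, nat_lit 0, nat_lit 7, nat_lit 5, nat_lit 4, nat_lit 3, nat_lit 2, nat_lit 1, nat_lit 0, nat_lit 7, nat_lit 5, nat_lit 4, nat_lit 3, nat_lit 2, nat_lit 1, nat_lit 0, nat_lit 7, nat_lit 5, nat_lit 4, nat_lit 3, nat_lit 2, nat_lit 1, nat_lit 0, nat_lit 7, nat_lit 5, nat_lit 4, nat_lit 3, nat_lit 2, nat_lit 1, nat_lit 0, nat_lit 7, nat_lit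 5, nat_lit 4, nat_lit 3, nat_lit 0, nat_lit 1, nat_lit 3], (nat_lit 29)), ([nat_lit 7, nat_lit 5, nat_lit 4, nat_lit 3, nat_lit 2, nat_lit 1, nat_lit 0, nat_lit 7, nat_lit 5, nat_lit 4, nat_lit 3, nat_lit 2, nat_lit 1, nat_lit 0, nat_lit 7, nat_lit 5, nat_lit 4, nat_lit 3, nat_lit 2, nat_lit 1, nat_lit 0, nat_lit 7, nat_lit 5, nat_lit 4, nat_lit 3, nat_lit 2, nat_lit 1, nat_lit 0, nat_lit 7, nat_lit 5, nat_lit 4, nat_lit 3, nat_lit 2, nat_lit 1, nat_lit 0, nat_lit 7, nat_lit 5, nat_lit 4, nat_lit 3, nat_lit 2, nat_lit 1, nat_lit 0, nat_lit 7, nat_lit 5, nat_lit 4, nat_lit 3, nat_lit 2, nat_lit 1, nat_lit 0, nat_lit 7, nat_lit 5, nat_lit 4, nat_lit 3, nat_lit 2, nat_lit 1, nat_lit 0, nat_lit 7, nat_lit 5, nat_lit 4, nat_lit 3], (nat_lit 25))],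
  [([nat_lit 3, nat_lit 2, nat_lit 1], (nat_lit 133))]] = true := by decide +kernel
theorem sv : subW (RB ++ E3) (nat_lit 11) Uv H26.F23.R0
  [[],
  [],
  [],
  [],
  [],
  [],
  [],
  [],
  [],
  [],
  [([nat_lit 10], (nat_lit 129))],
  [([nat_lit 10], (nat_lit 127))],
  [([nat_lit 8], (nat_lit 93))],
  [([nat_lit 10], (nat_lit 119))],
  [([nat_lit 8], (nat_lit 85))],
  [([nat_lit 7], (nat_lit 71))],
  [([nat_lit 10], (nat_lit 121))],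
  [([nat_lit 8], (nat_lit 87))],
  [([nat_lit 7], (nat_lit 73))],
  [([], (nat_lit 41))],
  [([nat_lit 10], (nat_lit 123))],
  [([nat_lit 8], (nat_lit 89))],
  [([nat_lit 7], (nat_lit 75))],
  [([], (nat_lit 49))],
  [([], (nat_lit 51))],
  [([nat_lit 10], (nat_lit 125))],
  [([nat_lit 8], (nat_lit 91))],
  [([nat_lit 7], (nat_lit 77))],
  [([], (nat_lit 59))],
  [([], (nat_lit 61))],
  [([], (nat_lit 63))],
  [([nat_lit 10], (nat_lit 117))],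
  [([nat_lit 8], (nat_lit 83))],
  [([nat_lit 7], (nat_lit 69))],
  [([nat_lit 3], (nat_lit 33))],
  [([nat_lit 4], (nat_lit 39))],
  [([nat_lit 5], (nat_lit 47))],
  [([nat_lit 6], (nat_lit 57))],
  [([nat_lit 10], (nat_lit 115))],
  [([nat_lit 8], (nat_lit 81))],
  [([nat_lit 7], (nat_lit 67))],
  [([nat_lit 3], (nat_lit 31))],
  [([nat_lit 4], (nat_lit 37))],
  [([nat_lit 5], (nat_lit 45))],
  [([nat_lit 6], (nat_lit 55))],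
  [([nat_lit 2], (nat_lit 27))],
  [([nat_lit 10], (nat_lit 131))],
  [([], (nat_lit 111))],
  [([], (nat_lit 109))],
  [([], (nat_lit 101))],
  [([], (nat_lit 103))],
  [([], (nat_lit 105))],
  [([], (nat_lit 107))],
  [([], (nat_lit 99))],
  [([], (nat_lit 97))],
  [([nat_lit 10, nat_lit 8, nat_lit 10, nat_lit 7, nat_lit 8, nat_lit 10], (nat_lit 135)), ([nat_lit 10], (nat_lit 117)), ([nat_lit 2, nat_lit 10], (nat_lit 83)), ([nat_lit 2, nat_lit 10], (nat_lit 123)), ([nat_lit 2, nat_lit 5, nat_lit 10], (nat_lit 89)), ([nat_lit 2, nat_lit 5, nat_lit 10, nat_lit 8], (nat_lit 123)), ([nat_lit 2, nat_lit 5, nat_lit 10, nat_lit 8, nat_lit 10, nat_lit 5, nat_lit 10], (nat_lit 117)), ([nat_lit 2, nat_lit 5, nat_lit 10], (nat_lit 121)), ([nat_lit 2, nat_lit 5, nat_lit 4, nat_lit 10], (nat_lit 87)), ([nat_lit 2, nat_lit 5, nat_lit 4,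 nat_lit 10, nat_lit 8], (nat_lit 121)), ([nat_lit 2, nat_lit 5, nat_lit 4, nat_lit 10], (nat_lit 119)), ([nat_lit 2, nat_lit 5, nat_lit 4, nat_lit 3, nat_lit 10], (nat_lit 85)), ([nat_lit 2, nat_lit 5, nat_lit 4, nat_lit 3, nat_lit 10, nat_lit 8], (nat_lit 119)), ([nat_lit 2, nat_lit 5, nat_lit 4, nat_lit 3, nat_lit 10], (nat_lit 117)), ([nat_lit 2, nat_lit 5, nat_lit 4, nat_lit 3, nat_lit 2, nat_lit 10], (nat_lit 83)), ([nat_lit 2, nat_lit 5, nat_lit 4, nat_lit 3, nat_lit 2, nat_lit 10, nat_lit 8], (nat_lit 117)), ([nat_lit 2, nat_lit 5, nat_lit 4, nat_lit 3], (nat_lit 69)), ([nat_lit 2, nat_lit 5, nat_lit 4, nat_lit 3, nat_lit 7, nat_lit 2], (nat_lit 127)), ([nat_lit 2, nat_lit 5, nat_lit 4, nat_lit 3, nat_lit 7, nat_lit 2, nat_lit 10], (nat_lit 123)), ([nat_lit 2, nat_lit 5, nat_lit 4, nat_lit 3, nat_lit 7], (nat_lit 83)),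 ([nat_lit 2, nat_lit 5, nat_lit 4, nat_lit 3, nat_lit 7, nat_lit 8, nat_lit 2, nat_lit 8], (nat_lit 89)), ([nat_lit 2, nat_lit 5, nat_lit 4, nat_lit 3, nat_lit 7, nat_lit 8, nat_lit 2, nat_lit 5, nat_lit 8], (nat_lit 87)), ([nat_lit 2, nat_lit 5, nat_lit 4, nat_lit 3, nat_lit 7, nat_lit 8, nat_lit 2, nat_lit 5, nat_lit 4, nat_lit 8], (nat_lit 121)), ([nat_lit 2, nat_lit 5, nat_lit 4, nat_lit 3, nat_lit 7, nat_lit 8], (nat_lit 117)), ([nat_lit 2, nat_lit 5, nat_lit 4, nat_lit 3, nat_lit 7, nat_lit 8, nat_lit 10, nat_lit 2, nat_lit 10], (nat_lit 123)), ([nat_lit 2, nat_lit 5, nat_lit 4, nat_lit 3, nat_lit 7, nat_lit 8, nat_lit 10, nat_lit 2, nat_lit 5, nat_lit 10], (nat_lit 121)), ([nat_lit 2, nat_lit 5, nat_lit 4, nat_lit 3, nat_lit 7, nat_lit 8, nat_lit 10, nat_lit 2, nat_lit 5, nat_lit 4, nat_lit 10], (nat_lit 119)), ([nat_lit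 2, nat_lit 5, nat_lit 4, nat_lit 3, nat_lit 7, nat_lit 8, nat_lit 10, nat_lit 2, nat_lit 5, nat_lit 4, nat_lit 3, nat_lit 10], (nat_lit 85)), ([nat_lit 2, nat_lit 5, nat_lit 4, nat_lit 3, nat_lit 7, nat_lit 8, nat_lit 10, nat_lit 2, nat_lit 5, nat_lit 4, nat_lit 3, nat_lit 10, nat_lit 8], (nat_lit 119)), ([nat_lit 2, nat_lit 5, nat_lit 4, nat_lit 3, nat_lit 7, nat_lit 8, nat_lit 10, nat_lit 2, nat_lit 5, nat_lit 4, nat_lit 3, nat_lit 10], (nat_lit 117)), ([nat_lit 2, nat_lit 5, nat_lit 4, nat_lit 3, nat_lit 7, nat_lit 8, nat_lit 10, nat_lit 2, nat_lit 5, nat_lit 4, nat_lit 3, nat_lit 2, nat_lit 10], (nat_lit 83)), ([nat_lit 2, nat_lit 5, nat_lit 4, nat_lit 3, nat_lit 7, nat_lit 8, nat_lit 10, nat_lit 2, nat_lit 5, nat_lit 4, nat_lit 3, nat_lit 2, nat_lit 10, nat_lit 8], (nat_lit 117)), ([nat_lit 2, nat_lit 5, nat_lit 4, nat_lit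 3, nat_lit 7, nat_lit 8, nat_lit 10, nat_lit 2, nat_lit 5, nat_lit 4, nat_lit 3], (nat_lit 69)), ([nat_lit 2, nat_lit 5, nat_lit 4, nat_lit 3, nat_lit 7, nat_lit 8, nat_lit 10, nat_lit 2, nat_lit 5, nat_lit 4, nat_lit 3, nat_lit 7, nat_lit 2], (nat_lit 127)), ([nat_lit 2, nat_lit 5, nat_lit 4, nat_lit 3, nat_lit 7, nat_lit 8, nat_lit 10, nat_lit 2, nat_lit 5, nat_lit 4, nat_lit 3, nat_lit 7, nat_lit 2, nat_lit 10], (nat_lit 123)), ([nat_lit 2, nat_lit 5, nat_lit 4, nat_lit 3, nat_lit 7, nat_lit 8, nat_lit 10, nat_lit 2, nat_lit 5, nat_lit 4, nat_lit 3, nat_lit 7], (nat_lit 83)), ([nat_lit 2, nat_lit 5, nat_lit 4, nat_lit 3, nat_lit 7, nat_lit 8, nat_lit 10, nat_lit 2, nat_lit 5, nat_lit 4, nat_lit 3, nat_lit 7, nat_lit 8, nat_lit 2, nat_lit 8], (nat_lit 89)), ([nat_lit 2, nat_lit 5, nat_lit 4, nat_lit 3, nat_lit 7, nat_lit 8,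 nat_lit 10, nat_lit 2, nat_lit 5, nat_lit 4, nat_lit 3, nat_lit 7, nat_lit 8, nat_lit 2, nat_lit 5, nat_lit 8], (nat_lit 87)), ([nat_lit 2, nat_lit 5, nat_lit 4, nat_lit 3, nat_lit 7, nat_lit 8, nat_lit 10, nat_lit 2, nat_lit 5, nat_lit 4, nat_lit 3, nat_lit 7, nat_lit 8, nat_lit 2, nat_lit 5, nat_lit 4, nat_lit 8], (nat_lit 121)), ([nat_lit 2, nat_lit 5, nat_lit 4, nat_lit 3, nat_lit 7, nat_lit 8, nat_lit 10, nat_lit 2, nat_lit 5, nat_lit 4, nat_lit 3, nat_lit 7, nat_lit 8], (nat_lit 117)), ([nat_lit 2, nat_lit 5, nat_lit 4, nat_lit 3, nat_lit 7, nat_lit 8, nat_lit 10, nat_lit 2, nat_lit 5, nat_lit 4, nat_lit 3, nat_lit 7, nat_lit 8, nat_lit 10, nat_lit 2, nat_lit 10], (nat_lit 123)), ([nat_lit 2, nat_lit 5, nat_lit 4, nat_lit 3, nat_lit 7, nat_lit 8, nat_lit 10, nat_lit 2, nat_lit 5, nat_lit 4, nat_lit 3, nat_lit 7, nat_lit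 8, nat_lit 10, nat_lit 2, nat_lit 5, nat_lit 10], (nat_lit 121)), ([nat_lit 2, nat_lit 5, nat_lit 4, nat_lit 3, nat_lit 7, nat_lit 8, nat_lit 10, nat_lit 2, nat_lit 5, nat_lit 4, nat_lit 3, nat_lit 7, nat_lit 8, nat_lit 10, nat_lit 2, nat_lit 5, nat_lit 4, nat_lit 10], (nat_lit 119)), ([nat_lit 2, nat_lit 5, nat_lit 4, nat_lit 3, nat_lit 7, nat_lit 8, nat_lit 10, nat_lit 2, nat_lit 5, nat_lit 4, nat_lit 3, nat_lit 7, nat_lit 8, nat_lit 10, nat_lit 2, nat_lit 5, nat_lit 4, nat_lit 3, nat_lit 10], (nat_lit 85)), ([nat_lit 2, nat_lit 5, nat_lit 4, nat_lit 3, nat_lit 7, nat_lit 8, nat_lit 10, nat_lit 2, nat_lit 5, nat_lit 4, nat_lit 3, nat_lit 7, nat_lit 8, nat_lit 10, nat_lit 2, nat_lit 5, nat_lit 4, nat_lit 3, nat_lit 10, nat_lit 8], (nat_lit 119)), ([nat_lit 2, nat_lit 5, nat_lit 4, nat_lit 3, nat_lit 7, nat_lit 8, nat_lit 10,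 nat_lit 2, nat_lit 5, nat_lit 4, nat_lit 3, nat_lit 7, nat_lit 8, nat_lit 10, nat_lit 2, nat_lit 5, nat_lit 4, nat_lit 3, nat_lit 10], (nat_lit 117)), ([nat_lit 2, nat_lit 5, nat_lit 4, nat_lit 3, nat_lit 7, nat_lit 8, nat_lit 10, nat_lit 2, nat_lit 5, nat_lit 4, nat_lit 3, nat_lit 7, nat_lit 8, nat_lit 10, nat_lit 2, nat_lit 5, nat_lit 4, nat_lit 3, nat_lit 2, nat_lit 10], (nat_lit 83)), ([nat_lit 2, nat_lit 5, nat_lit 4, nat_lit 3, nat_lit 7, nat_lit 8, nat_lit 10, nat_lit 2, nat_lit 5, nat_lit 4, nat_lit 3, nat_lit 7, nat_lit 8, nat_lit 10, nat_lit 2, nat_lit 5, nat_lit 4, nat_lit 3, nat_lit 2, nat_lit 10, nat_lit 8], (nat_lit 117)), ([nat_lit 2, nat_lit 5, nat_lit 4, nat_lit 3, nat_lit 7, nat_lit 8, nat_lit 10, nat_lit 2, nat_lit 5, nat_lit 4, nat_lit 3, nat_lit 7, nat_lit 8, nat_lit 10, nat_lit 2, nat_lit 5, nat_lit 4,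 nat_lit 3], (nat_lit 69)), ([nat_lit 2, nat_lit 5, nat_lit 4, nat_lit 3, nat_lit 7, nat_lit 8, nat_lit 10, nat_lit 2, nat_lit 5, nat_lit 4, nat_lit 3, nat_lit 7, nat_lit 8, nat_lit 10, nat_lit 2, nat_lit 5, nat_lit 4, nat_lit 3, nat_lit 7, nat_lit 2], (nat_lit 127)), ([nat_lit 2, nat_lit 5, nat_lit 4, nat_lit 3, nat_lit 7, nat_lit 8, nat_lit 10, nat_lit 2, nat_lit 5, nat_lit 4, nat_lit 3, nat_lit 7, nat_lit 8, nat_lit 10, nat_lit 2, nat_lit 5, nat_lit 4, nat_lit 3, nat_lit 7, nat_lit 2, nat_lit 10], (nat_lit 123)), ([nat_lit 2, nat_lit 5, nat_lit 4, nat_lit 3, nat_lit 7, nat_lit 8, nat_lit 10, nat_lit 2, nat_lit 5, nat_lit 4, nat_lit 3, nat_lit 7, nat_lit 8, nat_lit 10, nat_lit 2, nat_lit 5, nat_lit 4, nat_lit 3, nat_lit 7], (nat_lit 83)), ([nat_lit 2, nat_lit 5, nat_lit 4, nat_lit 3, nat_lit 7, nat_lit 8, nat_lit 10, nat_lit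 2, nat_lit 5, nat_lit 4, nat_lit 3, nat_lit 7, nat_lit 8, nat_lit 10, nat_lit 2, nat_lit 5, nat_lit 4, nat_lit 3, nat_lit 7, nat_lit 8, nat_lit 2, nat_lit 8], (nat_lit 89)), ([nat_lit 2, nat_lit 5, nat_lit 4, nat_lit 3, nat_lit 7, nat_lit 8, nat_lit 10, nat_lit 2, nat_lit 5, nat_lit 4, nat_lit 3, nat_lit 7, nat_lit 8, nat_lit 10, nat_lit 2, nat_lit 5, nat_lit 4, nat_lit 3, nat_lit 7, nat_lit 8, nat_lit 2, nat_lit 5, nat_lit 8], (nat_lit 87)), ([nat_lit 2, nat_lit 5, nat_lit 4, nat_lit 3, nat_lit 7, nat_lit 8, nat_lit 10, nat_lit 2, nat_lit 5, nat_lit 4, nat_lit 3, nat_lit 7, nat_lit 8, nat_lit 10, nat_lit 2, nat_lit 5, nat_lit 4, nat_lit 3, nat_lit 7, nat_lit 8, nat_lit 2, nat_lit 5, nat_lit 4, nat_lit 8], (nat_lit 121)), ([nat_lit 2, nat_lit 5, nat_lit 4, nat_lit 3, nat_lit 7, nat_lit 8, nat_lit 10, nat_lit 2, nat_lit 5, nat_lit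 4, nat_lit 3, nat_lit 7, nat_lit 8, nat_lit 10, nat_lit 2, nat_lit 5, nat_lit 4, nat_lit 3, nat_lit 7, nat_lit 8], (nat_lit 117)), ([nat_lit 2, nat_lit 5, nat_lit 4, nat_lit 3, nat_lit 7, nat_lit 8, nat_lit 10, nat_lit 2, nat_lit 5, nat_lit 4, nat_lit 3, nat_lit 7, nat_lit 8, nat_lit 10, nat_lit 2, nat_lit 5, nat_lit 4, nat_lit 3, nat_lit 7, nat_lit 8, nat_lit 10, nat_lit 2, nat_lit 10], (nat_lit 123)), ([nat_lit 2, nat_lit 5, nat_lit 4, nat_lit 3, nat_lit 7, nat_lit 8, nat_lit 10, nat_lit 2, nat_lit 5, nat_lit 4, nat_lit 3, nat_lit 7, nat_lit 8, nat_lit 10, nat_lit 2, nat_lit 5, nat_lit 4, nat_lit 3, nat_lit 7, nat_lit 8, nat_lit 10, nat_lit 2, nat_lit 5, nat_lit 10], (nat_lit 121)), ([nat_lit 2, nat_lit 5, nat_lit 4, nat_lit 3, nat_lit 7, nat_lit 8, nat_lit 10, nat_lit 2, nat_lit 5, nat_lit 4, nat_lit 3, nat_lit 7, nat_lit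 8, nat_lit 10, nat_lit 2, nat_lit 5, nat_lit 4, nat_lit 3, nat_lit 7, nat_lit 8, nat_lit 10, nat_lit 2, nat_lit 5, nat_lit 4, nat_lit 10], (nat_lit 119)), ([nat_lit 2, nat_lit 5, nat_lit 4, nat_lit 3, nat_lit 7, nat_lit 8, nat_lit 10, nat_lit 2, nat_lit 5, nat_lit 4, nat_lit 3, nat_lit 7, nat_lit 8, nat_lit 10, nat_lit 2, nat_lit 5, nat_lit 4, nat_lit 3, nat_lit 7, nat_lit 8, nat_lit 10, nat_lit 2, nat_lit 5, nat_lit 4, nat_lit 3, nat_lit 10], (nat_lit 85)), ([nat_lit 2, nat_lit 5, nat_lit 4, nat_lit 3, nat_lit 7, nat_lit 8, nat_lit 10, nat_lit 2, nat_lit 5, nat_lit 4, nat_lit 3, nat_lit 7, nat_lit 8, nat_lit 10, nat_lit 2, nat_lit 5, nat_lit 4, nat_lit 3, nat_lit 7, nat_lit 8, nat_lit 10, nat_lit 2, nat_lit 5, nat_lit 4, nat_lit 3, nat_lit 10, nat_lit 8], (nat_lit 119)), ([nat_lit 2, nat_lit 5, nat_lit 4, nat_lit 3, nat_lit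 7, nat_lit 8, nat_lit 10, nat_lit 2, nat_lit 5, nat_lit 4, nat_lit 3, nat_lit 7, nat_lit 8, nat_lit 10, nat_lit 2, nat_lit 5, nat_lit 4, nat_lit 3, nat_lit 7, nat_lit 8, nat_lit 10, nat_lit 2, nat_lit 5, nat_lit 4, nat_lit 3, nat_lit 10], (nat_lit 117)), ([nat_lit 2, nat_lit 5, nat_lit 4, nat_lit 3, nat_lit 7, nat_lit 8, nat_lit 10, nat_lit 2, nat_lit 5, nat_lit 4, nat_lit 3, nat_lit 7, nat_lit 8, nat_lit 10, nat_lit 2, nat_lit 5, nat_lit 4, nat_lit 3, nat_lit 7, nat_lit 8, nat_lit 10, nat_lit 2, nat_lit 5, nat_lit 4, nat_lit 3, nat_lit 2, nat_lit 10], (nat_lit 83)), ([nat_lit 2, nat_lit 5, nat_lit 4, nat_lit 3, nat_lit 7, nat_lit 8, nat_lit 10, nat_lit 2, nat_lit 5, nat_lit 4, nat_lit 3, nat_lit 7, nat_lit 8, nat_lit 10, nat_lit 2, nat_lit 5, nat_lit 4, nat_lit 3, nat_lit 7, nat_lit 8, nat_lit 10, nat_lit 2, nat_lit 5, nat_lit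 4, nat_lit 3, nat_lit 2, nat_lit 10, nat_lit 8], (nat_lit 117)), ([nat_lit 2, nat_lit 5, nat_lit 4, nat_lit 3, nat_lit 7, nat_lit 8, nat_lit 10, nat_lit 2, nat_lit 5, nat_lit 4, nat_lit 3, nat_lit 7, nat_lit 8, nat_lit 10, nat_lit 2, nat_lit 5, nat_lit 4, nat_lit 3, nat_lit 7, nat_lit 8, nat_lit 10, nat_lit 2, nat_lit 5, nat_lit 4, nat_lit 3], (nat_lit 69)), ([nat_lit 2, nat_lit 5, nat_lit 4, nat_lit 3, nat_lit 7, nat_lit 8, nat_lit 10, nat_lit 2, nat_lit 5, nat_lit 4, nat_lit 3, nat_lit 7, nat_lit 8, nat_lit 10, nat_lit 2, nat_lit 5, nat_lit 4, nat_lit 3, nat_lit 7, nat_lit 8, nat_lit 10, nat_lit 2, nat_lit 5, nat_lit 4, nat_lit 3, nat_lit 7, nat_lit 2], (nat_lit 127)), ([nat_lit 2, nat_lit 5, nat_lit 4, nat_lit 3, nat_lit 7, nat_lit 8, nat_lit 10, nat_lit 2, nat_lit 5, nat_lit 4, nat_lit 3, nat_lit 7, nat_lit 8, nat_lit 10,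 nat_lit 2, nat_lit 5, nat_lit 4, nat_lit 3, nat_lit 7, nat_lit 8, nat_lit 10, nat_lit 2, nat_lit 5, nat_lit 4, nat_lit 3, nat_lit 7, nat_lit 2, nat_lit 10], (nat_lit 123)), ([nat_lit 2, nat_lit 5, nat_lit 4, nat_lit 3, nat_lit 7, nat_lit 8, nat_lit 10, nat_lit 2, nat_lit 5, nat_lit 4, nat_lit 3, nat_lit 7, nat_lit 8, nat_lit 10, nat_lit 2, nat_lit 5, nat_lit 4, nat_lit 3, nat_lit 7, nat_lit 8, nat_lit 10, nat_lit 2, nat_lit 5, nat_lit 4, nat_lit 3, nat_lit 7], (nat_lit 83)), ([nat_lit 2, nat_lit 5, nat_lit 4, nat_lit 3, nat_lit 7, nat_lit 8, nat_lit 10, nat_lit 2, nat_lit 5, nat_lit 4, nat_lit 3, nat_lit 7, nat_lit 8, nat_lit 10, nat_lit 2, nat_lit 5, nat_lit 4, nat_lit 3, nat_lit 7, nat_lit 8, nat_lit 10, nat_lit 2, nat_lit 5, nat_lit 4, nat_lit 3, nat_lit 7, nat_lit 8, nat_lit 2, nat_lit 8], (nat_lit 89)), ([nat_lit 2, nat_lit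 5, nat_lit 4, nat_lit 3, nat_lit 7, nat_lit 8, nat_lit 10, nat_lit 2, nat_lit 5, nat_lit 4, nat_lit 3, nat_lit 7, nat_lit 8, nat_lit 10, nat_lit 2, nat_lit 5, nat_lit 4, nat_lit 3, nat_lit 7, nat_lit 8, nat_lit 10, nat_lit 2, nat_lit 5, nat_lit 4, nat_lit 3, nat_lit 7, nat_lit 8, nat_lit 2, nat_lit 5, nat_lit 8], (nat_lit 87)), ([nat_lit 2, nat_lit 5, nat_lit 4, nat_lit 3, nat_lit 7, nat_lit 8, nat_lit 10, nat_lit 2, nat_lit 5, nat_lit 4, nat_lit 3, nat_lit 7, nat_lit 8, nat_lit 10, nat_lit 2, nat_lit 5, nat_lit 4, nat_lit 3, nat_lit 7, nat_lit 8, nat_lit 10, nat_lit 2, nat_lit 5, nat_lit 4, nat_lit 3, nat_lit 7, nat_lit 8, nat_lit 2, nat_lit 5, nat_lit 4, nat_lit 8], (nat_lit 121)), ([nat_lit 2, nat_lit 5, nat_lit 4, nat_lit 3, nat_lit 7, nat_lit 8, nat_lit 10, nat_lit 2, nat_lit 5, nat_lit 4, nat_lit 3, nat_lit 7, nat_lit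 8, nat_lit 10, nat_lit 2, nat_lit 5, nat_lit 4, nat_lit 3, nat_lit 7, nat_lit 8, nat_lit 10, nat_lit 2, nat_lit 5, nat_lit 4, nat_lit 3, nat_lit 7, nat_lit 8], (nat_lit 117)), ([nat_lit 2, nat_lit 5, nat_lit 4, nat_lit 3, nat_lit 7, nat_lit 8, nat_lit 10, nat_lit 2, nat_lit 5, nat_lit 4, nat_lit 3, nat_lit 7, nat_lit 8, nat_lit 10, nat_lit 2, nat_lit 5, nat_lit 4, nat_lit 3, nat_lit 7, nat_lit 8, nat_lit 10, nat_lit 2, nat_lit 5, nat_lit 4, nat_lit 3, nat_lit 7, nat_lit 8, nat_lit 10, nat_lit 2, nat_lit 10], (nat_lit 123)), ([nat_lit 2, nat_lit 5, nat_lit 4, nat_lit 3, nat_lit 7, nat_lit 8, nat_lit 10, nat_lit 2, nat_lit 5, nat_lit 4, nat_lit 3, nat_lit 7, nat_lit 8, nat_lit 10, nat_lit 2, nat_lit 5, nat_lit 4, nat_lit 3, nat_lit 7, nat_lit 8, nat_lit 10, nat_lit 2, nat_lit 5, nat_lit 4, nat_lit 3, nat_lit 7, nat_lit 8, nat_lit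 10, nat_lit 2, nat_lit 5, nat_lit 10], (nat_lit 121)), ([nat_lit 2, nat_lit 5, nat_lit 4, nat_lit 3, nat_lit 7, nat_lit 8, nat_lit 10, nat_lit 2, nat_lit 5, nat_lit 4, nat_lit 3, nat_lit 7, nat_lit 8, nat_lit 10, nat_lit 2, nat_lit 5, nat_lit 4, nat_lit 3, nat_lit 7, nat_lit 8, nat_lit 10, nat_lit 2, nat_lit 5, nat_lit 4, nat_lit 3, nat_lit 7, nat_lit 8, nat_lit 10, nat_lit 2, nat_lit 5, nat_lit 4, nat_lit 10], (nat_lit 119)), ([nat_lit 2, nat_lit 5, nat_lit 4, nat_lit 3, nat_lit 7, nat_lit 8, nat_lit 10, nat_lit 2, nat_lit 5, nat_lit 4, nat_lit 3, nat_lit 7, nat_lit 8, nat_lit 10, nat_lit 2, nat_lit 5, nat_lit 4, nat_lit 3, nat_lit 7, nat_lit 8, nat_lit 10, nat_lit 2, nat_lit 5, nat_lit 4, nat_lit 3, nat_lit 7, nat_lit 8, nat_lit 10, nat_lit 2, nat_lit 5, nat_lit 4, nat_lit 3, nat_lit 10], (nat_lit 85)), ([nat_lit 2, nat_lit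 5, nat_lit 4, nat_lit 3, nat_lit 7, nat_lit 8, nat_lit 10, nat_lit 2, nat_lit 5, nat_lit 4, nat_lit 3, nat_lit 7, nat_lit 8, nat_lit 10, nat_lit 2, nat_lit 5, nat_lit 4, nat_lit 3, nat_lit 7, nat_lit 8, nat_lit 10, nat_lit 2, nat_lit 5, nat_lit 4, nat_lit 3, nat_lit 7, nat_lit 8, nat_lit 10, nat_lit 2, nat_lit 5, nat_lit 4, nat_lit 3, nat_lit 10, nat_lit 8], (nat_lit 119)), ([nat_lit 2, nat_lit 5, nat_lit 4, nat_lit 3, nat_lit 7, nat_lit 8, nat_lit 10, nat_lit 2, nat_lit 5, nat_lit 4, nat_lit 3, nat_lit 7, nat_lit 8, nat_lit 10, nat_lit 2, nat_lit 5, nat_lit 4, nat_lit 3, nat_lit 7, nat_lit 8, nat_lit 10, nat_lit 2, nat_lit 5, nat_lit 4, nat_lit 3, nat_lit 7, nat_lit 8, nat_lit 10, nat_lit 2, nat_lit 5, nat_lit 4, nat_lit 3, nat_lit 10], (nat_lit 117)), ([nat_lit 2, nat_lit 5, nat_lit 4, nat_lit 3, nat_lit 7, nat_lit 8, nat_lit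 10, nat_lit 2, nat_lit 5, nat_lit 4, nat_lit 3, nat_lit 7, nat_lit 8, nat_lit 10, nat_lit 2, nat_lit 5, nat_lit 4, nat_lit 3, nat_lit 7, nat_lit 8, nat_lit 10, nat_lit 2, nat_lit 5, nat_lit 4, nat_lit 3, nat_lit 7, nat_lit 8, nat_lit 10, nat_lit 2, nat_lit 5, nat_lit 4, nat_lit 3, nat_lit 2, nat_lit 10], (nat_lit 83)), ([nat_lit 2, nat_lit 5, nat_lit 4, nat_lit 3, nat_lit 7, nat_lit 8, nat_lit 10, nat_lit 2, nat_lit 5, nat_lit 4, nat_lit 3, nat_lit 7, nat_lit 8, nat_lit 10, nat_lit 2, nat_lit 5, nat_lit 4, nat_lit 3, nat_lit 7, nat_lit 8, nat_lit 10, nat_lit 2, nat_lit 5, nat_lit 4, nat_lit 3, nat_lit 7, nat_lit 8, nat_lit 10, nat_lit 2, nat_lit 5, nat_lit 4, nat_lit 3, nat_lit 2, nat_lit 10, nat_lit 8], (nat_lit 117)), ([nat_lit 2, nat_lit 5, nat_lit 4, nat_lit 3, nat_lit 7, nat_lit 8, nat_lit 10, nat_lit 2, nat_lit 5, nat_lit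 4, nat_lit 3, nat_lit 7, nat_lit 8, nat_lit 10, nat_lit 2, nat_lit 5, nat_lit 4, nat_lit 3, nat_lit 7, nat_lit 8, nat_lit 10, nat_lit 2, nat_lit 5, nat_lit 4, nat_lit 3, nat_lit 7, nat_lit 8, nat_lit 10, nat_lit 2, nat_lit 5, nat_lit 4, nat_lit 3], (nat_lit 69)), ([nat_lit 2, nat_lit 5, nat_lit 4, nat_lit 3, nat_lit 7, nat_lit 8, nat_lit 10, nat_lit 2, nat_lit 5, nat_lit 4, nat_lit 3, nat_lit 7, nat_lit 8, nat_lit 10, nat_lit 2, nat_lit 5, nat_lit 4, nat_lit 3, nat_lit 7, nat_lit 8, nat_lit 10, nat_lit 2, nat_lit 5, nat_lit 4, nat_lit 3, nat_lit 7, nat_lit 8, nat_lit 10, nat_lit 2, nat_lit 5, nat_lit 4, nat_lit 3, nat_lit 7, nat_lit 2], (nat_lit 127)), ([nat_lit 2, nat_lit 5, nat_lit 4, nat_lit 3, nat_lit 7, nat_lit 8, nat_lit 10, nat_lit 2, nat_lit 5, nat_lit 4, nat_lit 3, nat_lit 7, nat_lit 8, nat_lit 10, nat_lit 2, nat_lit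 5, nat_lit 4, nat_lit 3, nat_lit 7, nat_lit 8, nat_lit 10, nat_lit 2, nat_lit 5, nat_lit 4, nat_lit 3, nat_lit 7, nat_lit 8, nat_lit 10, nat_lit 2, nat_lit 5, nat_lit 4, nat_lit 3, nat_lit 7, nat_lit 2, nat_lit 10], (nat_lit 123)), ([nat_lit 2, nat_lit 5, nat_lit 4, nat_lit 3, nat_lit 7, nat_lit 8, nat_lit 10, nat_lit 2, nat_lit 5, nat_lit 4, nat_lit 3, nat_lit 7, nat_lit 8, nat_lit 10, nat_lit 2, nat_lit 5, nat_lit 4, nat_lit 3, nat_lit 7, nat_lit 8, nat_lit 10, nat_lit 2, nat_lit 5, nat_lit 4, nat_lit 3, nat_lit 7, nat_lit 8, nat_lit 10, nat_lit 2, nat_lit 5, nat_lit 4, nat_lit 3, nat_lit 7], (nat_lit 83)), ([nat_lit 2, nat_lit 5, nat_lit 4, nat_lit 3, nat_lit 7, nat_lit 8, nat_lit 10, nat_lit 2, nat_lit 5, nat_lit 4, nat_lit 3, nat_lit 7, nat_lit 8, nat_lit 10, nat_lit 2, nat_lit 5, nat_lit 4, nat_lit 3, nat_lit 7, nat_lit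 8, nat_lit 10, nat_lit 2, nat_lit 5, nat_lit 4, nat_lit 3, nat_lit 7, nat_lit 8, nat_lit 10, nat_lit 2, nat_lit 5, nat_lit 4, nat_lit 3, nat_lit 7, nat_lit 8, nat_lit 2, nat_lit 8], (nat_lit 89)), ([nat_lit 2, nat_lit 5, nat_lit 4, nat_lit 3, nat_lit 7, nat_lit 8, nat_lit 10, nat_lit 2, nat_lit 5, nat_lit 4, nat_lit 3, nat_lit 7, nat_lit 8, nat_lit 10, nat_lit 2, nat_lit 5, nat_lit 4, nat_lit 3, nat_lit 7, nat_lit 8, nat_lit 10, nat_lit 2, nat_lit 5, nat_lit 4, nat_lit 3, nat_lit 7, nat_lit 8, nat_lit 10, nat_lit 2, nat_lit 5, nat_lit 4, nat_lit 3, nat_lit 7, nat_lit 8, nat_lit 2, nat_lit 5, nat_lit 8], (nat_lit 87)), ([nat_lit 2, nat_lit 5, nat_lit 4, nat_lit 3, nat_lit 7, nat_lit 8, nat_lit 10, nat_lit 2, nat_lit 5, nat_lit 4, nat_lit 3, nat_lit 7, nat_lit 8, nat_lit 10, nat_lit 2, nat_lit 5, nat_lit 4, nat_lit 3, nat_lit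 7, nat_lit 8, nat_lit 10, nat_lit 2, nat_lit 5, nat_lit 4, nat_lit 3, nat_lit 7, nat_lit 8, nat_lit 10, nat_lit 2, nat_lit 5, nat_lit 4, nat_lit 3, nat_lit 7, nat_lit 8, nat_lit 2, nat_lit 5, nat_lit 4, nat_lit 8], (nat_lit 121)), ([nat_lit 2, nat_lit 5, nat_lit 4, nat_lit 3, nat_lit 7, nat_lit 8, nat_lit 10, nat_lit 2, nat_lit 5, nat_lit 4, nat_lit 3, nat_lit 7, nat_lit 8, nat_lit 10, nat_lit 2, nat_lit 5, nat_lit 4, nat_lit 3, nat_lit 7, nat_lit 8, nat_lit 10, nat_lit 2, nat_lit 5, nat_lit 4, nat_lit 3, nat_lit 7, nat_lit 8, nat_lit 10, nat_lit 2, nat_lit 5, nat_lit 4, nat_lit 3, nat_lit 7, nat_lit 8], (nat_lit 117)), ([nat_lit 2, nat_lit 5, nat_lit 4, nat_lit 3, nat_lit 7, nat_lit 8, nat_lit 10, nat_lit 2, nat_lit 5, nat_lit 4, nat_lit 3, nat_lit 7, nat_lit 8, nat_lit 10, nat_lit 2, nat_lit 5, nat_lit 4, nat_lit 3, nat_lit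 7, nat_lit 8, nat_lit 10, nat_lit 2, nat_lit 5, nat_lit 4, nat_lit 3, nat_lit 7, nat_lit 8, nat_lit 10, nat_lit 2, nat_lit 5, nat_lit 4, nat_lit 3, nat_lit 7, nat_lit 8, nat_lit 10, nat_lit 2, nat_lit 10], (nat_lit 123)), ([nat_lit 2, nat_lit 5, nat_lit 4, nat_lit 3, nat_lit 7, nat_lit 8, nat_lit 10, nat_lit 2, nat_lit 5, nat_lit 4, nat_lit 3, nat_lit 7, nat_lit 8, nat_lit 10, nat_lit 2, nat_lit 5, nat_lit 4, nat_lit 3, nat_lit 7, nat_lit 8, nat_lit 10, nat_lit 2, nat_lit 5, nat_lit 4, nat_lit 3, nat_lit 7, nat_lit 8, nat_lit 10, nat_lit 2, nat_lit 5, nat_lit 4, nat_lit 3, nat_lit 7, nat_lit 8, nat_lit 10, nat_lit 2, nat_lit 5, nat_lit 10], (nat_lit 121)), ([nat_lit 2, nat_lit 5, nat_lit 4, nat_lit 3, nat_lit 7, nat_lit 8, nat_lit 10, nat_lit 2, nat_lit 5, nat_lit 4, nat_lit 3, nat_lit 7, nat_lit 8, nat_lit 10, nat_lit 2, nat_lit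 5, nat_lit 4, nat_lit 3, nat_lit 7, nat_lit 8, nat_lit 10, nat_lit 2, nat_lit 5, nat_lit 4, nat_lit 3, nat_lit 7, nat_lit 8, nat_lit 10, nat_lit 2, nat_lit 5, nat_lit 4, nat_lit 3, nat_lit 7, nat_lit 8, nat_lit 10, nat_lit 2, nat_lit 5, nat_lit 4, nat_lit 10], (nat_lit 119)), ([nat_lit 2, nat_lit 5, nat_lit 4, nat_lit 3, nat_lit 7, nat_lit 8, nat_lit 10, nat_lit 2, nat_lit 5, nat_lit 4, nat_lit 3, nat_lit 7, nat_lit 8, nat_lit 10, nat_lit 2, nat_lit 5, nat_lit 4, nat_lit 3, nat_lit 7, nat_lit 8, nat_lit 10, nat_lit 2, nat_lit 5, nat_lit 4, nat_lit 3, nat_lit 7, nat_lit 8, nat_lit 10, nat_lit 2, nat_lit 5, nat_lit 4, nat_lit 3, nat_lit 7, nat_lit 8, nat_lit 10, nat_lit 2, nat_lit 5, nat_lit 4, nat_lit 3, nat_lit 10], (nat_lit 85)), ([nat_lit 2, nat_lit 5, nat_lit 4, nat_lit 3, nat_lit 7, nat_lit 8, nat_lit 10, nat_lit 2, nat_lit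 5, nat_lit 4, nat_lit 3, nat_lit 7, nat_lit 8, nat_lit 10, nat_lit 2, nat_lit 5, nat_lit 4, nat_lit 3, nat_lit 7, nat_lit 8, nat_lit 10, nat_lit 2, nat_lit 5, nat_lit 4, nat_lit 3, nat_lit 7, nat_lit 8, nat_lit 10, nat_lit 2, nat_lit 5, nat_lit 4, nat_lit 3, nat_lit 7, nat_lit 8, nat_lit 10, nat_lit 2, nat_lit 5, nat_lit 4, nat_lit 3, nat_lit 10, nat_lit 8], (nat_lit 119)), ([nat_lit 2, nat_lit 5, nat_lit 4, nat_lit 3, nat_lit 7, nat_lit 8, nat_lit 10, nat_lit 2, nat_lit 5, nat_lit 4, nat_lit 3, nat_lit 7, nat_lit 8, nat_lit 10, nat_lit 2, nat_lit 5, nat_lit 4, nat_lit 3, nat_lit 7, nat_lit 8, nat_lit 10, nat_lit 2, nat_lit 5, nat_lit 4, nat_lit 3, nat_lit 7, nat_lit 8, nat_lit 10, nat_lit 2, nat_lit 5, nat_lit 4, nat_lit 3, nat_lit 7, nat_lit 8, nat_lit 10, nat_lit 2, nat_lit 5, nat_lit 4, nat_lit 3, nat_lit 10], (nat_lit 117)),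 ([nat_lit 2, nat_lit 5, nat_lit 4, nat_lit 3, nat_lit 7, nat_lit 8, nat_lit 10, nat_lit 2, nat_lit 5, nat_lit 4, nat_lit 3, nat_lit 7, nat_lit 8, nat_lit 10, nat_lit 2, nat_lit 5, nat_lit 4, nat_lit 3, nat_lit 7, nat_lit 8, nat_lit 10, nat_lit 2, nat_lit 5, nat_lit 4, nat_lit 3, nat_lit 7, nat_lit 8, nat_lit 10, nat_lit 2, nat_lit 5, nat_lit 4, nat_lit 3, nat_lit 7, nat_lit 8, nat_lit 10, nat_lit 2, nat_lit 5, nat_lit 4, nat_lit 3, nat_lit 2, nat_lit 10], (nat_lit 83)), ([nat_lit 2, nat_lit 5, nat_lit 4, nat_lit 3, nat_lit 7, nat_lit 8, nat_lit 10, nat_lit 2, nat_lit 5, nat_lit 4, nat_lit 3, nat_lit 7, nat_lit 8, nat_lit 10, nat_lit 2, nat_lit 5, nat_lit 4, nat_lit 3, nat_lit 7, nat_lit 8, nat_lit 10, nat_lit 2, nat_lit 5, nat_lit 4, nat_lit 3, nat_lit 7, nat_lit 8, nat_lit 10, nat_lit 2, nat_lit 5, nat_lit 4, nat_lit 3, nat_lit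 7, nat_lit 8, nat_lit 10, nat_lit 2, nat_lit 5, nat_lit 4, nat_lit 3, nat_lit 2, nat_lit 10, nat_lit 8], (nat_lit 117)), ([nat_lit 2, nat_lit 5, nat_lit 4, nat_lit 3, nat_lit 7, nat_lit 8, nat_lit 10, nat_lit 2, nat_lit 5, nat_lit 4, nat_lit 3, nat_lit 7, nat_lit 8, nat_lit 10, nat_lit 2, nat_lit 5, nat_lit 4, nat_lit 3, nat_lit 7, nat_lit 8, nat_lit 10, nat_lit 2, nat_lit 5, nat_lit 4, nat_lit 3, nat_lit 7, nat_lit 8, nat_lit 10, nat_lit 2, nat_lit 5, nat_lit 4, nat_lit 3, nat_lit 7, nat_lit 8, nat_lit 10, nat_lit 2, nat_lit 5, nat_lit 4, nat_lit 3], (nat_lit 69)), ([nat_lit 2, nat_lit 5, nat_lit 4, nat_lit 3, nat_lit 7, nat_lit 8, nat_lit 10, nat_lit 2, nat_lit 5, nat_lit 4, nat_lit 3, nat_lit 7, nat_lit 8, nat_lit 10, nat_lit 2, nat_lit 5, nat_lit 4, nat_lit 3, nat_lit 7, nat_lit 8, nat_lit 10, nat_lit 2, nat_lit 5, nat_lit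 4, nat_lit 3, nat_lit 7, nat_lit 8, nat_lit 10, nat_lit 2, nat_lit 5, nat_lit 4, nat_lit 3, nat_lit 7, nat_lit 8, nat_lit 10, nat_lit 2, nat_lit 5, nat_lit 4, nat_lit 3, nat_lit 7, nat_lit 2], (nat_lit 127)), ([nat_lit 2, nat_lit 5, nat_lit 4, nat_lit 3, nat_lit 7, nat_lit 8, nat_lit 10, nat_lit 2, nat_lit 5, nat_lit 4, nat_lit 3, nat_lit 7, nat_lit 8, nat_lit 10, nat_lit 2, nat_lit 5, nat_lit 4, nat_lit 3, nat_lit 7, nat_lit 8, nat_lit 10, nat_lit 2, nat_lit 5, nat_lit 4, nat_lit 3, nat_lit 7, nat_lit 8, nat_lit 10, nat_lit 2, nat_lit 5, nat_lit 4, nat_lit 3, nat_lit 7, nat_lit 8, nat_lit 10, nat_lit 2, nat_lit 5, nat_lit 4, nat_lit 3, nat_lit 7, nat_lit 2, nat_lit 10], (nat_lit 123)), ([nat_lit 2, nat_lit 5, nat_lit 4, nat_lit 3, nat_lit 7, nat_lit 8, nat_lit 10, nat_lit 2, nat_lit 5, nat_lit 4, nat_lit 3, nat_lit 7, nat_lit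 8, nat_lit 10, nat_lit 2, nat_lit 5, nat_lit 4, nat_lit 3, nat_lit 7, nat_lit 8, nat_lit 10, nat_lit 2, nat_lit 5, nat_lit 4, nat_lit 3, nat_lit 7, nat_lit 8, nat_lit 10, nat_lit 2, nat_lit 5, nat_lit 4, nat_lit 3, nat_lit 7, nat_lit 8, nat_lit 10, nat_lit 2, nat_lit 5, nat_lit 4, nat_lit 3, nat_lit 7], (nat_lit 83)), ([nat_lit 2, nat_lit 5, nat_lit 4, nat_lit 3, nat_lit 7, nat_lit 8, nat_lit 10, nat_lit 2, nat_lit 5, nat_lit 4, nat_lit 3, nat_lit 7, nat_lit 8, nat_lit 10, nat_lit 2, nat_lit 5, nat_lit 4, nat_lit 3, nat_lit 7, nat_lit 8, nat_lit 10, nat_lit 2, nat_lit 5, nat_lit 4, nat_lit 3, nat_lit 7, nat_lit 8, nat_lit 10, nat_lit 2, nat_lit 5, nat_lit 4, nat_lit 3, nat_lit 7, nat_lit 8, nat_lit 10, nat_lit 2, nat_lit 5, nat_lit 4, nat_lit 3, nat_lit 7, nat_lit 8, nat_lit 2, nat_lit 8], (nat_lit 89)), ([nat_lit 2, nat_lit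 5, nat_lit 4, nat_lit 3, nat_lit 7, nat_lit 8, nat_lit 10, nat_lit 2, nat_lit 5, nat_lit 4, nat_lit 3, nat_lit 7, nat_lit 8, nat_lit 10, nat_lit 2, nat_lit 5, nat_lit 4, nat_lit 3, nat_lit 7, nat_lit 8, nat_lit 10, nat_lit 2, nat_lit 5, nat_lit 4, nat_lit 3, nat_lit 7, nat_lit 8, nat_lit 10, nat_lit 2, nat_lit 5, nat_lit 4, nat_lit 3, nat_lit 7, nat_lit 8, nat_lit 10, nat_lit 2, nat_lit 5, nat_lit 4, nat_lit 3, nat_lit 7, nat_lit 8, nat_lit 2, nat_lit 5, nat_lit 8], (nat_lit 87)), ([nat_lit 2, nat_lit 5, nat_lit 4, nat_lit 3, nat_lit 7, nat_lit 8, nat_lit 10, nat_lit 2, nat_lit 5, nat_lit 4, nat_lit 3, nat_lit 7, nat_lit 8, nat_lit 10, nat_lit 2, nat_lit 5, nat_lit 4, nat_lit 3, nat_lit 7, nat_lit 8, nat_lit 10, nat_lit 2, nat_lit 5, nat_lit 4, nat_lit 3, nat_lit 7, nat_lit 8, nat_lit 10, nat_lit 2, nat_lit 5, nat_lit 4, nat_lit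 3, nat_lit 7, nat_lit 8, nat_lit 10, nat_lit 2, nat_lit 5, nat_lit 4, nat_lit 3, nat_lit 7, nat_lit 8, nat_lit 2, nat_lit 5, nat_lit 4, nat_lit 8], (nat_lit 121)), ([nat_lit 2, nat_lit 5, nat_lit 4, nat_lit 3, nat_lit 7, nat_lit 8, nat_lit 10, nat_lit 2, nat_lit 5, nat_lit 4, nat_lit 3, nat_lit 7, nat_lit 8, nat_lit 10, nat_lit 2, nat_lit 5, nat_lit 4, nat_lit 3, nat_lit 7, nat_lit 8, nat_lit 10, nat_lit 2, nat_lit 5, nat_lit 4, nat_lit 3, nat_lit 7, nat_lit 8, nat_lit 10, nat_lit 2, nat_lit 5, nat_lit 4, nat_lit 3, nat_lit 7, nat_lit 8, nat_lit 10, nat_lit 2, nat_lit 5, nat_lit 4, nat_lit 3, nat_lit 7, nat_lit 8], (nat_lit 117)), ([nat_lit 2, nat_lit 5, nat_lit 4, nat_lit 3, nat_lit 7, nat_lit 8, nat_lit 10, nat_lit 2, nat_lit 5, nat_lit 4, nat_lit 3, nat_lit 7, nat_lit 8, nat_lit 10, nat_lit 2, nat_lit 5, nat_lit 4, nat_lit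 3, nat_lit 7, nat_lit 8, nat_lit 10, nat_lit 2, nat_lit 5, nat_lit 4, nat_lit 3, nat_lit 7, nat_lit 8, nat_lit 10, nat_lit 2, nat_lit 5, nat_lit 4, nat_lit 3, nat_lit 7, nat_lit 8, nat_lit 10, nat_lit 2, nat_lit 5, nat_lit 4, nat_lit 3, nat_lit 7, nat_lit 8, nat_lit 10, nat_lit 2, nat_lit 10], (nat_lit 123)), ([nat_lit 2, nat_lit 5, nat_lit 4, nat_lit 3, nat_lit 7, nat_lit 8, nat_lit 10, nat_lit 2, nat_lit 5, nat_lit 4, nat_lit 3, nat_lit 7, nat_lit 8, nat_lit 10, nat_lit 2, nat_lit 5, nat_lit 4, nat_lit 3, nat_lit 7, nat_lit 8, nat_lit 10, nat_lit 2, nat_lit 5, nat_lit 4, nat_lit 3, nat_lit 7, nat_lit 8, nat_lit 10, nat_lit 2, nat_lit 5, nat_lit 4, nat_lit 3, nat_lit 7, nat_lit 8, nat_lit 10, nat_lit 2, nat_lit 5, nat_lit 4, nat_lit 3, nat_lit 7, nat_lit 8, nat_lit 10, nat_lit 2, nat_lit 5, nat_lit 10], (nat_lit 121)), ([nat_lit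 2, nat_lit 5, nat_lit 4, nat_lit 3, nat_lit 7, nat_lit 8, nat_lit 10, nat_lit 2, nat_lit 5, nat_lit 4, nat_lit 3, nat_lit 7, nat_lit 8, nat_lit 10, nat_lit 2, nat_lit 5, nat_lit 4, nat_lit 3, nat_lit 7, nat_lit 8, nat_lit 10, nat_lit 2, nat_lit 5, nat_lit 4, nat_lit 3, nat_lit 7, nat_lit 8, nat_lit 10, nat_lit 2, nat_lit 5, nat_lit 4, nat_lit 3, nat_lit 7, nat_lit 8, nat_lit 10, nat_lit 2, nat_lit 5, nat_lit 4, nat_lit 3, nat_lit 7, nat_lit 8, nat_lit 10, nat_lit 2, nat_lit 5, nat_lit 4, nat_lit 10], (nat_lit 119)), ([nat_lit 2, nat_lit 5, nat_lit 4, nat_lit 3, nat_lit 7, nat_lit 8, nat_lit 10, nat_lit 2, nat_lit 5, nat_lit 4, nat_lit 3, nat_lit 7, nat_lit 8, nat_lit 10, nat_lit 2, nat_lit 5, nat_lit 4, nat_lit 3, nat_lit 7, nat_lit 8, nat_lit 10, nat_lit 2, nat_lit 5, nat_lit 4, nat_lit 3, nat_lit 7, nat_lit 8, nat_lit 10,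 nat_lit 2, nat_lit 5, nat_lit 4, nat_lit 3, nat_lit 7, nat_lit 8, nat_lit 10, nat_lit 2, nat_lit 5, nat_lit 4, nat_lit 3, nat_lit 7, nat_lit 8, nat_lit 10, nat_lit 2, nat_lit 5, nat_lit 4, nat_lit 3, nat_lit 10], (nat_lit 85)), ([nat_lit 2, nat_lit 5, nat_lit 4, nat_lit 3, nat_lit 7, nat_lit 8, nat_lit 10, nat_lit 2, nat_lit 5, nat_lit 4, nat_lit 3, nat_lit 7, nat_lit 8, nat_lit 10, nat_lit 2, nat_lit 5, nat_lit 4, nat_lit 3, nat_lit 7, nat_lit 8, nat_lit 10, nat_lit 2, nat_lit 5, nat_lit 4, nat_lit 3, nat_lit 7, nat_lit 8, nat_lit 10, nat_lit 2, nat_lit 5, nat_lit 4, nat_lit 3, nat_lit 7, nat_lit 8, nat_lit 10, nat_lit 2, nat_lit 5, nat_lit 4, nat_lit 3, nat_lit 7, nat_lit 8, nat_lit 10, nat_lit 2, nat_lit 5, nat_lit 4, nat_lit 3, nat_lit 10, nat_lit 8], (nat_lit 119)), ([nat_lit 2, nat_lit 5, nat_lit 4, nat_lit 3, nat_lit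 7, nat_lit 8, nat_lit 10, nat_lit 2, nat_lit 5, nat_lit 4, nat_lit 3, nat_lit 7, nat_lit 8, nat_lit 10, nat_lit 2, nat_lit 5, nat_lit 4, nat_lit 3, nat_lit 7, nat_lit 8, nat_lit 10, nat_lit 2, nat_lit 5, nat_lit 4, nat_lit 3, nat_lit 7, nat_lit 8, nat_lit 10, nat_lit 2, nat_lit 5, nat_lit 4, nat_lit 3, nat_lit 7, nat_lit 8, nat_lit 10, nat_lit 2, nat_lit 5, nat_lit 4, nat_lit 3, nat_lit 7, nat_lit 8, nat_lit 10, nat_lit 2, nat_lit 5, nat_lit 4, nat_lit 3, nat_lit 10], (nat_lit 117)), ([nat_lit 2, nat_lit 5, nat_lit 4, nat_lit 3, nat_lit 7, nat_lit 8, nat_lit 10, nat_lit 2, nat_lit 5, nat_lit 4, nat_lit 3, nat_lit 7, nat_lit 8, nat_lit 10, nat_lit 2, nat_lit 5, nat_lit 4, nat_lit 3, nat_lit 7, nat_lit 8, nat_lit 10, nat_lit 2, nat_lit 5, nat_lit 4, nat_lit 3, nat_lit 7, nat_lit 8, nat_lit 10, nat_lit 2, nat_lit 5, nat_lit 4,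 nat_lit 3, nat_lit 7, nat_lit 8, nat_lit 10, nat_lit 2, nat_lit 5, nat_lit 4, nat_lit 3, nat_lit 7, nat_lit 8, nat_lit 10, nat_lit 2, nat_lit 5, nat_lit 4, nat_lit 3, nat_lit 2, nat_lit 10], (nat_lit 83)), ([nat_lit 2, nat_lit 5, nat_lit 4, nat_lit 3, nat_lit 7, nat_lit 8, nat_lit 10, nat_lit 2, nat_lit 5, nat_lit 4, nat_lit 3, nat_lit 7, nat_lit 8, nat_lit 10, nat_lit 2, nat_lit 5, nat_lit 4, nat_lit 3, nat_lit 7, nat_lit 8, nat_lit 10, nat_lit 2, nat_lit 5, nat_lit 4, nat_lit 3, nat_lit 7, nat_lit 8, nat_lit 10, nat_lit 2, nat_lit 5, nat_lit 4, nat_lit 3, nat_lit 7, nat_lit 8, nat_lit 10, nat_lit 2, nat_lit 5, nat_lit 4, nat_lit 3, nat_lit 7, nat_lit 8, nat_lit 10, nat_lit 2, nat_lit 5, nat_lit 4, nat_lit 3, nat_lit 2, nat_lit 10, nat_lit 8], (nat_lit 117)), ([nat_lit 2, nat_lit 5, nat_lit 4, nat_lit 3, nat_lit 7, nat_lit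 8, nat_lit 10, nat_lit 2, nat_lit 5, nat_lit 4, nat_lit 3, nat_lit 7, nat_lit 8, nat_lit 10, nat_lit 2, nat_lit 5, nat_lit 4, nat_lit 3, nat_lit 7, nat_lit 8, nat_lit 10, nat_lit 2, nat_lit 5, nat_lit 4, nat_lit 3, nat_lit 7, nat_lit 8, nat_lit 10, nat_lit 2, nat_lit 5, nat_lit 4, nat_lit 3, nat_lit 7, nat_lit 8, nat_lit 10, nat_lit 2, nat_lit 5, nat_lit 4, nat_lit 3, nat_lit 7, nat_lit 8, nat_lit 10, nat_lit 2, nat_lit 5, nat_lit 4, nat_lit 3], (nat_lit 69)), ([nat_lit 2, nat_lit 5, nat_lit 4, nat_lit 3, nat_lit 7, nat_lit 8, nat_lit 10, nat_lit 2, nat_lit 5, nat_lit 4, nat_lit 3, nat_lit 7, nat_lit 8, nat_lit 10, nat_lit 2, nat_lit 5, nat_lit 4, nat_lit 3, nat_lit 7, nat_lit 8, nat_lit 10, nat_lit 2, nat_lit 5, nat_lit 4, nat_lit 3, nat_lit 7, nat_lit 8, nat_lit 10, nat_lit 2, nat_lit 5, nat_lit 4, nat_lit 3, nat_lit 7, nat_lit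 8, nat_lit 10, nat_lit 2, nat_lit 5, nat_lit 4, nat_lit 3, nat_lit 7, nat_lit 8, nat_lit 10, nat_lit 2, nat_lit 5, nat_lit 4, nat_lit 3, nat_lit 7, nat_lit 2], (nat_lit 127)), ([nat_lit 2, nat_lit 5, nat_lit 4, nat_lit 3, nat_lit 7, nat_lit 8, nat_lit 10, nat_lit 2, nat_lit 5, nat_lit 4, nat_lit 3, nat_lit 7, nat_lit 8, nat_lit 10, nat_lit 2, nat_lit 5, nat_lit 4, nat_lit 3, nat_lit 7, nat_lit 8, nat_lit 10, nat_lit 2, nat_lit 5, nat_lit 4, nat_lit 3, nat_lit 7, nat_lit 8, nat_lit 10, nat_lit 2, nat_lit 5, nat_lit 4, nat_lit 3, nat_lit 7, nat_lit 8, nat_lit 10, nat_lit 2, nat_lit 5, nat_lit 4, nat_lit 3, nat_lit 7, nat_lit 8, nat_lit 10, nat_lit 2, nat_lit 5, nat_lit 4, nat_lit 3, nat_lit 7, nat_lit 2, nat_lit 10], (nat_lit 123)), ([nat_lit 2, nat_lit 5, nat_lit 4, nat_lit 3, nat_lit 7, nat_lit 8, nat_lit 10, nat_lit 2, nat_lit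 5, nat_lit 4, nat_lit 3, nat_lit 7, nat_lit 8, nat_lit 10, nat_lit 2, nat_lit 5, nat_lit 4, nat_lit 3, nat_lit 7, nat_lit 8, nat_lit 10, nat_lit 2, nat_lit 5, nat_lit 4, nat_lit 3, nat_lit 7, nat_lit 8, nat_lit 10, nat_lit 2, nat_lit 5, nat_lit 4, nat_lit 3, nat_lit 7, nat_lit 8, nat_lit 10, nat_lit 2, nat_lit 5, nat_lit 4, nat_lit 3, nat_lit 7, nat_lit 8, nat_lit 10, nat_lit 2, nat_lit 5, nat_lit 4, nat_lit 3, nat_lit 7], (nat_lit 83)), ([nat_lit 2, nat_lit 5, nat_lit 4, nat_lit 3, nat_lit 7, nat_lit 8, nat_lit 10, nat_lit 2, nat_lit 5, nat_lit 4, nat_lit 3, nat_lit 7, nat_lit 8, nat_lit 10, nat_lit 2, nat_lit 5, nat_lit 4, nat_lit 3, nat_lit 7, nat_lit 8, nat_lit 10, nat_lit 2, nat_lit 5, nat_lit 4, nat_lit 3, nat_lit 7, nat_lit 8, nat_lit 10, nat_lit 2, nat_lit 5, nat_lit 4, nat_lit 3, nat_lit 7, nat_lit 8, nat_lit 10, nat_lit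 2, nat_lit 5, nat_lit 4, nat_lit 3, nat_lit 7, nat_lit 8, nat_lit 10, nat_lit 2, nat_lit 5, nat_lit 4, nat_lit 3, nat_lit 7, nat_lit 8, nat_lit 2, nat_lit 8], (nat_lit 89)), ([nat_lit 2, nat_lit 5, nat_lit 4, nat_lit 3, nat_lit 7, nat_lit 8, nat_lit 10, nat_lit 2, nat_lit 5, nat_lit 4, nat_lit 3, nat_lit 7, nat_lit 8, nat_lit 10, nat_lit 2, nat_lit 5, nat_lit 4, nat_lit 3, nat_lit 7, nat_lit 8, nat_lit 10, nat_lit 2, nat_lit 5, nat_lit 4, nat_lit 3, nat_lit 7, nat_lit 8, nat_lit 10, nat_lit 2, nat_lit 5, nat_lit 4, nat_lit 3, nat_lit 7, nat_lit 8, nat_lit 10, nat_lit 2, nat_lit 5, nat_lit 4, nat_lit 3, nat_lit 7, nat_lit 8, nat_lit 10, nat_lit 2, nat_lit 5, nat_lit 4, nat_lit 3, nat_lit 7, nat_lit 8, nat_lit 2, nat_lit 5, nat_lit 8], (nat_lit 87)), ([nat_lit 2, nat_lit 5, nat_lit 4, nat_lit 3, nat_lit 7, nat_lit 8, nat_lit 10,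 nat_lit 2, nat_lit 5, nat_lit 4, nat_lit 3, nat_lit 7, nat_lit 8, nat_lit 10, nat_lit 2, nat_lit 5, nat_lit 4, nat_lit 3, nat_lit 7, nat_lit 8, nat_lit 10, nat_lit 2, nat_lit 5, nat_lit 4, nat_lit 3, nat_lit 7, nat_lit 8, nat_lit 10, nat_lit 2, nat_lit 5, nat_lit 4, nat_lit 3, nat_lit 7, nat_lit 8, nat_lit 10, nat_lit 2, nat_lit 5, nat_lit 4, nat_lit 3, nat_lit 7, nat_lit 8, nat_lit 10, nat_lit 2, nat_lit 5, nat_lit 4, nat_lit 3, nat_lit 7, nat_lit 8, nat_lit 2, nat_lit 5, nat_lit 4, nat_lit 8], (nat_lit 121)), ([nat_lit 2, nat_lit 5, nat_lit 4, nat_lit 3, nat_lit 7, nat_lit 8, nat_lit 10, nat_lit 2, nat_lit 5, nat_lit 4, nat_lit 3, nat_lit 7, nat_lit 8, nat_lit 10, nat_lit 2, nat_lit 5, nat_lit 4, nat_lit 3, nat_lit 7, nat_lit 8, nat_lit 10, nat_lit 2, nat_lit 5, nat_lit 4, nat_lit 3, nat_lit 7, nat_lit 8, nat_lit 10, nat_lit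 2, nat_lit 5, nat_lit 4, nat_lit 3, nat_lit 7, nat_lit 8, nat_lit 10, nat_lit 2, nat_lit 5, nat_lit 4, nat_lit 3, nat_lit 7, nat_lit 8, nat_lit 10, nat_lit 2, nat_lit 5, nat_lit 4, nat_lit 3, nat_lit 7, nat_lit 8], (nat_lit 117)), ([nat_lit 2, nat_lit 5, nat_lit 4, nat_lit 3, nat_lit 7, nat_lit 8, nat_lit 10, nat_lit 2, nat_lit 5, nat_lit 4, nat_lit 3, nat_lit 7, nat_lit 8, nat_lit 10, nat_lit 2, nat_lit 5, nat_lit 4, nat_lit 3, nat_lit 7, nat_lit 8, nat_lit 10, nat_lit 2, nat_lit 5, nat_lit 4, nat_lit 3, nat_lit 7, nat_lit 8, nat_lit 10, nat_lit 2, nat_lit 5, nat_lit 4, nat_lit 3, nat_lit 7, nat_lit 8, nat_lit 10, nat_lit 2, nat_lit 5, nat_lit 4, nat_lit 3, nat_lit 7, nat_lit 8, nat_lit 10, nat_lit 2, nat_lit 5, nat_lit 4, nat_lit 3, nat_lit 7, nat_lit 8, nat_lit 10, nat_lit 2, nat_lit 10], (nat_lit 123)), ([nat_lit 2, nat_lit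 5, nat_lit 4, nat_lit 3, nat_lit 7, nat_lit 8, nat_lit 10, nat_lit 2, nat_lit 5, nat_lit 4, nat_lit 3, nat_lit 7, nat_lit 8, nat_lit 10, nat_lit 2, nat_lit 5, nat_lit 4, nat_lit 3, nat_lit 7, nat_lit 8, nat_lit 10, nat_lit 2, nat_lit 5, nat_lit 4, nat_lit 3, nat_lit 7, nat_lit 8, nat_lit 10, nat_lit 2, nat_lit 5, nat_lit 4, nat_lit 3, nat_lit 7, nat_lit 8, nat_lit 10, nat_lit 2, nat_lit 5, nat_lit 4, nat_lit 3, nat_lit 7, nat_lit 8, nat_lit 10, nat_lit 2, nat_lit 5, nat_lit 4, nat_lit 3, nat_lit 7, nat_lit 8, nat_lit 10, nat_lit 2, nat_lit 5, nat_lit 10], (nat_lit 121)), ([nat_lit 2, nat_lit 5, nat_lit 4, nat_lit 3, nat_lit 7, nat_lit 8, nat_lit 10, nat_lit 2, nat_lit 5, nat_lit 4, nat_lit 3, nat_lit 7, nat_lit 8, nat_lit 10, nat_lit 2, nat_lit 5, nat_lit 4, nat_lit 3, nat_lit 7, nat_lit 8, nat_lit 10, nat_lit 2, nat_lit 5,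 nat_lit 4, nat_lit 3, nat_lit 7, nat_lit 8, nat_lit 10, nat_lit 2, nat_lit 5, nat_lit 4, nat_lit 3, nat_lit 7, nat_lit 8, nat_lit 10, nat_lit 2, nat_lit 5, nat_lit 4, nat_lit 3, nat_lit 7, nat_lit 8, nat_lit 10, nat_lit 2, nat_lit 5, nat_lit 4, nat_lit 3, nat_lit 7, nat_lit 8, nat_lit 10, nat_lit 2, nat_lit 5, nat_lit 4, nat_lit 10], (nat_lit 119)), ([nat_lit 2, nat_lit 5, nat_lit 4, nat_lit 3, nat_lit 7, nat_lit 8, nat_lit 10, nat_lit 2, nat_lit 5, nat_lit 4, nat_lit 3, nat_lit 7, nat_lit 8, nat_lit 10, nat_lit 2, nat_lit 5, nat_lit 4, nat_lit 3, nat_lit 7, nat_lit 8, nat_lit 10, nat_lit 2, nat_lit 5, nat_lit 4, nat_lit 3, nat_lit 7, nat_lit 8, nat_lit 10, nat_lit 2, nat_lit 5, nat_lit 4, nat_lit 3, nat_lit 7, nat_lit 8, nat_lit 10, nat_lit 2, nat_lit 5, nat_lit 4, nat_lit 3, nat_lit 7, nat_lit 8, nat_lit 10, nat_lit 2, nat_lit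 5, nat_lit 4, nat_lit 3, nat_lit 7, nat_lit 8, nat_lit 10, nat_lit 2, nat_lit 5, nat_lit 4, nat_lit 3, nat_lit 10], (nat_lit 85)), ([nat_lit 2, nat_lit 5, nat_lit 4, nat_lit 3, nat_lit 7, nat_lit 8, nat_lit 10, nat_lit 2, nat_lit 5, nat_lit 4, nat_lit 3, nat_lit 7, nat_lit 8, nat_lit 10, nat_lit 2, nat_lit 5, nat_lit 4, nat_lit 3, nat_lit 7, nat_lit 8, nat_lit 10, nat_lit 2, nat_lit 5, nat_lit 4, nat_lit 3, nat_lit 7, nat_lit 8, nat_lit 10, nat_lit 2, nat_lit 5, nat_lit 4, nat_lit 3, nat_lit 7, nat_lit 8, nat_lit 10, nat_lit 2, nat_lit 5, nat_lit 4, nat_lit 3, nat_lit 7, nat_lit 8, nat_lit 10, nat_lit 2, nat_lit 5, nat_lit 4, nat_lit 3, nat_lit 7, nat_lit 8, nat_lit 10, nat_lit 2, nat_lit 5, nat_lit 4, nat_lit 3, nat_lit 10, nat_lit 8], (nat_lit 119)), ([nat_lit 2, nat_lit 5, nat_lit 4, nat_lit 3, nat_lit 7, nat_lit 8, nat_lit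 10, nat_lit 2, nat_lit 5, nat_lit 4, nat_lit 3, nat_lit 7, nat_lit 8, nat_lit 10, nat_lit 2, nat_lit 5, nat_lit 4, nat_lit 3, nat_lit 7, nat_lit 8, nat_lit 10, nat_lit 2, nat_lit 5, nat_lit 4, nat_lit 3, nat_lit 7, nat_lit 8, nat_lit 10, nat_lit 2, nat_lit 5, nat_lit 4, nat_lit 3, nat_lit 7, nat_lit 8, nat_lit 10, nat_lit 2, nat_lit 5, nat_lit 4, nat_lit 3, nat_lit 7, nat_lit 8, nat_lit 10, nat_lit 2, nat_lit 5, nat_lit 4, nat_lit 3, nat_lit 7, nat_lit 8, nat_lit 10, nat_lit 2, nat_lit 5, nat_lit 4, nat_lit 3, nat_lit 10], (nat_lit 117)), ([nat_lit 2, nat_lit 5, nat_lit 4, nat_lit 3, nat_lit 7, nat_lit 8, nat_lit 10, nat_lit 2, nat_lit 5, nat_lit 4, nat_lit 3, nat_lit 7, nat_lit 8, nat_lit 10, nat_lit 2, nat_lit 5, nat_lit 4, nat_lit 3, nat_lit 7, nat_lit 8, nat_lit 10, nat_lit 2, nat_lit 5, nat_lit 4, nat_lit 3, nat_lit 7,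 nat_lit 8, nat_lit 10, nat_lit 2, nat_lit 5, nat_lit 4, nat_lit 3, nat_lit 7, nat_lit 8, nat_lit 10, nat_lit 2, nat_lit 5, nat_lit 4, nat_lit 3, nat_lit 7, nat_lit 8, nat_lit 10, nat_lit 2, nat_lit 5, nat_lit 4, nat_lit 3, nat_lit 7, nat_lit 8, nat_lit 10, nat_lit 2, nat_lit 5, nat_lit 4, nat_lit 3, nat_lit 2, nat_lit 10], (nat_lit 83)), ([nat_lit 2, nat_lit 5, nat_lit 4, nat_lit 3, nat_lit 7, nat_lit 8, nat_lit 10, nat_lit 2, nat_lit 5, nat_lit 4, nat_lit 3, nat_lit 7, nat_lit 8, nat_lit 10, nat_lit 2, nat_lit 5, nat_lit 4, nat_lit 3, nat_lit 7, nat_lit 8, nat_lit 10, nat_lit 2, nat_lit 5, nat_lit 4, nat_lit 3, nat_lit 7, nat_lit 8, nat_lit 10, nat_lit 2, nat_lit 5, nat_lit 4, nat_lit 3, nat_lit 7, nat_lit 8, nat_lit 10, nat_lit 2, nat_lit 5, nat_lit 4, nat_lit 3, nat_lit 7, nat_lit 8, nat_lit 10, nat_lit 2, nat_lit 5, nat_lit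 4, nat_lit 3, nat_lit 7, nat_lit 8, nat_lit 10, nat_lit 2, nat_lit 5, nat_lit 4, nat_lit 3, nat_lit 2, nat_lit 10, nat_lit 8], (nat_lit 117)), ([nat_lit 2, nat_lit 5, nat_lit 4, nat_lit 3, nat_lit 7, nat_lit 8, nat_lit 10, nat_lit 2, nat_lit 5, nat_lit 4, nat_lit 3, nat_lit 7, nat_lit 8, nat_lit 10, nat_lit 2, nat_lit 5, nat_lit 4, nat_lit 3, nat_lit 7, nat_lit 8, nat_lit 10, nat_lit 2, nat_lit 5, nat_lit 4, nat_lit 3, nat_lit 7, nat_lit 8, nat_lit 10, nat_lit 2, nat_lit 5, nat_lit 4, nat_lit 3, nat_lit 7, nat_lit 8, nat_lit 10, nat_lit 2, nat_lit 5, nat_lit 4, nat_lit 3, nat_lit 7, nat_lit 8, nat_lit 10, nat_lit 2, nat_lit 5, nat_lit 4, nat_lit 3, nat_lit 7, nat_lit 8, nat_lit 10, nat_lit 2, nat_lit 5, nat_lit 4, nat_lit 3], (nat_lit 69)), ([nat_lit 2, nat_lit 5, nat_lit 4, nat_lit 3, nat_lit 7, nat_lit 8, nat_lit 10, nat_lit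 2, nat_lit 5, nat_lit 4, nat_lit 3, nat_lit 7, nat_lit 8, nat_lit 10, nat_lit 2, nat_lit 5, nat_lit 4, nat_lit 3, nat_lit 7, nat_lit 8, nat_lit 10, nat_lit 2, nat_lit 5, nat_lit 4, nat_lit 3, nat_lit 7, nat_lit 8, nat_lit 10, nat_lit 2, nat_lit 5, nat_lit 4, nat_lit 3, nat_lit 7, nat_lit 8, nat_lit 10, nat_lit 2, nat_lit 5, nat_lit 4, nat_lit 3, nat_lit 7, nat_lit 8, nat_lit 10, nat_lit 2, nat_lit 5, nat_lit 4, nat_lit 3, nat_lit 7, nat_lit 8, nat_lit 10, nat_lit 2, nat_lit 5, nat_lit 4, nat_lit 3, nat_lit 7, nat_lit 2], (nat_lit 127)), ([nat_lit 2, nat_lit 5, nat_lit 4, nat_lit 3, nat_lit 7, nat_lit 8, nat_lit 10, nat_lit 2, nat_lit 5, nat_lit 4, nat_lit 3, nat_lit 7, nat_lit 8, nat_lit 10, nat_lit 2, nat_lit 5, nat_lit 4, nat_lit 3, nat_lit 7, nat_lit 8, nat_lit 10, nat_lit 2, nat_lit 5, nat_lit 4, nat_lit 3, nat_lit 7, nat_lit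 8, nat_lit 10, nat_lit 2, nat_lit 5, nat_lit 4, nat_lit 3, nat_lit 7, nat_lit 8, nat_lit 10, nat_lit 2, nat_lit 5, nat_lit 4, nat_lit 3, nat_lit 7, nat_lit 8, nat_lit 10, nat_lit 2, nat_lit 5, nat_lit 4, nat_lit 3, nat_lit 7, nat_lit 8, nat_lit 10, nat_lit 2, nat_lit 5, nat_lit 4, nat_lit 3, nat_lit 7, nat_lit 2, nat_lit 10], (nat_lit 123)), ([nat_lit 2, nat_lit 5, nat_lit 4, nat_lit 3, nat_lit 7, nat_lit 8, nat_lit 10, nat_lit 2, nat_lit 5, nat_lit 4, nat_lit 3, nat_lit 7, nat_lit 8, nat_lit 10, nat_lit 2, nat_lit 5, nat_lit 4, nat_lit 3, nat_lit 7, nat_lit 8, nat_lit 10, nat_lit 2, nat_lit 5, nat_lit 4, nat_lit 3, nat_lit 7, nat_lit 8, nat_lit 10, nat_lit 2, nat_lit 5, nat_lit 4, nat_lit 3, nat_lit 7, nat_lit 8, nat_lit 10, nat_lit 2, nat_lit 5, nat_lit 4, nat_lit 3, nat_lit 7, nat_lit 8, nat_lit 10, nat_lit 2, nat_lit 5,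 nat_lit 4, nat_lit 3, nat_lit 7, nat_lit 8, nat_lit 10, nat_lit 2, nat_lit 5, nat_lit 4, nat_lit 3, nat_lit 7], (nat_lit 83)), ([nat_lit 2, nat_lit 5, nat_lit 4, nat_lit 3, nat_lit 7, nat_lit 8, nat_lit 10, nat_lit 2, nat_lit 5, nat_lit 4, nat_lit 3, nat_lit 7, nat_lit 8, nat_lit 10, nat_lit 2, nat_lit 5, nat_lit 4, nat_lit 3, nat_lit 7, nat_lit 8, nat_lit 10, nat_lit 2, nat_lit 5, nat_lit 4, nat_lit 3, nat_lit 7, nat_lit 8, nat_lit 10, nat_lit 2, nat_lit 5, nat_lit 4, nat_lit 3, nat_lit 7, nat_lit 8, nat_lit 10, nat_lit 2, nat_lit 5, nat_lit 4, nat_lit 3, nat_lit 7, nat_lit 8, nat_lit 10, nat_lit 2, nat_lit 5, nat_lit 4, nat_lit 3, nat_lit 7, nat_lit 8, nat_lit 10, nat_lit 2, nat_lit 5, nat_lit 4, nat_lit 3, nat_lit 7, nat_lit 8, nat_lit 2, nat_lit 8], (nat_lit 89)), ([nat_lit 2, nat_lit 5, nat_lit 4, nat_lit 3, nat_lit 7,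 nat_lit 8, nat_lit 10, nat_lit 2, nat_lit 5, nat_lit 4, nat_lit 3, nat_lit 7, nat_lit 8, nat_lit 10, nat_lit 2, nat_lit 5, nat_lit 4, nat_lit 3, nat_lit 7, nat_lit 8, nat_lit 10, nat_lit 2, nat_lit 5, nat_lit 4, nat_lit 3, nat_lit 7, nat_lit 8, nat_lit 10, nat_lit 2, nat_lit 5, nat_lit 4, nat_lit 3, nat_lit 7, nat_lit 8, nat_lit 10, nat_lit 2, nat_lit 5, nat_lit 4, nat_lit 3, nat_lit 7, nat_lit 8, nat_lit 10, nat_lit 2, nat_lit 5, nat_lit 4, nat_lit 3, nat_lit 7, nat_lit 8, nat_lit 10, nat_lit 2, nat_lit 5, nat_lit 4, nat_lit 3, nat_lit 7, nat_lit 8, nat_lit 2, nat_lit 5, nat_lit 8], (nat_lit 87)), ([nat_lit 2, nat_lit 5, nat_lit 4, nat_lit 3, nat_lit 7, nat_lit 8, nat_lit 10, nat_lit 2, nat_lit 5, nat_lit 4, nat_lit 3, nat_lit 7, nat_lit 8, nat_lit 10, nat_lit 2, nat_lit 5, nat_lit 4, nat_lit 3, nat_lit 7, nat_lit 8, nat_lit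 10, nat_lit 2, nat_lit 5, nat_lit 4, nat_lit 3, nat_lit 7, nat_lit 8, nat_lit 10, nat_lit 2, nat_lit 5, nat_lit 4, nat_lit 3, nat_lit 7, nat_lit 8, nat_lit 10, nat_lit 2, nat_lit 5, nat_lit 4, nat_lit 3, nat_lit 7, nat_lit 8, nat_lit 10, nat_lit 2, nat_lit 5, nat_lit 4, nat_lit 3, nat_lit 7, nat_lit 8, nat_lit 10, nat_lit 2, nat_lit 5, nat_lit 4, nat_lit 3, nat_lit 7, nat_lit 8, nat_lit 2, nat_lit 5, nat_lit 4, nat_lit 8], (nat_lit 121)), ([nat_lit 2, nat_lit 5, nat_lit 4, nat_lit 3, nat_lit 7, nat_lit 8, nat_lit 10, nat_lit 2, nat_lit 5, nat_lit 4, nat_lit 3, nat_lit 7, nat_lit 8, nat_lit 10, nat_lit 2, nat_lit 5, nat_lit 4, nat_lit 3, nat_lit 7, nat_lit 8, nat_lit 10, nat_lit 2, nat_lit 5, nat_lit 4, nat_lit 3, nat_lit 7, nat_lit 8, nat_lit 10, nat_lit 2, nat_lit 5, nat_lit 4, nat_lit 3, nat_lit 7, nat_lit 8, nat_lit 10, nat_lit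 2, nat_lit 5, nat_lit 4, nat_lit 3, nat_lit 7, nat_lit 8, nat_lit 10, nat_lit 2, nat_lit 5, nat_lit 4, nat_lit 3, nat_lit 7, nat_lit 8, nat_lit 10, nat_lit 2, nat_lit 5, nat_lit 4, nat_lit 3, nat_lit 7, nat_lit 8], (nat_lit 117)), ([nat_lit 2, nat_lit 5, nat_lit 4, nat_lit 3, nat_lit 7, nat_lit 8, nat_lit 10, nat_lit 2, nat_lit 5, nat_lit 4, nat_lit 3, nat_lit 7, nat_lit 8, nat_lit 10, nat_lit 2, nat_lit 5, nat_lit 4, nat_lit 3, nat_lit 7, nat_lit 8, nat_lit 10, nat_lit 2, nat_lit 5, nat_lit 4, nat_lit 3, nat_lit 7, nat_lit 8, nat_lit 10, nat_lit 2, nat_lit 5, nat_lit 4, nat_lit 3, nat_lit 7, nat_lit 8, nat_lit 10, nat_lit 2, nat_lit 5, nat_lit 4, nat_lit 3, nat_lit 7, nat_lit 8, nat_lit 10, nat_lit 2, nat_lit 5, nat_lit 4, nat_lit 3, nat_lit 7, nat_lit 8, nat_lit 10, nat_lit 2, nat_lit 5, nat_lit 4, nat_lit 3, nat_lit 7, nat_lit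 8, nat_lit 10, nat_lit 2, nat_lit 10], (nat_lit 123)), ([nat_lit 2, nat_lit 5, nat_lit 4, nat_lit 3, nat_lit 7, nat_lit 8, nat_lit 10, nat_lit 2, nat_lit 5, nat_lit 4, nat_lit 3, nat_lit 7, nat_lit 8, nat_lit 10, nat_lit 2, nat_lit 5, nat_lit 4, nat_lit 3, nat_lit 7, nat_lit 8, nat_lit 10, nat_lit 2, nat_lit 5, nat_lit 4, nat_lit 3, nat_lit 7, nat_lit 8, nat_lit 10, nat_lit 2, nat_lit 5, nat_lit 4, nat_lit 3, nat_lit 7, nat_lit 8, nat_lit 10, nat_lit 2, nat_lit 5, nat_lit 4, nat_lit 3, nat_lit 7, nat_lit 8, nat_lit 10, nat_lit 2, nat_lit 5, nat_lit 4, nat_lit 3, nat_lit 7, nat_lit 8, nat_lit 10, nat_lit 2, nat_lit 5, nat_lit 4, nat_lit 3, nat_lit 7, nat_lit 8, nat_lit 10, nat_lit 2, nat_lit 5, nat_lit 10], (nat_lit 121)), ([nat_lit 2, nat_lit 5, nat_lit 4, nat_lit 3, nat_lit 7, nat_lit 8, nat_lit 10, nat_lit 2, nat_lit 5, nat_lit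 4, nat_lit 3, nat_lit 7, nat_lit 8, nat_lit 10, nat_lit 2, nat_lit 5, nat_lit 4, nat_lit 3, nat_lit 7, nat_lit 8, nat_lit 10, nat_lit 2, nat_lit 5, nat_lit 4, nat_lit 3, nat_lit 7, nat_lit 8, nat_lit 10, nat_lit 2, nat_lit 5, nat_lit 4, nat_lit 3, nat_lit 7, nat_lit 8, nat_lit 10, nat_lit 2, nat_lit 5, nat_lit 4, nat_lit 3, nat_lit 7, nat_lit 8, nat_lit 10, nat_lit 2, nat_lit 5, nat_lit 4, nat_lit 3, nat_lit 7, nat_lit 8, nat_lit 10, nat_lit 2, nat_lit 5, nat_lit 4, nat_lit 3, nat_lit 7, nat_lit 8, nat_lit 10, nat_lit 2, nat_lit 5, nat_lit 4, nat_lit 10], (nat_lit 119)), ([nat_lit 2, nat_lit 5, nat_lit 4, nat_lit 3, nat_lit 7, nat_lit 8, nat_lit 10, nat_lit 2, nat_lit 5, nat_lit 4, nat_lit 3, nat_lit 7, nat_lit 8, nat_lit 10, nat_lit 2, nat_lit 5, nat_lit 4, nat_lit 3, nat_lit 7, nat_lit 8, nat_lit 10, nat_lit 2, nat_lit 5,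 nat_lit 4, nat_lit 3, nat_lit 7, nat_lit 8, nat_lit 10, nat_lit 2, nat_lit 5, nat_lit 4, nat_lit 3, nat_lit 7, nat_lit 8, nat_lit 10, nat_lit 2, nat_lit 5, nat_lit 4, nat_lit 3, nat_lit 7, nat_lit 8, nat_lit 10, nat_lit 2, nat_lit 5, nat_lit 4, nat_lit 3, nat_lit 7, nat_lit 8, nat_lit 10, nat_lit 2, nat_lit 5, nat_lit 4, nat_lit 3, nat_lit 7, nat_lit 8, nat_lit 10, nat_lit 2, nat_lit 5, nat_lit 4, nat_lit 3, nat_lit 10], (nat_lit 85)), ([nat_lit 2, nat_lit 5, nat_lit 4, nat_lit 3, nat_lit 7, nat_lit 8, nat_lit 10, nat_lit 2, nat_lit 5, nat_lit 4, nat_lit 3, nat_lit 7, nat_lit 8, nat_lit 10, nat_lit 2, nat_lit 5, nat_lit 4, nat_lit 3, nat_lit 7, nat_lit 8, nat_lit 10, nat_lit 2, nat_lit 5, nat_lit 4, nat_lit 3, nat_lit 7, nat_lit 8, nat_lit 10, nat_lit 2, nat_lit 5, nat_lit 4, nat_lit 3, nat_lit 7, nat_lit 8, nat_lit 10, nat_lit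 2, nat_lit 5, nat_lit 4, nat_lit 3, nat_lit 7, nat_lit 8, nat_lit 10, nat_lit 2, nat_lit 5, nat_lit 4, nat_lit 3, nat_lit 7, nat_lit 8, nat_lit 10, nat_lit 2, nat_lit 5, nat_lit 4, nat_lit 3, nat_lit 7, nat_lit 8, nat_lit 10, nat_lit 2, nat_lit 5, nat_lit 4, nat_lit 3, nat_lit 10, nat_lit 8], (nat_lit 119)), ([nat_lit 2, nat_lit 5, nat_lit 4, nat_lit 3, nat_lit 7, nat_lit 8, nat_lit 10, nat_lit 2, nat_lit 5, nat_lit 4, nat_lit 3, nat_lit 7, nat_lit 8, nat_lit 10, nat_lit 2, nat_lit 5, nat_lit 4, nat_lit 3, nat_lit 7, nat_lit 8, nat_lit 10, nat_lit 2, nat_lit 5, nat_lit 4, nat_lit 3, nat_lit 7, nat_lit 8, nat_lit 10, nat_lit 2, nat_lit 5, nat_lit 4, nat_lit 3, nat_lit 7, nat_lit 8, nat_lit 10, nat_lit 2, nat_lit 5, nat_lit 4, nat_lit 3, nat_lit 7, nat_lit 8, nat_lit 10, nat_lit 2, nat_lit 5, nat_lit 4, nat_lit 3, nat_lit 7, nat_lit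 8, nat_lit 10, nat_lit 2, nat_lit 5, nat_lit 4, nat_lit 3, nat_lit 7, nat_lit 8, nat_lit 10, nat_lit 2, nat_lit 5, nat_lit 4, nat_lit 3, nat_lit 10, nat_lit 8, nat_lit 10, nat_lit 3, nat_lit 4, nat_lit 5, nat_lit 7, nat_lit 8, nat_lit 10, nat_lit 2, nat_lit 3, nat_lit 4, nat_lit 5, nat_lit 7, nat_lit 8, nat_lit 10, nat_lit 2, nat_lit 3, nat_lit 4, nat_lit 5, nat_lit 7, nat_lit 8, nat_lit 10, nat_lit 2, nat_lit 3, nat_lit 4, nat_lit 5, nat_lit 7, nat_lit 8, nat_lit 10, nat_lit 2, nat_lit 3, nat_lit 4, nat_lit 5, nat_lit 7, nat_lit 8, nat_lit 10, nat_lit 2, nat_lit 3, nat_lit 4, nat_lit 5, nat_lit 7, nat_lit 8, nat_lit 10, nat_lit 2, nat_lit 3, nat_lit 4, nat_lit 5, nat_lit 7, nat_lit 8, nat_lit 10, nat_lit 2, nat_lit 3, nat_lit 4, nat_lit 5, nat_lit 7, nat_lit 8, nat_lit 10, nat_lit 2, nat_lit 3, nat_lit 4, nat_lit 5], (nat_lit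 69)), ([nat_lit 2, nat_lit 5, nat_lit 4, nat_lit 3, nat_lit 7, nat_lit 8, nat_lit 10, nat_lit 2, nat_lit 5, nat_lit 4, nat_lit 3, nat_lit 7, nat_lit 8, nat_lit 10, nat_lit 2, nat_lit 5, nat_lit 4, nat_lit 3, nat_lit 7, nat_lit 8, nat_lit 10, nat_lit 2, nat_lit 5, nat_lit 4, nat_lit 3, nat_lit 7, nat_lit 8, nat_lit 10, nat_lit 2, nat_lit 5, nat_lit 4, nat_lit 3, nat_lit 7, nat_lit 8, nat_lit 10, nat_lit 2, nat_lit 5, nat_lit 4, nat_lit 3, nat_lit 7, nat_lit 8, nat_lit 10, nat_lit 2, nat_lit 5, nat_lit 4, nat_lit 3, nat_lit 7, nat_lit 8, nat_lit 10, nat_lit 2, nat_lit 5, nat_lit 4, nat_lit 3, nat_lit 7, nat_lit 8, nat_lit 10, nat_lit 2, nat_lit 5, nat_lit 4, nat_lit 3, nat_lit 10, nat_lit 8, nat_lit 10, nat_lit 3, nat_lit 4, nat_lit 5, nat_lit 7, nat_lit 8, nat_lit 10, nat_lit 2, nat_lit 3, nat_lit 4, nat_lit 5, nat_lit 7, nat_lit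 8, nat_lit 10, nat_lit 2, nat_lit 3, nat_lit 4, nat_lit 5, nat_lit 7, nat_lit 8, nat_lit 10, nat_lit 2, nat_lit 3, nat_lit 4, nat_lit 5, nat_lit 7, nat_lit 8, nat_lit 10, nat_lit 2, nat_lit 3, nat_lit 4, nat_lit 5, nat_lit 7, nat_lit 8, nat_lit 10, nat_lit 2, nat_lit 3, nat_lit 4, nat_lit 5, nat_lit 7, nat_lit 8, nat_lit 10, nat_lit 2, nat_lit 3, nat_lit 4, nat_lit 5, nat_lit 7, nat_lit 8, nat_lit 10, nat_lit 2, nat_lit 3, nat_lit 4, nat_lit 5, nat_lit 7, nat_lit 8, nat_lit 10, nat_lit 2, nat_lit 3, nat_lit 4, nat_lit 5, nat_lit 7], (nat_lit 83)), ([nat_lit 2, nat_lit 5, nat_lit 4, nat_lit 3, nat_lit 7, nat_lit 8, nat_lit 10, nat_lit 2, nat_lit 5, nat_lit 4, nat_lit 3, nat_lit 7, nat_lit 8, nat_lit 10, nat_lit 2, nat_lit 5, nat_lit 4, nat_lit 3, nat_lit 7, nat_lit 8, nat_lit 10, nat_lit 2, nat_lit 5, nat_lit 4, nat_lit 3, nat_lit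 7, nat_lit 8, nat_lit 10, nat_lit 2, nat_lit 5, nat_lit 4, nat_lit 3, nat_lit 7, nat_lit 8, nat_lit 10, nat_lit 2, nat_lit 5, nat_lit 4, nat_lit 3, nat_lit 7, nat_lit 8, nat_lit 10, nat_lit 2, nat_lit 5, nat_lit 4, nat_lit 3, nat_lit 7, nat_lit 8, nat_lit 10, nat_lit 2, nat_lit 5, nat_lit 4, nat_lit 3, nat_lit 7, nat_lit 8, nat_lit 10, nat_lit 2, nat_lit 5, nat_lit 4, nat_lit 3, nat_lit 10, nat_lit 8, nat_lit 10, nat_lit 3, nat_lit 4, nat_lit 5, nat_lit 7, nat_lit 8, nat_lit 10, nat_lit 2, nat_lit 3, nat_lit 4, nat_lit 5, nat_lit 7, nat_lit 8, nat_lit 10, nat_lit 2, nat_lit 3, nat_lit 4, nat_lit 5, nat_lit 7, nat_lit 8, nat_lit 10, nat_lit 2, nat_lit 3, nat_lit 4, nat_lit 5, nat_lit 7, nat_lit 8, nat_lit 10, nat_lit 2, nat_lit 3, nat_lit 4, nat_lit 5, nat_lit 7, nat_lit 8, nat_lit 10, nat_lit 2, nat_lit 3, nat_lit 4, nat_lit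 5, nat_lit 7, nat_lit 8, nat_lit 10, nat_lit 2, nat_lit 3, nat_lit 4, nat_lit 5, nat_lit 7, nat_lit 8, nat_lit 10, nat_lit 2, nat_lit 3, nat_lit 4, nat_lit 5, nat_lit 7, nat_lit 8, nat_lit 10, nat_lit 2, nat_lit 3, nat_lit 4, nat_lit 5, nat_lit 7, nat_lit 8], (nat_lit 117)), ([nat_lit 2, nat_lit 5, nat_lit 4, nat_lit 3, nat_lit 7, nat_lit 8, nat_lit 10, nat_lit 2, nat_lit 5, nat_lit 4, nat_lit 3, nat_lit 7, nat_lit 8, nat_lit 10, nat_lit 2, nat_lit 5, nat_lit 4, nat_lit 3, nat_lit 7, nat_lit 8, nat_lit 10, nat_lit 2, nat_lit 5, nat_lit 4, nat_lit 3, nat_lit 7, nat_lit 8, nat_lit 10, nat_lit 2, nat_lit 5, nat_lit 4, nat_lit 3, nat_lit 7, nat_lit 8, nat_lit 10, nat_lit 2, nat_lit 5, nat_lit 4, nat_lit 3, nat_lit 7, nat_lit 8, nat_lit 10, nat_lit 2, nat_lit 5, nat_lit 4, nat_lit 3, nat_lit 7, nat_lit 8, nat_lit 10, nat_lit 2, nat_lit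 5, nat_lit 4, nat_lit 3, nat_lit 7, nat_lit 8, nat_lit 10, nat_lit 2, nat_lit 5, nat_lit 4, nat_lit 3, nat_lit 10], (nat_lit 127))],
  [([], (nat_lit 139))]] = true := by decide +kernel
theorem cE1 : allL (fun W => L1.c.evc W L1.c.one) E1 = true := by decide +kernel
theorem cE20 : allL (fun W => L2.c.evc W L2.c.one) E20 = true := by decide +kernel
theorem cE21 : allL (fun W => L2.c.evc W L2.c.one) E21 = true := by decide +kernel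
theorem cE22 : allL (fun W => L2.c.evc W L2.c.one) E22 = true := by decide +kernel
theorem cE23 : allL (fun W => L2.c.evc W L2.c.one) E23 = true := by decide +kernel
theorem cE3 : allL (fun W => L2.c.evc W L2.c.one) E3 = true := by decide +kernel

end H15.YB
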