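import Cfsg.Agent.H15.YB.X1.C0
import Cfsg.Agent.H15.YB.X1.C1

/-! Generated by tools/h15/yb.py. -/

set_option maxRecDepth 100000
set_option maxHeartbeats 0
set_option Elab.async false

namespace H15.YB.X1

open H16 H16.DC
open H26 (jn)

theorem rels : Rels T.π H26.Y332.R0 := rels22
theorem otr : DH.OrbA (genW T.π WN) (nat_lit 0) (H26.full T.n) :=
  (DH.OrbA.step wf (mem_genW _ _) (DH.OrbA.zero _ _) rtr_1)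
theorem trans : Trans (gen T.π 9) T.n := otr.trans ltc
theorem act : Act T.π id (SP T H26.Y332.R0 (nat_lit 14)) T.n (nat_lit 9) := act_S wf rels ivc lgc
theorem mmp0 : ∀ w ∈ Ip0.map (flat Vp0), evA T.π w ∈ genW T.π Wp0 := DH.mem_flat (DH.sub_of all_nil sbp0) _
theorem op00 : DH.OrbA (genW T.π Wp0) (nat_lit 0) mp00_1 :=
  (DH.OrbA.step wf mmp0 (DH.OrbA.zero _ _) rp00_1)
theorem op01 : DH.OrbA (genW T.π Wp0) (nat_lit 1) mp01_1 :=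
  (DH.OrbA.step wf mmp0 (DH.OrbA.zero _ _) rp01_1)
theorem op02 : DH.OrbA (genW T.π Wp0) (nat_lit 2) mp02_1 :=
  (DH.OrbA.step wf mmp0 (DH.OrbA.zero _ _) rp02_1)
theorem mmp1 : ∀ w ∈ Ip1.map (flat Vp1), evA T.π w ∈ genW T.π Wp1 := DH.mem_flat (DH.sub_of all_nil sbp1) _
theorem op10 : DH.OrbA (genW T.π Wp1) (nat_lit 0) mp10_1 :=
  (DH.OrbA.step wf mmp1 (DH.OrbA.zero _ _) rp10_1)
theorem op11 : DH.OrbA (genW T.π Wp1) (nat_lit 4) mp11_1 :=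
  (DH.OrbA.step wf mmp1 (DH.OrbA.zero _ _) rp11_1)
theorem op12 : DH.OrbA (genW T.π Wp1) (nat_lit 1) mp12_1 :=
  (DH.OrbA.step wf mmp1 (DH.OrbA.zero _ _) rp12_1)
theorem op13 : DH.OrbA (genW T.π Wp1) (nat_lit 2) mp13_1 :=
  (DH.OrbA.step wf mmp1 (DH.OrbA.zero _ _) rp13_1)
theorem mmp2 : ∀ w ∈ Ip2.map (flat Vp2), evA T.π w ∈ genW T.π Wp2 := DH.mem_flat (DH.sub_of all_nil sbp2) _
theorem op20 : DH.OrbA (genW T.π Wp2) (nat_lit 0) (maskL [(nat_lit 0)]) :=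
  (DH.OrbA.zero _ _)
theorem op21 : DH.OrbA (genW T.π Wp2) (nat_lit 18) mp21_1 :=
  (DH.OrbA.step wf mmp2 (DH.OrbA.zero _ _) rp21_1)
theorem op22 : DH.OrbA (genW T.π Wp2) (nat_lit 14) mp22_1 :=
  (DH.OrbA.step wf mmp2 (DH.OrbA.zero _ _) rp22_1)
theorem op23 : DH.OrbA (genW T.π Wp2) (nat_lit 1) mp23_1 :=
  (DH.OrbA.step wf mmp2 (DH.OrbA.zero _ _) rp23_1)
theorem mmp3 : ∀ w ∈ Ip3.map (flat Vp3), evA T.π w ∈ genW T.π Wp3 := DH.mem_flat (DH.sub_of all_nil sbp3) _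
theorem op30 : DH.OrbA (genW T.π Wp3) (nat_lit 27) mp30_1 :=
  (DH.OrbA.step wf mmp3 (DH.OrbA.zero _ _) rp30_1)
theorem op31 : DH.OrbA (genW T.π Wp3) (nat_lit 78) mp31_1 :=
  (DH.OrbA.step wf mmp3 (DH.OrbA.zero _ _) rp31_1)
theorem op32 : DH.OrbA (genW T.π Wp3) (nat_lit 82) mp32_1 :=
  (DH.OrbA.step wf mmp3 (DH.OrbA.zero _ _) rp32_1)
theorem op33 : DH.OrbA (genW T.π Wp3) (nat_lit 23) mp33_2 :=
  (DH.OrbA.step wf mmp3 (DH.OrbA.step wf mmp3 (DH.OrbA.zero _ _) rp33_1) rp33_2)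
theorem op34 : DH.OrbA (genW T.π Wp3) (nat_lit 0) mp34_2 :=
  (DH.OrbA.step wf mmp3 (DH.OrbA.step wf mmp3 (DH.OrbA.zero _ _) rp34_1) rp34_2)
theorem op35 : DH.OrbA (genW T.π Wp3) (nat_lit 9) mp35_2 :=
  (DH.OrbA.step wf mmp3 (DH.OrbA.step wf mmp3 (DH.OrbA.zero _ _) rp35_1) rp35_2)
theorem op36 : DH.OrbA (genW T.π Wp3) (nat_lit 4) mp36_2 :=
  (DH.OrbA.step wf mmp3 (DH.OrbA.step wf mmp3 (DH.OrbA.zero _ _) rp36_1) rp36_2)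
theorem op37 : DH.OrbA (genW T.π Wp3) (nat_lit 10) mp37_2 :=
  (DH.OrbA.step wf mmp3 (DH.OrbA.step wf mmp3 (DH.OrbA.zero _ _) rp37_1) rp37_2)
theorem op38 : DH.OrbA (genW T.π Wp3) (nat_lit 1) mp38_2 :=
  (DH.OrbA.step wf mmp3 (DH.OrbA.step wf mmp3 (DH.OrbA.zero _ _) rp38_1) rp38_2)
theorem mmp4 : ∀ w ∈ Ip4.map (flat Vp4), evA T.π w ∈ genW T.π Wp4 := DH.mem_flat (DH.sub_of all_nil sbp4) _
theorem op40 : DH.OrbA (genW T.π Wp4) (nat_lit 0) mp40_2 :=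
  (DH.OrbA.step wf mmp4 (DH.OrbA.step wf mmp4 (DH.OrbA.zero _ _) rp40_1) rp40_2)
theorem op41 : DH.OrbA (genW T.π Wp4) (nat_lit 101) mp41_2 :=
  (DH.OrbA.step wf mmp4 (DH.OrbA.step wf mmp4 (DH.OrbA.zero _ _) rp41_1) rp41_2)
theorem op42 : DH.OrbA (genW T.π Wp4) (nat_lit 1) mp42_2 :=
  (DH.OrbA.step wf mmp4 (DH.OrbA.step wf mmp4 (DH.OrbA.zero _ _) rp42_1) rp42_2)
theorem op43 : DH.OrbA (genW T.π Wp4) (nat_lit 16) mp43_2 :=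
  (DH.OrbA.step wf mmp4 (DH.OrbA.step wf mmp4 (DH.OrbA.zero _ _) rp43_1) rp43_2)
theorem op44 : DH.OrbA (genW T.π Wp4) (nat_lit 9) mp44_2 :=
  (DH.OrbA.step wf mmp4 (DH.OrbA.step wf mmp4 (DH.OrbA.zero _ _) rp44_1) rp44_2)
theorem op45 : DH.OrbA (genW T.π Wp4) (nat_lit 6) mp45_3 :=
  (DH.OrbA.step wf mmp4 (DH.OrbA.step wf mmp4 (DH.OrbA.step wf mmp4 (DH.OrbA.zero _ _) rp45_1) rp45_2) rp45_3)
theorem op46 : DH.OrbA (genW T.π Wp4) (nat_lit 2) mp46_3 :=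
  (DH.OrbA.step wf mmp4 (DH.OrbA.step wf mmp4 (DH.OrbA.step wf mmp4 (DH.OrbA.zero _ _) rp46_1) rp46_2) rp46_3)
theorem mmp5 : ∀ w ∈ Ip5.map (flat Vp5), evA T.π w ∈ genW T.π Wp5 := DH.mem_flat (DH.sub_of all_nil sbp5) _
theorem op50 : DH.OrbA (genW T.π Wp5) (nat_lit 372) mp50_2 :=
  (DH.OrbA.step wf mmp5 (DH.OrbA.step wf mmp5 (DH.OrbA.zero _ _) rp50_1) rp50_2)
theorem op51 : DH.OrbA (genW T.π Wp5) (nat_lit 0) mp51_2 :=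
  (DH.OrbA.step wf mmp5 (DH.OrbA.step wf mmp5 (DH.OrbA.zero _ _) rp51_1) rp51_2)
theorem op52 : DH.OrbA (genW T.π Wp5) (nat_lit 2) mp52_2 :=
  (DH.OrbA.step wf mmp5 (DH.OrbA.step wf mmp5 (DH.OrbA.zero _ _) rp52_1) rp52_2)
theorem op53 : DH.OrbA (genW T.π Wp5) (nat_lit 1) mp53_2 :=
  (DH.OrbA.step wf mmp5 (DH.OrbA.step wf mmp5 (DH.OrbA.zero _ _) rp53_1) rp53_2)
theorem op54 : DH.OrbA (genW T.π Wp5) (nat_lit 3) mp54_3 :=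
  (DH.OrbA.step wf mmp5 (DH.OrbA.step wf mmp5 (DH.OrbA.step wf mmp5 (DH.OrbA.zero _ _) rp54_1) rp54_2) rp54_3)

end H15.YB.X1
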