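import Cfsg.Agent.H15.YB.Y1
import Cfsg.Agent.H15.YB.X1

/-! Generated by tools/h15/yb.py. -/

set_option maxRecDepth 100000
set_option maxHeartbeats 0
set_option Elab.async false

namespace H15.YB.L1

open H16 H16.DC
open H26 (jn)

noncomputable def f0 : Fc := ⟨(nat_lit 2), (nat_lit 0), (nat_lit 0), (nat_lit 0), nat_lit 0x78f732c2d7ee000, nat_lit 0x78f732c2d7ee000⟩
noncomputable def f1 : Fc := ⟨(nat_lit 0), (nat_lit 0), (nat_lit 0), (nat_lit 0), nat_lit 0xc084a855e2d6334, nat_lit 0x503742ca9ba4000⟩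
noncomputable def f2 : Fc := ⟨(nat_lit 0), (nat_lit 0), (nat_lit 0), (nat_lit 0), nat_lit 0x3907cec2d7ee000, nat_lit 0x78f85e9557ee000⟩
noncomputable def f3 : Fc := ⟨(nat_lit 0), (nat_lit 0), (nat_lit 0), (nat_lit 0), nat_lit 0x66dcdd3da9cd000, nat_lit 0x66dcdd3da9cd000⟩
noncomputable def f4 : Fc := ⟨(nat_lit 0), (nat_lit 0), (nat_lit 0), (nat_lit 0), nat_lit 0x75c6502dbcdc000, nat_lit 0x75c6502dbcdc000⟩
noncomputable def f5 : Fc := ⟨(nat_lit 0), (nat_lit 0), (nat_lit 0), (nat_lit 0), nat_lit 0x78f732c5b7ee000, nat_lit 0x78f732c5b7ee000⟩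
noncomputable def f6 : Fc := ⟨(nat_lit 0), (nat_lit 0), (nat_lit 0), (nat_lit 0), nat_lit 0xd03ceaa80733000, nat_lit 0xd03ceaa80733000⟩
noncomputable def f7 : Fc := ⟨(nat_lit 0), (nat_lit 0), (nat_lit 0), (nat_lit 0), nat_lit 0x78f85e9557ee000, nat_lit 0x3907cec2d7ee000⟩
noncomputable def f8 : Fc := ⟨(nat_lit 0), (nat_lit 0), (nat_lit 0), (nat_lit 0), nat_lit 0x503742ca9ba4000, nat_lit 0xc084a855e2d6334⟩
noncomputable def f9 : Fc := ⟨(nat_lit 0), (nat_lit 0), (nat_lit 0), (nat_lit 0), nat_lit 0xc084a855e2d6334, nat_lit 0x503742ca9ba4000⟩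
noncomputable def f10 : Fc := ⟨(nat_lit 0), (nat_lit 0), (nat_lit 0), (nat_lit 0), nat_lit 0x3907cec2d7ee000, nat_lit 0x78f85e9557ee000⟩
noncomputable def f11 : Fc := ⟨(nat_lit 0), (nat_lit 0), (nat_lit 0), (nat_lit 0), nat_lit 0x66dcdd3da9cd000, nat_lit 0x66dcdd3da9cd000⟩
noncomputable def f12 : Fc := ⟨(nat_lit 0), (nat_lit 0), (nat_lit 0), (nat_lit 0), nat_lit 0x75c6502dbcdc000, nat_lit 0x75c6502dbcdc000⟩
noncomputable def f13 : Fc := ⟨(nat_lit 0), (nat_lit 0), (nat_lit 0), (nat_lit 0), nat_lit 0x78f732c5b7ee000, nat_lit 0x78f732c5b7ee000⟩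
noncomputable def f14 : Fc := ⟨(nat_lit 0), (nat_lit 0), (nat_lit 0), (nat_lit 0), nat_lit 0xd03ceaa80733000, nat_lit 0xd03ceaa80733000⟩
noncomputable def f15 : Fc := ⟨(nat_lit 0), (nat_lit 0), (nat_lit 0), (nat_lit 0), nat_lit 0xd9dd947f13a2334, nat_lit 0x3f15747293a2000⟩
noncomputable def f16 : Fc := ⟨(nat_lit 0), (nat_lit 0), (nat_lit 0), (nat_lit 0), nat_lit 0xa927203f1bdb7fa, nat_lit 0x55674bd9dbdb000⟩
noncomputable def f17 : Fc := ⟨(nat_lit 0), (nat_lit 0), (nat_lit 0), (nat_lit 0), nat_lit 0x78f85e9557ee000, nat_lit 0x3907cec2d7ee000⟩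
noncomputable def f18 : Fc := ⟨(nat_lit 0), (nat_lit 0), (nat_lit 0), (nat_lit 0), nat_lit 0x74c3db0a7b71632, nat_lit 0xa3ba86967db0000⟩
noncomputable def f19 : Fc := ⟨(nat_lit 0), (nat_lit 0), (nat_lit 0), (nat_lit 0), nat_lit 0x7870d832f7229f4, nat_lit 0x627557a34722000⟩
noncomputable def f20 : Fc := ⟨(nat_lit 0), (nat_lit 0), (nat_lit 0), (nat_lit 0), nat_lit 0xd2d732c2d5a9911, nat_lit 0xbd151175d899000⟩
noncomputable def f21 : Fc := ⟨(nat_lit 0), (nat_lit 0), (nat_lit 0), (nat_lit 0), nat_lit 0xd2d732c2d5a9911, nat_lit 0xbd151175d899000⟩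
noncomputable def f22 : Fc := ⟨(nat_lit 0), (nat_lit 0), (nat_lit 0), (nat_lit 0), nat_lit 0x5fd8db280b0028d, nat_lit 0x9e68ea70f6fa000⟩
noncomputable def f23 : Fc := ⟨(nat_lit 0), (nat_lit 0), (nat_lit 0), (nat_lit 0), nat_lit 0x5fd8db280b0028d, nat_lit 0x9e68ea70f6fa000⟩
noncomputable def f24 : Fc := ⟨(nat_lit 0), (nat_lit 0), (nat_lit 0), (nat_lit 0), nat_lit 0x9238db4696bc000, nat_lit 0x9238db4696bc000⟩
noncomputable def f25 : Fc := ⟨(nat_lit 0), (nat_lit 0), (nat_lit 0), (nat_lit 0), nat_lit 0x9238db4696bc000, nat_lit 0x9238db4696bc000⟩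
noncomputable def f26 : Fc := ⟨(nat_lit 0), (nat_lit 0), (nat_lit 0), (nat_lit 0), nat_lit 0x503742ca9ba4000, nat_lit 0xc084a855e2d6334⟩
noncomputable def f27 : Fc := ⟨(nat_lit 0), (nat_lit 0), (nat_lit 0), (nat_lit 0), nat_lit 0x2036508406a81a3, nat_lit 0x1b149084413692b⟩
noncomputable def f28 : Fc := ⟨(nat_lit 0), (nat_lit 0), (nat_lit 0), (nat_lit 0), nat_lit 0x9e1617911da11b0, nat_lit 0x42f343d15da163e⟩
noncomputable def f29 : Fc := ⟨(nat_lit 0), (nat_lit 0), (nat_lit 0), (nat_lit 0), nat_lit 0x855468644713000, nat_lit 0x566f8d27130e2⟩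
noncomputable def f30 : Fc := ⟨(nat_lit 0), (nat_lit 0), (nat_lit 0), (nat_lit 0), nat_lit 0xd4866fa5c35a000, nat_lit 0x42f8df56b139037⟩
noncomputable def f31 : Fc := ⟨(nat_lit 0), (nat_lit 0), (nat_lit 0), (nat_lit 0), nat_lit 0xd4866fa5c35a000, nat_lit 0x42f8df56b139037⟩
noncomputable def f32 : Fc := ⟨(nat_lit 0), (nat_lit 0), (nat_lit 0), (nat_lit 0), nat_lit 0x855468644713000, nat_lit 0x566f8d27130e2⟩
noncomputable def f33 : Fc := ⟨(nat_lit 0), (nat_lit 0), (nat_lit 0), (nat_lit 0), nat_lit 0xb3355caff35a000, nat_lit 0xbbb8df219139499⟩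
noncomputable def f34 : Fc := ⟨(nat_lit 0), (nat_lit 0), (nat_lit 0), (nat_lit 0), nat_lit 0x73b46898c713000, nat_lit 0xb1d66f0e4713dad⟩
noncomputable def f35 : Fc := ⟨(nat_lit 0), (nat_lit 0), (nat_lit 0), (nat_lit 0), nat_lit 0xca288f28d6a8010, nat_lit 0xbdf6ba3f6136252⟩
noncomputable def f36 : Fc := ⟨(nat_lit 0), (nat_lit 0), (nat_lit 0), (nat_lit 0), nat_lit 0x1f43f07d278328d, nat_lit 0x9056ab1b07831c9⟩
noncomputable def f37 : Fc := ⟨(nat_lit 0), (nat_lit 0), (nat_lit 0), (nat_lit 0), nat_lit 0x4824e714426d1b0, nat_lit 0xc9e3b028f7bcb75⟩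
noncomputable def f38 : Fc := ⟨(nat_lit 0), (nat_lit 0), (nat_lit 0), (nat_lit 0), nat_lit 0x3eb70c54b001be, nat_lit 0xb53841c536fa378⟩
noncomputable def f39 : Fc := ⟨(nat_lit 0), (nat_lit 0), (nat_lit 0), (nat_lit 0), nat_lit 0x2bc1f2901c9faff, nat_lit 0xd071f2b0d3eb38d⟩
noncomputable def f40 : Fc := ⟨(nat_lit 0), (nat_lit 0), (nat_lit 0), (nat_lit 0), nat_lit 0x8602eed9bb009d3, nat_lit 0x356b2f6186faa1c⟩
noncomputable def f41 : Fc := ⟨(nat_lit 0), (nat_lit 0), (nat_lit 0), (nat_lit 0), nat_lit 0x602bcea5c7834a1, nat_lit 0x7685b99507830aa⟩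
noncomputable def f42 : Fc := ⟨(nat_lit 0), (nat_lit 0), (nat_lit 0), (nat_lit 0), nat_lit 0x8704317ed041a9f, nat_lit 0x196a818509ff2a6⟩
noncomputable def f43 : Fc := ⟨(nat_lit 0), (nat_lit 0), (nat_lit 0), (nat_lit 0), nat_lit 0x10d7320a47ee2cc, nat_lit 0xb744e05967ee000⟩
noncomputable def f44 : Fc := ⟨(nat_lit 0), (nat_lit 0), (nat_lit 0), (nat_lit 0), nat_lit 0x10d7320a47ee2cc, nat_lit 0xb744e05967ee000⟩
noncomputable def f45 : Fc := ⟨(nat_lit 0), (nat_lit 0), (nat_lit 0), (nat_lit 0), nat_lit 0x2036508406a81a3, nat_lit 0x1b149084413692b⟩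
noncomputable def f46 : Fc := ⟨(nat_lit 0), (nat_lit 0), (nat_lit 0), (nat_lit 0), nat_lit 0x9e1617911da11b0, nat_lit 0x42f343d15da163e⟩
noncomputable def f47 : Fc := ⟨(nat_lit 0), (nat_lit 0), (nat_lit 0), (nat_lit 0), nat_lit 0xa91bce65b783393, nat_lit 0x7748b26d4783388⟩
noncomputable def f48 : Fc := ⟨(nat_lit 0), (nat_lit 0), (nat_lit 0), (nat_lit 0), nat_lit 0xa6e99ed729658c5, nat_lit 0xc7e3e06822f55b7⟩
noncomputable def f49 : Fc := ⟨(nat_lit 0), (nat_lit 0), (nat_lit 0), (nat_lit 0), nat_lit 0x163376593863a72, nat_lit 0x163a62a1586325a⟩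
noncomputable def f50 : Fc := ⟨(nat_lit 0), (nat_lit 0), (nat_lit 0), (nat_lit 0), nat_lit 0x86c6ecca9d2c877, nat_lit 0x86cc12ca9d2c0a5⟩
noncomputable def f51 : Fc := ⟨(nat_lit 0), (nat_lit 0), (nat_lit 0), (nat_lit 0), nat_lit 0xd9dd947f13a2334, nat_lit 0x3f15747293a2000⟩
noncomputable def f52 : Fc := ⟨(nat_lit 0), (nat_lit 0), (nat_lit 0), (nat_lit 0), nat_lit 0xa927203f1bdb7fa, nat_lit 0x55674bd9dbdb000⟩
noncomputable def f53 : Fc := ⟨(nat_lit 0), (nat_lit 0), (nat_lit 0), (nat_lit 0), nat_lit 0x7bf9e912e17b0cb, nat_lit 0x7bfacd46117b1dc⟩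
noncomputable def f54 : Fc := ⟨(nat_lit 0), (nat_lit 0), (nat_lit 0), (nat_lit 0), nat_lit 0x1e9e990117b1be, nat_lit 0xb7427f5fe17b221⟩
noncomputable def f55 : Fc := ⟨(nat_lit 0), (nat_lit 0), (nat_lit 0), (nat_lit 0), nat_lit 0x8508dbcd59ff010, nat_lit 0x65c4e7cd3041579⟩
noncomputable def f56 : Fc := ⟨(nat_lit 0), (nat_lit 0), (nat_lit 0), (nat_lit 0), nat_lit 0xf3bb895734705c, nat_lit 0x6b5c588a2347d1c⟩
noncomputable def f57 : Fc := ⟨(nat_lit 0), (nat_lit 0), (nat_lit 0), (nat_lit 0), nat_lit 0x4e3abfb9053018d, nat_lit 0xc3942ba57cb8000⟩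
noncomputable def f58 : Fc := ⟨(nat_lit 0), (nat_lit 0), (nat_lit 0), (nat_lit 0), nat_lit 0x4e3abfb9053018d, nat_lit 0xc3942ba57cb8000⟩
noncomputable def f59 : Fc := ⟨(nat_lit 0), (nat_lit 0), (nat_lit 0), (nat_lit 0), nat_lit 0x65c72053594b050, nat_lit 0xda07cf6c3d84000⟩
noncomputable def f60 : Fc := ⟨(nat_lit 0), (nat_lit 0), (nat_lit 0), (nat_lit 0), nat_lit 0x1074987f10190f9, nat_lit 0xc1bb877482c0000⟩
noncomputable def f61 : Fc := ⟨(nat_lit 0), (nat_lit 0), (nat_lit 0), (nat_lit 0), nat_lit 0x3537406872e391c, nat_lit 0xb0db6bc42179023⟩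
noncomputable def f62 : Fc := ⟨(nat_lit 0), (nat_lit 0), (nat_lit 0), (nat_lit 0), nat_lit 0x9a52c2622c63c08, nat_lit 0x47527f28b8d80e2⟩
noncomputable def f63 : Fc := ⟨(nat_lit 0), (nat_lit 0), (nat_lit 0), (nat_lit 0), nat_lit 0x9683944b24db3e3, nat_lit 0x403c3195149f000⟩
noncomputable def f64 : Fc := ⟨(nat_lit 0), (nat_lit 0), (nat_lit 0), (nat_lit 0), nat_lit 0xbc51d99767ae334, nat_lit 0xbae752aa2739000⟩
noncomputable def f65 : Fc := ⟨(nat_lit 0), (nat_lit 0), (nat_lit 0), (nat_lit 0), nat_lit 0xbbecdd167b9aa4b, nat_lit 0xd4f1e71a7ad2110⟩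
noncomputable def f66 : Fc := ⟨(nat_lit 0), (nat_lit 0), (nat_lit 0), (nat_lit 0), nat_lit 0x24e0e0c826b099f, nat_lit 0x27379668ea9e023⟩
noncomputable def f67 : Fc := ⟨(nat_lit 0), (nat_lit 0), (nat_lit 0), (nat_lit 0), nat_lit 0x98369ab5c6ae632, nat_lit 0x366b50a536ae000⟩
noncomputable def f68 : Fc := ⟨(nat_lit 0), (nat_lit 0), (nat_lit 0), (nat_lit 0), nat_lit 0xc6000893031d449, nat_lit 0xc05871409709000⟩
noncomputable def f69 : Fc := ⟨(nat_lit 0), (nat_lit 0), (nat_lit 0), (nat_lit 0), nat_lit 0x3515376b52ac08, nat_lit 0xb0b29ab7cc9894e⟩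
noncomputable def f70 : Fc := ⟨(nat_lit 0), (nat_lit 0), (nat_lit 0), (nat_lit 0), nat_lit 0x7cb677d675a8cfe, nat_lit 0x8167710de2fd640⟩
noncomputable def f71 : Fc := ⟨(nat_lit 0), (nat_lit 0), (nat_lit 0), (nat_lit 0), nat_lit 0x5fcd41979bf711c, nat_lit 0x79d4ab86bf715c⟩
noncomputable def f72 : Fc := ⟨(nat_lit 0), (nat_lit 0), (nat_lit 0), (nat_lit 0), nat_lit 0x158cdd543c38205, nat_lit 0xd9a38bcbb9cc110⟩
noncomputable def f73 : Fc := ⟨(nat_lit 0), (nat_lit 0), (nat_lit 0), (nat_lit 0), nat_lit 0x17896e1c5b71c3e, nat_lit 0x2901022c1db09f4⟩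
noncomputable def f74 : Fc := ⟨(nat_lit 0), (nat_lit 0), (nat_lit 0), (nat_lit 0), nat_lit 0x85c540d7bb712cc, nat_lit 0xcbab2e12adb0cfe⟩
noncomputable def f75 : Fc := ⟨(nat_lit 0), (nat_lit 0), (nat_lit 0), (nat_lit 0), nat_lit 0x3e9cf92732e920d, nat_lit 0x82386bb0f3fb000⟩
noncomputable def f76 : Fc := ⟨(nat_lit 0), (nat_lit 0), (nat_lit 0), (nat_lit 0), nat_lit 0x5f1382757c55252, nat_lit 0xb9b5b52f766e000⟩
noncomputable def f77 : Fc := ⟨(nat_lit 0), (nat_lit 0), (nat_lit 0), (nat_lit 0), nat_lit 0x14320b2a39cc353, nat_lit 0xc4fa38c4cc389f4⟩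
noncomputable def f78 : Fc := ⟨(nat_lit 0), (nat_lit 0), (nat_lit 0), (nat_lit 0), nat_lit 0xd9a10dae560f4be, nat_lit 0x90ac6f1af60f69f⟩
noncomputable def f79 : Fc := ⟨(nat_lit 0), (nat_lit 0), (nat_lit 0), (nat_lit 0), nat_lit 0xbf9d902b19876fc, nat_lit 0x7377420e641c8ac⟩
noncomputable def f80 : Fc := ⟨(nat_lit 0), (nat_lit 0), (nat_lit 0), (nat_lit 0), nat_lit 0x6b430604741c986, nat_lit 0x3f7cda4e3987652⟩
noncomputable def f81 : Fc := ⟨(nat_lit 0), (nat_lit 0), (nat_lit 0), (nat_lit 0), nat_lit 0x9095903be6210d2, nat_lit 0xd029f0ba08357a1⟩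
noncomputable def f82 : Fc := ⟨(nat_lit 0), (nat_lit 0), (nat_lit 0), (nat_lit 0), nat_lit 0xbeca8f52169402f, nat_lit 0x4e2b5366d3038e7⟩
noncomputable def f83 : Fc := ⟨(nat_lit 1), (nat_lit 0), (nat_lit 0), (nat_lit 0), nat_lit 0x89350944cc08000, nat_lit 0⟩
noncomputable def f84 : Fc := ⟨(nat_lit 1), (nat_lit 0), (nat_lit 0), (nat_lit 0), nat_lit 0x89350944cc08000, nat_lit 0⟩
noncomputable def f85 : Fc := ⟨(nat_lit 1), (nat_lit 0), (nat_lit 0), (nat_lit 0), nat_lit 0xc084a855e2d6334, nat_lit 0⟩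
noncomputable def f86 : Fc := ⟨(nat_lit 1), (nat_lit 0), (nat_lit 0), (nat_lit 0), nat_lit 0xc084a855e2d6334, nat_lit 0⟩
noncomputable def f87 : Fc := ⟨(nat_lit 1), (nat_lit 0), (nat_lit 0), (nat_lit 0), nat_lit 0x3907cec2d7ee000, nat_lit 0⟩
noncomputable def f88 : Fc := ⟨(nat_lit 1), (nat_lit 0), (nat_lit 0), (nat_lit 0), nat_lit 0x3907cec2d7ee000, nat_lit 0⟩
noncomputable def f89 : Fc := ⟨(nat_lit 1), (nat_lit 0), (nat_lit 0), (nat_lit 0), nat_lit 0x66dcdd3da9cd000, nat_lit 0⟩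
noncomputable def f90 : Fc := ⟨(nat_lit 1), (nat_lit 0), (nat_lit 0), (nat_lit 0), nat_lit 0x66dcdd3da9cd000, nat_lit 0⟩
noncomputable def f91 : Fc := ⟨(nat_lit 1), (nat_lit 0), (nat_lit 0), (nat_lit 0), nat_lit 0x3907cec2d7ee000, nat_lit 0⟩
noncomputable def f92 : Fc := ⟨(nat_lit 1), (nat_lit 0), (nat_lit 0), (nat_lit 0), nat_lit 0x3907cec2d7ee000, nat_lit 0⟩
noncomputable def f93 : Fc := ⟨(nat_lit 1), (nat_lit 0), (nat_lit 0), (nat_lit 0), nat_lit 0x78f0c06b7b4d3e3, nat_lit 0⟩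
noncomputable def f94 : Fc := ⟨(nat_lit 1), (nat_lit 0), (nat_lit 0), (nat_lit 0), nat_lit 0x78f0c06b7b4d3e3, nat_lit 0⟩
noncomputable def f95 : Fc := ⟨(nat_lit 1), (nat_lit 0), (nat_lit 0), (nat_lit 0), nat_lit 0x75c6502dbcdc000, nat_lit 0⟩
noncomputable def f96 : Fc := ⟨(nat_lit 1), (nat_lit 0), (nat_lit 0), (nat_lit 0), nat_lit 0x75c6502dbcdc000, nat_lit 0⟩
noncomputable def f97 : Fc := ⟨(nat_lit 1), (nat_lit 0), (nat_lit 0), (nat_lit 0), nat_lit 0x75c6502dbcdc000, nat_lit 0⟩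
noncomputable def f98 : Fc := ⟨(nat_lit 1), (nat_lit 0), (nat_lit 0), (nat_lit 0), nat_lit 0x75c6502dbcdc000, nat_lit 0⟩
noncomputable def f99 : Fc := ⟨(nat_lit 1), (nat_lit 0), (nat_lit 0), (nat_lit 0), nat_lit 0x3907cec2d7ee000, nat_lit 0⟩
noncomputable def f100 : Fc := ⟨(nat_lit 1), (nat_lit 0), (nat_lit 0), (nat_lit 0), nat_lit 0x3907cec2d7ee000, nat_lit 0⟩
noncomputable def f101 : Fc := ⟨(nat_lit 1), (nat_lit 0), (nat_lit 0), (nat_lit 0), nat_lit 0x75c6502dbcdc000, nat_lit 0⟩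
noncomputable def f102 : Fc := ⟨(nat_lit 1), (nat_lit 0), (nat_lit 0), (nat_lit 0), nat_lit 0x75c6502dbcdc000, nat_lit 0⟩
noncomputable def f103 : Fc := ⟨(nat_lit 1), (nat_lit 0), (nat_lit 0), (nat_lit 0), nat_lit 0x3907cec2d7ee000, nat_lit 0⟩
noncomputable def f104 : Fc := ⟨(nat_lit 1), (nat_lit 0), (nat_lit 0), (nat_lit 0), nat_lit 0x3907cec2d7ee000, nat_lit 0⟩
noncomputable def f105 : Fc := ⟨(nat_lit 1), (nat_lit 0), (nat_lit 0), (nat_lit 0), nat_lit 0x3907cec2d7ee000, nat_lit 0⟩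
noncomputable def f106 : Fc := ⟨(nat_lit 1), (nat_lit 0), (nat_lit 0), (nat_lit 0), nat_lit 0x3907cec2d7ee000, nat_lit 0⟩
noncomputable def f107 : Fc := ⟨(nat_lit 1), (nat_lit 0), (nat_lit 0), (nat_lit 0), nat_lit 0x38266248ad08000, nat_lit 0⟩
noncomputable def f108 : Fc := ⟨(nat_lit 1), (nat_lit 0), (nat_lit 0), (nat_lit 0), nat_lit 0x5279f7b772e6000, nat_lit 0⟩
noncomputable def f109 : Fc := ⟨(nat_lit 1), (nat_lit 0), (nat_lit 0), (nat_lit 0), nat_lit 0x78f732c5b7ee000, nat_lit 0⟩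
noncomputable def f110 : Fc := ⟨(nat_lit 1), (nat_lit 0), (nat_lit 0), (nat_lit 0), nat_lit 0xc2d036cf08693c9, nat_lit 0⟩
noncomputable def f111 : Fc := ⟨(nat_lit 1), (nat_lit 0), (nat_lit 0), (nat_lit 0), nat_lit 0xcf04d678f6a237a, nat_lit 0⟩
noncomputable def f112 : Fc := ⟨(nat_lit 1), (nat_lit 0), (nat_lit 0), (nat_lit 0), nat_lit 0x78f732c5b7ee000, nat_lit 0⟩
noncomputable def f113 : Fc := ⟨(nat_lit 1), (nat_lit 0), (nat_lit 0), (nat_lit 0), nat_lit 0xc084a855e2d6334, nat_lit 0⟩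
noncomputable def f114 : Fc := ⟨(nat_lit 1), (nat_lit 0), (nat_lit 0), (nat_lit 0), nat_lit 0x3907cec2d7ee000, nat_lit 0⟩
noncomputable def f115 : Fc := ⟨(nat_lit 1), (nat_lit 0), (nat_lit 0), (nat_lit 0), nat_lit 0x3907cec2d7ee000, nat_lit 0⟩
noncomputable def f116 : Fc := ⟨(nat_lit 1), (nat_lit 0), (nat_lit 0), (nat_lit 0), nat_lit 0x66dcdd3da9cd000, nat_lit 0⟩
noncomputable def f117 : Fc := ⟨(nat_lit 1), (nat_lit 0), (nat_lit 0), (nat_lit 0), nat_lit 0x66dcdd3da9cd000, nat_lit 0⟩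
noncomputable def f118 : Fc := ⟨(nat_lit 1), (nat_lit 0), (nat_lit 0), (nat_lit 0), nat_lit 0x3deb5c99f90c3e3, nat_lit 0⟩
noncomputable def f119 : Fc := ⟨(nat_lit 1), (nat_lit 0), (nat_lit 0), (nat_lit 0), nat_lit 0x65b133c45755334, nat_lit 0⟩
noncomputable def f120 : Fc := ⟨(nat_lit 1), (nat_lit 0), (nat_lit 0), (nat_lit 0), nat_lit 0x69342c34d51b000, nat_lit 0⟩
noncomputable def f121 : Fc := ⟨(nat_lit 1), (nat_lit 0), (nat_lit 0), (nat_lit 0), nat_lit 0x69342c34d51b000, nat_lit 0⟩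
noncomputable def f122 : Fc := ⟨(nat_lit 1), (nat_lit 0), (nat_lit 0), (nat_lit 0), nat_lit 0x89350944cc08000, nat_lit 0⟩
noncomputable def f123 : Fc := ⟨(nat_lit 1), (nat_lit 0), (nat_lit 0), (nat_lit 0), nat_lit 0x89350944cc08000, nat_lit 0⟩
noncomputable def f124 : Fc := ⟨(nat_lit 1), (nat_lit 0), (nat_lit 0), (nat_lit 0), nat_lit 0x78f85e9557ee000, nat_lit 0⟩
noncomputable def f125 : Fc := ⟨(nat_lit 1), (nat_lit 0), (nat_lit 0), (nat_lit 0), nat_lit 0x78f85e9557ee000, nat_lit 0⟩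
noncomputable def f126 : Fc := ⟨(nat_lit 1), (nat_lit 0), (nat_lit 0), (nat_lit 0), nat_lit 0xc7ea3ec421dd2cc, nat_lit 0⟩
noncomputable def f127 : Fc := ⟨(nat_lit 1), (nat_lit 0), (nat_lit 0), (nat_lit 0), nat_lit 0xd1d090e39662c0, nat_lit 0⟩
noncomputable def f128 : Fc := ⟨(nat_lit 1), (nat_lit 0), (nat_lit 0), (nat_lit 0), nat_lit 0x10d7320a47ee2cc, nat_lit 0⟩
noncomputable def f129 : Fc := ⟨(nat_lit 1), (nat_lit 0), (nat_lit 0), (nat_lit 0), nat_lit 0x10d7320a47ee2cc, nat_lit 0⟩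
noncomputable def f130 : Fc := ⟨(nat_lit 1), (nat_lit 0), (nat_lit 0), (nat_lit 0), nat_lit 0x503742ca9ba4000, nat_lit 0⟩
noncomputable def f131 : Fc := ⟨(nat_lit 1), (nat_lit 0), (nat_lit 0), (nat_lit 0), nat_lit 0x503742ca9ba4000, nat_lit 0⟩
noncomputable def f132 : Fc := ⟨(nat_lit 1), (nat_lit 0), (nat_lit 0), (nat_lit 0), nat_lit 0x3ee36c206d8f9a1, nat_lit 0⟩
noncomputable def f133 : Fc := ⟨(nat_lit 1), (nat_lit 0), (nat_lit 0), (nat_lit 0), nat_lit 0x735c384ab9b53d, nat_lit 0⟩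
noncomputable def f134 : Fc := ⟨(nat_lit 1), (nat_lit 0), (nat_lit 0), (nat_lit 0), nat_lit 0x655984c2db9b000, nat_lit 0⟩
noncomputable def f135 : Fc := ⟨(nat_lit 1), (nat_lit 0), (nat_lit 0), (nat_lit 0), nat_lit 0x655984c2db9b000, nat_lit 0⟩
noncomputable def f136 : Fc := ⟨(nat_lit 1), (nat_lit 0), (nat_lit 0), (nat_lit 0), nat_lit 0x793998d4c70b000, nat_lit 0⟩
noncomputable def f137 : Fc := ⟨(nat_lit 1), (nat_lit 0), (nat_lit 0), (nat_lit 0), nat_lit 0x980659cac3fa000, nat_lit 0⟩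
noncomputable def f138 : Fc := ⟨(nat_lit 2), (nat_lit 0), (nat_lit 1), (nat_lit 0), nat_lit 0xcfccf54de628750, nat_lit 0x78f732c2d7ee000⟩
noncomputable def f139 : Fc := ⟨(nat_lit 2), (nat_lit 1), (nat_lit 0), (nat_lit 0), nat_lit 0x78f732c2d7ee000, nat_lit 0xcfccf54de628750⟩
noncomputable def f140 : Fc := ⟨(nat_lit 1), (nat_lit 1), (nat_lit 1), (nat_lit 0), nat_lit 0x75c6502dbcdc000, nat_lit 0⟩
noncomputable def f141 : Fc := ⟨(nat_lit 1), (nat_lit 1), (nat_lit 1), (nat_lit 0), nat_lit 0x75c6502dbcdc000, nat_lit 0⟩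
noncomputable def f142 : Fc := ⟨(nat_lit 1), (nat_lit 1), (nat_lit 1), (nat_lit 0), nat_lit 0x67737c8d7444000, nat_lit 0⟩
noncomputable def f143 : Fc := ⟨(nat_lit 1), (nat_lit 1), (nat_lit 1), (nat_lit 0), nat_lit 0x67737c8d7444000, nat_lit 0⟩
noncomputable def f144 : Fc := ⟨(nat_lit 1), (nat_lit 1), (nat_lit 1), (nat_lit 0), nat_lit 0x6c2b018894ee000, nat_lit 0⟩
noncomputable def f145 : Fc := ⟨(nat_lit 1), (nat_lit 1), (nat_lit 1), (nat_lit 0), nat_lit 0xac2d0795453d000, nat_lit 0⟩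
noncomputable def f146 : Fc := ⟨(nat_lit 1), (nat_lit 1), (nat_lit 1), (nat_lit 0), nat_lit 0x55aca589ad76000, nat_lit 0⟩
noncomputable def f147 : Fc := ⟨(nat_lit 1), (nat_lit 1), (nat_lit 1), (nat_lit 0), nat_lit 0x8524e48d0bfd000, nat_lit 0⟩
noncomputable def f148 : Fc := ⟨(nat_lit 1), (nat_lit 1), (nat_lit 1), (nat_lit 0), nat_lit 0x8524e48d0bfd000, nat_lit 0⟩
noncomputable def f149 : Fc := ⟨(nat_lit 1), (nat_lit 1), (nat_lit 1), (nat_lit 0), nat_lit 0x42538c4452c4000, nat_lit 0⟩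
noncomputable def f150 : Fc := ⟨(nat_lit 1), (nat_lit 1), (nat_lit 1), (nat_lit 0), nat_lit 0x6ebc1e318c90000, nat_lit 0⟩
noncomputable def f151 : Fc := ⟨(nat_lit 1), (nat_lit 1), (nat_lit 1), (nat_lit 0), nat_lit 0x57bad15da7f8000, nat_lit 0⟩
noncomputable def f152 : Fc := ⟨(nat_lit 1), (nat_lit 1), (nat_lit 1), (nat_lit 0), nat_lit 0x3f999d944835000, nat_lit 0⟩
noncomputable def f153 : Fc := ⟨(nat_lit 1), (nat_lit 1), (nat_lit 1), (nat_lit 0), nat_lit 0xd0955c34035a000, nat_lit 0⟩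
noncomputable def f154 : Fc := ⟨(nat_lit 1), (nat_lit 1), (nat_lit 1), (nat_lit 0), nat_lit 0x4ce5b5624d8f000, nat_lit 0⟩
noncomputable def f155 : Fc := ⟨(nat_lit 1), (nat_lit 1), (nat_lit 1), (nat_lit 0), nat_lit 0xa6a57381053d000, nat_lit 0⟩
noncomputable def f156 : Fc := ⟨(nat_lit 1), (nat_lit 1), (nat_lit 1), (nat_lit 0), nat_lit 0xa6a57381053d000, nat_lit 0⟩
noncomputable def f157 : Fc := ⟨(nat_lit 1), (nat_lit 1), (nat_lit 1), (nat_lit 0), nat_lit 0x6ebc1e318c90000, nat_lit 0⟩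
noncomputable def f158 : Fc := ⟨(nat_lit 1), (nat_lit 1), (nat_lit 1), (nat_lit 0), nat_lit 0xa272edc54ad2000, nat_lit 0⟩
noncomputable def f159 : Fc := ⟨(nat_lit 1), (nat_lit 1), (nat_lit 1), (nat_lit 0), nat_lit 0x4ed950947d40000, nat_lit 0⟩
noncomputable def f160 : Fc := ⟨(nat_lit 1), (nat_lit 1), (nat_lit 1), (nat_lit 0), nat_lit 0x75c6502dbcdc000, nat_lit 0⟩
noncomputable def f161 : Fc := ⟨(nat_lit 1), (nat_lit 1), (nat_lit 1), (nat_lit 0), nat_lit 0x75c6502dbcdc000, nat_lit 0⟩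
noncomputable def f162 : Fc := ⟨(nat_lit 1), (nat_lit 1), (nat_lit 1), (nat_lit 0), nat_lit 0x75c6502dbcdc000, nat_lit 0⟩
noncomputable def f163 : Fc := ⟨(nat_lit 1), (nat_lit 1), (nat_lit 1), (nat_lit 0), nat_lit 0x75c6502dbcdc000, nat_lit 0⟩
noncomputable def f164 : Fc := ⟨(nat_lit 1), (nat_lit 1), (nat_lit 1), (nat_lit 0), nat_lit 0xa73ce7b4279b000, nat_lit 0⟩
noncomputable def f165 : Fc := ⟨(nat_lit 1), (nat_lit 1), (nat_lit 1), (nat_lit 0), nat_lit 0x4b234591e783000, nat_lit 0⟩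
noncomputable def f166 : Fc := ⟨(nat_lit 2), (nat_lit 1), (nat_lit 0), (nat_lit 0), nat_lit 0xd2848563dc3e000, nat_lit 0x9044753a8424899⟩
noncomputable def f167 : Fc := ⟨(nat_lit 1), (nat_lit 1), (nat_lit 1), (nat_lit 0), nat_lit 0x1881bcfc3ba647, nat_lit 0⟩
noncomputable def f168 : Fc := ⟨(nat_lit 1), (nat_lit 1), (nat_lit 1), (nat_lit 0), nat_lit 0x1abb95926b63878, nat_lit 0⟩
noncomputable def f169 : Fc := ⟨(nat_lit 1), (nat_lit 1), (nat_lit 1), (nat_lit 0), nat_lit 0xae879d491993142, nat_lit 0⟩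
noncomputable def f170 : Fc := ⟨(nat_lit 1), (nat_lit 1), (nat_lit 1), (nat_lit 0), nat_lit 0x53587b1c3c2517e, nat_lit 0⟩
noncomputable def f171 : Fc := ⟨(nat_lit 1), (nat_lit 1), (nat_lit 1), (nat_lit 0), nat_lit 0x7f06e102dbad142, nat_lit 0⟩
noncomputable def f172 : Fc := ⟨(nat_lit 2), (nat_lit 1), (nat_lit 1), (nat_lit 0), nat_lit 0x214698c202b7bb2, nat_lit 0xd6cd6fd31d21837⟩
noncomputable def f173 : Fc := ⟨(nat_lit 2), (nat_lit 0), (nat_lit 2), (nat_lit 0), nat_lit 0x1485c84c30fa913, nat_lit 0x78f732c2d7ee000⟩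
noncomputable def f174 : Fc := ⟨(nat_lit 2), (nat_lit 2), (nat_lit 0), (nat_lit 0), nat_lit 0x78f732c2d7ee000, nat_lit 0x1485c84c30fa913⟩
noncomputable def f175 : Fc := ⟨(nat_lit 1), (nat_lit 2), (nat_lit 2), (nat_lit 0), nat_lit 0x4fc6972b426b6b9, nat_lit 0⟩
noncomputable def f176 : Fc := ⟨(nat_lit 1), (nat_lit 2), (nat_lit 2), (nat_lit 0), nat_lit 0x4fc6972b426b6b9, nat_lit 0⟩
noncomputable def f177 : Fc := ⟨(nat_lit 1), (nat_lit 2), (nat_lit 2), (nat_lit 0), nat_lit 0x428727d4f6c0000, nat_lit 0⟩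
noncomputable def f178 : Fc := ⟨(nat_lit 1), (nat_lit 2), (nat_lit 2), (nat_lit 0), nat_lit 0x428727d4f6c0000, nat_lit 0⟩
noncomputable def f179 : Fc := ⟨(nat_lit 1), (nat_lit 2), (nat_lit 2), (nat_lit 0), nat_lit 0x428727d4f6c0000, nat_lit 0⟩
noncomputable def f180 : Fc := ⟨(nat_lit 1), (nat_lit 2), (nat_lit 2), (nat_lit 0), nat_lit 0x428727d4f6c0000, nat_lit 0⟩
noncomputable def f181 : Fc := ⟨(nat_lit 1), (nat_lit 2), (nat_lit 2), (nat_lit 0), nat_lit 0x428727d4f6c0000, nat_lit 0⟩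
noncomputable def f182 : Fc := ⟨(nat_lit 1), (nat_lit 2), (nat_lit 2), (nat_lit 0), nat_lit 0x4fc6972b426b6b9, nat_lit 0⟩
noncomputable def f183 : Fc := ⟨(nat_lit 1), (nat_lit 2), (nat_lit 2), (nat_lit 0), nat_lit 0x4fc6972b426b6b9, nat_lit 0⟩
noncomputable def f184 : Fc := ⟨(nat_lit 1), (nat_lit 2), (nat_lit 2), (nat_lit 0), nat_lit 0x428727d4f6c0000, nat_lit 0⟩
noncomputable def f185 : Fc := ⟨(nat_lit 1), (nat_lit 2), (nat_lit 2), (nat_lit 0), nat_lit 0x428727d4f6c0000, nat_lit 0⟩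
noncomputable def f186 : Fc := ⟨(nat_lit 1), (nat_lit 2), (nat_lit 2), (nat_lit 0), nat_lit 0x428727d4f6c0000, nat_lit 0⟩
noncomputable def f187 : Fc := ⟨(nat_lit 1), (nat_lit 2), (nat_lit 2), (nat_lit 0), nat_lit 0x428727d4f6c0000, nat_lit 0⟩
noncomputable def f188 : Fc := ⟨(nat_lit 1), (nat_lit 2), (nat_lit 2), (nat_lit 0), nat_lit 0x428727d4f6c0000, nat_lit 0⟩
noncomputable def f189 : Fc := ⟨(nat_lit 1), (nat_lit 2), (nat_lit 2), (nat_lit 0), nat_lit 0x428727d4f6c0000, nat_lit 0⟩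
noncomputable def f190 : Fc := ⟨(nat_lit 1), (nat_lit 2), (nat_lit 2), (nat_lit 0), nat_lit 0x3bc978b80cc9334, nat_lit 0⟩
noncomputable def f191 : Fc := ⟨(nat_lit 1), (nat_lit 2), (nat_lit 2), (nat_lit 0), nat_lit 0x526166d6b4d1c0, nat_lit 0⟩
noncomputable def f192 : Fc := ⟨(nat_lit 1), (nat_lit 2), (nat_lit 2), (nat_lit 0), nat_lit 0xadd5227d3c4001a, nat_lit 0⟩
noncomputable def f193 : Fc := ⟨(nat_lit 1), (nat_lit 2), (nat_lit 2), (nat_lit 0), nat_lit 0x9a2720a5c019d8d, nat_lit 0⟩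
noncomputable def f194 : Fc := ⟨(nat_lit 1), (nat_lit 2), (nat_lit 2), (nat_lit 0), nat_lit 0x9954ae9f8ca3979, nat_lit 0⟩
noncomputable def f195 : Fc := ⟨(nat_lit 1), (nat_lit 2), (nat_lit 2), (nat_lit 0), nat_lit 0x1c69176a785b5fc, nat_lit 0⟩
noncomputable def f196 : Fc := ⟨(nat_lit 1), (nat_lit 2), (nat_lit 2), (nat_lit 0), nat_lit 0x866337291cb8788, nat_lit 0⟩
noncomputable def f197 : Fc := ⟨(nat_lit 1), (nat_lit 2), (nat_lit 2), (nat_lit 0), nat_lit 0x3e334cc2426d624, nat_lit 0⟩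
noncomputable def f198 : Fc := ⟨(nat_lit 1), (nat_lit 2), (nat_lit 2), (nat_lit 0), nat_lit 0x3e334cc2426d624, nat_lit 0⟩
noncomputable def f199 : Fc := ⟨(nat_lit 1), (nat_lit 2), (nat_lit 2), (nat_lit 0), nat_lit 0x51c4048bd7f8150, nat_lit 0⟩
noncomputable def f200 : Fc := ⟨(nat_lit 1), (nat_lit 2), (nat_lit 2), (nat_lit 0), nat_lit 0xadd5227d3c4001a, nat_lit 0⟩
noncomputable def f201 : Fc := ⟨(nat_lit 1), (nat_lit 2), (nat_lit 2), (nat_lit 0), nat_lit 0x4fc6972b426b6b9, nat_lit 0⟩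
noncomputable def f202 : Fc := ⟨(nat_lit 1), (nat_lit 2), (nat_lit 2), (nat_lit 0), nat_lit 0xa6582169dd067b3, nat_lit 0⟩
noncomputable def f203 : Fc := ⟨(nat_lit 1), (nat_lit 2), (nat_lit 2), (nat_lit 0), nat_lit 0x53531736c44d6b, nat_lit 0⟩
noncomputable def f204 : Fc := ⟨(nat_lit 2), (nat_lit 1), (nat_lit 3), (nat_lit 0), nat_lit 0xcfccf54de628750, nat_lit 0x78f732c2d7ee000⟩
noncomputable def f205 : Fc := ⟨(nat_lit 2), (nat_lit 3), (nat_lit 1), (nat_lit 0), nat_lit 0x78f732c2d7ee000, nat_lit 0xcfccf54de628750⟩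
noncomputable def f206 : Fc := ⟨(nat_lit 1), (nat_lit 3), (nat_lit 3), (nat_lit 0), nat_lit 0x8b3c7f44f722000, nat_lit 0⟩
noncomputable def f207 : Fc := ⟨(nat_lit 1), (nat_lit 3), (nat_lit 3), (nat_lit 0), nat_lit 0x405360a97806000, nat_lit 0⟩
noncomputable def f208 : Fc := ⟨(nat_lit 1), (nat_lit 3), (nat_lit 3), (nat_lit 0), nat_lit 0x79898c318530000, nat_lit 0⟩
noncomputable def f209 : Fc := ⟨(nat_lit 1), (nat_lit 3), (nat_lit 3), (nat_lit 0), nat_lit 0x79898c318530000, nat_lit 0⟩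
noncomputable def f210 : Fc := ⟨(nat_lit 1), (nat_lit 3), (nat_lit 3), (nat_lit 0), nat_lit 0xd4fabf010530144, nat_lit 0⟩
noncomputable def f211 : Fc := ⟨(nat_lit 1), (nat_lit 3), (nat_lit 3), (nat_lit 0), nat_lit 0x7f28b925e7eb144, nat_lit 0⟩
noncomputable def f212 : Fc := ⟨(nat_lit 1), (nat_lit 3), (nat_lit 3), (nat_lit 0), nat_lit 0x97cb8d972914192, nat_lit 0⟩
noncomputable def f213 : Fc := ⟨(nat_lit 1), (nat_lit 3), (nat_lit 3), (nat_lit 0), nat_lit 0x97cb8d972914192, nat_lit 0⟩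
noncomputable def f214 : Fc := ⟨(nat_lit 2), (nat_lit 3), (nat_lit 1), (nat_lit 0), nat_lit 0xc1032591d82e739, nat_lit 0x4b8841179c94ba⟩
noncomputable def f215 : Fc := ⟨(nat_lit 1), (nat_lit 3), (nat_lit 3), (nat_lit 0), nat_lit 0xb7234cb1a55f192, nat_lit 0⟩
noncomputable def f216 : Fc := ⟨(nat_lit 1), (nat_lit 3), (nat_lit 3), (nat_lit 0), nat_lit 0x34d7a77b458e155, nat_lit 0⟩
noncomputable def f217 : Fc := ⟨(nat_lit 1), (nat_lit 3), (nat_lit 3), (nat_lit 0), nat_lit 0x44bda8400b9e18d, nat_lit 0⟩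
noncomputable def f218 : Fc := ⟨(nat_lit 1), (nat_lit 3), (nat_lit 3), (nat_lit 0), nat_lit 0xc0a6bb630bb5155, nat_lit 0⟩
noncomputable def f219 : Fc := ⟨(nat_lit 1), (nat_lit 3), (nat_lit 3), (nat_lit 0), nat_lit 0x9a9b5491c88928f, nat_lit 0⟩
noncomputable def f220 : Fc := ⟨(nat_lit 1), (nat_lit 3), (nat_lit 3), (nat_lit 0), nat_lit 0xc0dac2bdd65d18d, nat_lit 0⟩
noncomputable def f221 : Fc := ⟨(nat_lit 2), (nat_lit 3), (nat_lit 2), (nat_lit 0), nat_lit 0x93e4c3277543c75, nat_lit 0x1fe1b90442ae625⟩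
noncomputable def f222 : Fc := ⟨(nat_lit 2), (nat_lit 2), (nat_lit 3), (nat_lit 0), nat_lit 0x1fe1b90442ae625, nat_lit 0x93e4c3277543c75⟩
noncomputable def f223 : Fc := ⟨(nat_lit 2), (nat_lit 3), (nat_lit 3), (nat_lit 0), nat_lit 0xab3279928eb069, nat_lit 0xad44fd43ea30029⟩
noncomputable def f224 : Fc := ⟨(nat_lit 2), (nat_lit 3), (nat_lit 3), (nat_lit 0), nat_lit 0x357b86335d6d2ec, nat_lit 0x62eb80472338a3e⟩
noncomputable def f225 : Fc := ⟨(nat_lit 2), (nat_lit 3), (nat_lit 3), (nat_lit 0), nat_lit 0x8d797d0d5a4f176, nat_lit 0x2e2d483fc18248a⟩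
noncomputable def f226 : Fc := ⟨(nat_lit 2), (nat_lit 3), (nat_lit 3), (nat_lit 0), nat_lit 0xd944e19d8dd3b8, nat_lit 0x6ed415474342699⟩
noncomputable def f227 : Fc := ⟨(nat_lit 2), (nat_lit 1), (nat_lit 4), (nat_lit 0), nat_lit 0x1485c84c30fa913, nat_lit 0x78f732c2d7ee000⟩
noncomputable def f228 : Fc := ⟨(nat_lit 2), (nat_lit 4), (nat_lit 1), (nat_lit 0), nat_lit 0x78f732c2d7ee000, nat_lit 0x1485c84c30fa913⟩
noncomputable def f229 : Fc := ⟨(nat_lit 1), (nat_lit 4), (nat_lit 4), (nat_lit 0), nat_lit 0x78f98bac458724c, nat_lit 0⟩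
noncomputable def f230 : Fc := ⟨(nat_lit 1), (nat_lit 4), (nat_lit 4), (nat_lit 0), nat_lit 0x78f98bac458724c, nat_lit 0⟩
noncomputable def f231 : Fc := ⟨(nat_lit 1), (nat_lit 4), (nat_lit 4), (nat_lit 0), nat_lit 0x3fdc520a4a71054, nat_lit 0⟩
noncomputable def f232 : Fc := ⟨(nat_lit 1), (nat_lit 4), (nat_lit 4), (nat_lit 0), nat_lit 0xa7e6e3a6d8922a3, nat_lit 0⟩
noncomputable def f233 : Fc := ⟨(nat_lit 1), (nat_lit 4), (nat_lit 4), (nat_lit 0), nat_lit 0x7dd80d0ff5ee097, nat_lit 0⟩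
noncomputable def f234 : Fc := ⟨(nat_lit 1), (nat_lit 4), (nat_lit 4), (nat_lit 0), nat_lit 0x7dd80d0ff5ee097, nat_lit 0⟩
noncomputable def f235 : Fc := ⟨(nat_lit 1), (nat_lit 4), (nat_lit 4), (nat_lit 0), nat_lit 0x78f98bac458724c, nat_lit 0⟩
noncomputable def f236 : Fc := ⟨(nat_lit 1), (nat_lit 4), (nat_lit 4), (nat_lit 0), nat_lit 0x78f98bac458724c, nat_lit 0⟩
noncomputable def f237 : Fc := ⟨(nat_lit 1), (nat_lit 4), (nat_lit 4), (nat_lit 0), nat_lit 0x78f98bac458724c, nat_lit 0⟩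
noncomputable def f238 : Fc := ⟨(nat_lit 1), (nat_lit 4), (nat_lit 4), (nat_lit 0), nat_lit 0x78f98bac458724c, nat_lit 0⟩
noncomputable def f239 : Fc := ⟨(nat_lit 1), (nat_lit 4), (nat_lit 4), (nat_lit 0), nat_lit 0x2be3399fdad291d, nat_lit 0⟩
noncomputable def f240 : Fc := ⟨(nat_lit 1), (nat_lit 4), (nat_lit 4), (nat_lit 0), nat_lit 0x372073aa06fab12, nat_lit 0⟩
noncomputable def f241 : Fc := ⟨(nat_lit 1), (nat_lit 4), (nat_lit 4), (nat_lit 0), nat_lit 0xbebb4217826bd5d, nat_lit 0⟩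
noncomputable def f242 : Fc := ⟨(nat_lit 1), (nat_lit 4), (nat_lit 4), (nat_lit 0), nat_lit 0x2acf31ec1a96b9, nat_lit 0⟩
noncomputable def f243 : Fc := ⟨(nat_lit 2), (nat_lit 3), (nat_lit 4), (nat_lit 0), nat_lit 0x20a90ebb169b470, nat_lit 0x241b7448c638988⟩
noncomputable def f244 : Fc := ⟨(nat_lit 2), (nat_lit 4), (nat_lit 3), (nat_lit 0), nat_lit 0x241b7448c638988, nat_lit 0x20a90ebb169b470⟩
noncomputable def f245 : Fc := ⟨(nat_lit 1), (nat_lit 4), (nat_lit 4), (nat_lit 0), nat_lit 0x159d0346184ea99, nat_lit 0⟩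
noncomputable def f246 : Fc := ⟨(nat_lit 1), (nat_lit 4), (nat_lit 4), (nat_lit 0), nat_lit 0x531b1686fa84c93, nat_lit 0⟩
noncomputable def f247 : Fc := ⟨(nat_lit 1), (nat_lit 4), (nat_lit 4), (nat_lit 0), nat_lit 0xc7ba07bcd0ccd9, nat_lit 0⟩
noncomputable def f248 : Fc := ⟨(nat_lit 1), (nat_lit 4), (nat_lit 4), (nat_lit 0), nat_lit 0xb6c8dc081216261, nat_lit 0⟩
noncomputable def f249 : Fc := ⟨(nat_lit 1), (nat_lit 4), (nat_lit 4), (nat_lit 0), nat_lit 0x675abb5595fe307, nat_lit 0⟩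
noncomputable def f250 : Fc := ⟨(nat_lit 2), (nat_lit 4), (nat_lit 2), (nat_lit 0), nat_lit 0x598271ce3b8e90f, nat_lit 0xc208d7c8fd5dc43⟩
noncomputable def f251 : Fc := ⟨(nat_lit 2), (nat_lit 2), (nat_lit 4), (nat_lit 0), nat_lit 0xc208d7c8fd5dc43, nat_lit 0x598271ce3b8e90f⟩
noncomputable def f252 : Fc := ⟨(nat_lit 2), (nat_lit 2), (nat_lit 2), (nat_lit 0), nat_lit 0xa1102d48926aa7e, nat_lit 0x7d34eb6408ac091⟩
noncomputable def f253 : Fc := ⟨(nat_lit 2), (nat_lit 4), (nat_lit 4), (nat_lit 0), nat_lit 0x60dabacb3d93743, nat_lit 0x744f528e76fa41⟩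
noncomputable def f254 : Fc := ⟨(nat_lit 2), (nat_lit 4), (nat_lit 4), (nat_lit 0), nat_lit 0x7e90a98c776c66e, nat_lit 0x1c1a83cc3bda730⟩
noncomputable def f255 : Fc := ⟨(nat_lit 2), (nat_lit 4), (nat_lit 4), (nat_lit 0), nat_lit 0x6e9e1cef8a8364, nat_lit 0xbff9218d35d831b⟩
noncomputable def f256 : Fc := ⟨(nat_lit 2), (nat_lit 3), (nat_lit 5), (nat_lit 0), nat_lit 0x98912733761a913, nat_lit 0x78f732c2d7ee000⟩
noncomputable def f257 : Fc := ⟨(nat_lit 2), (nat_lit 5), (nat_lit 3), (nat_lit 0), nat_lit 0x78f732c2d7ee000, nat_lit 0x98912733761a913⟩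
noncomputable def f258 : Fc := ⟨(nat_lit 1), (nat_lit 5), (nat_lit 5), (nat_lit 0), nat_lit 0x50973282894ba82, nat_lit 0⟩
noncomputable def f259 : Fc := ⟨(nat_lit 1), (nat_lit 5), (nat_lit 5), (nat_lit 0), nat_lit 0x9ab73295faac609, nat_lit 0⟩
noncomputable def f260 : Fc := ⟨(nat_lit 1), (nat_lit 5), (nat_lit 5), (nat_lit 0), nat_lit 0xc727d52400411bb, nat_lit 0⟩
noncomputable def f261 : Fc := ⟨(nat_lit 1), (nat_lit 5), (nat_lit 5), (nat_lit 0), nat_lit 0x52c7d5cfda950c1, nat_lit 0⟩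
noncomputable def f262 : Fc := ⟨(nat_lit 1), (nat_lit 5), (nat_lit 5), (nat_lit 0), nat_lit 0x6eae335360f83e, nat_lit 0⟩
noncomputable def f263 : Fc := ⟨(nat_lit 1), (nat_lit 5), (nat_lit 5), (nat_lit 0), nat_lit 0x6eae335360f83e, nat_lit 0⟩
noncomputable def f264 : Fc := ⟨(nat_lit 1), (nat_lit 5), (nat_lit 5), (nat_lit 0), nat_lit 0xaf4b8cae6bfd638, nat_lit 0⟩
noncomputable def f265 : Fc := ⟨(nat_lit 1), (nat_lit 5), (nat_lit 5), (nat_lit 0), nat_lit 0xbc51ae22a64aa52, nat_lit 0⟩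
noncomputable def f266 : Fc := ⟨(nat_lit 1), (nat_lit 5), (nat_lit 5), (nat_lit 0), nat_lit 0x9ab99e2b394b988, nat_lit 0⟩
noncomputable def f267 : Fc := ⟨(nat_lit 1), (nat_lit 5), (nat_lit 5), (nat_lit 0), nat_lit 0x8bcb9f56726595e, nat_lit 0⟩
noncomputable def f268 : Fc := ⟨(nat_lit 2), (nat_lit 4), (nat_lit 5), (nat_lit 0), nat_lit 0x2cb65b4807e80db, nat_lit 0xd200fd3797e1b28⟩
noncomputable def f269 : Fc := ⟨(nat_lit 2), (nat_lit 5), (nat_lit 4), (nat_lit 0), nat_lit 0xd200fd3797e1b28, nat_lit 0x2cb65b4807e80db⟩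
noncomputable def f270 : Fc := ⟨(nat_lit 1), (nat_lit 5), (nat_lit 5), (nat_lit 0), nat_lit 0x70c29674db234a9, nat_lit 0⟩
noncomputable def f271 : Fc := ⟨(nat_lit 1), (nat_lit 5), (nat_lit 5), (nat_lit 0), nat_lit 0xb44b9fda6d6c0a4, nat_lit 0⟩
noncomputable def f272 : Fc := ⟨(nat_lit 1), (nat_lit 5), (nat_lit 5), (nat_lit 0), nat_lit 0x31a99e44f3530dc, nat_lit 0⟩
noncomputable def f273 : Fc := ⟨(nat_lit 1), (nat_lit 5), (nat_lit 5), (nat_lit 0), nat_lit 0x562d86b81c70184, nat_lit 0⟩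
noncomputable def f274 : Fc := ⟨(nat_lit 1), (nat_lit 5), (nat_lit 5), (nat_lit 0), nat_lit 0x4761e33f57131d8, nat_lit 0⟩
noncomputable def f275 : Fc := ⟨(nat_lit 1), (nat_lit 5), (nat_lit 5), (nat_lit 0), nat_lit 0xafa52f7ed26d098, nat_lit 0⟩
noncomputable def f276 : Fc := ⟨(nat_lit 2), (nat_lit 5), (nat_lit 5), (nat_lit 0), nat_lit 0x14b693bd24e13c2, nat_lit 0x9db57799f99c0cb⟩
noncomputable def f277 : Fc := ⟨(nat_lit 2), (nat_lit 5), (nat_lit 3), (nat_lit 0), nat_lit 0x81f5a4c1c87e735, nat_lit 0xc854599dbb3e306⟩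
noncomputable def f278 : Fc := ⟨(nat_lit 2), (nat_lit 3), (nat_lit 5), (nat_lit 0), nat_lit 0xc854599dbb3e306, nat_lit 0x81f5a4c1c87e735⟩
noncomputable def f279 : Fc := ⟨(nat_lit 2), (nat_lit 5), (nat_lit 5), (nat_lit 0), nat_lit 0x9250f010744bc40, nat_lit 0xc945e294564145⟩
noncomputable def f280 : Fc := ⟨(nat_lit 1), (nat_lit 0), (nat_lit 0), (nat_lit 0), nat_lit 0x78f732c5b7ee000, nat_lit 0⟩
noncomputable def f281 : Fc := ⟨(nat_lit 1), (nat_lit 1), (nat_lit 1), (nat_lit 0), nat_lit 0x8f097635b4ee3c9, nat_lit 0⟩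
noncomputable def f282 : Fc := ⟨(nat_lit 1), (nat_lit 1), (nat_lit 1), (nat_lit 0), nat_lit 0x7257f6d74ad7bd3, nat_lit 0⟩
noncomputable def f283 : Fc := ⟨(nat_lit 1), (nat_lit 1), (nat_lit 1), (nat_lit 0), nat_lit 0xd5467e1ac1833c9, nat_lit 0⟩
noncomputable def f284 : Fc := ⟨(nat_lit 1), (nat_lit 2), (nat_lit 2), (nat_lit 0), nat_lit 0xd29c4331c7f8830, nat_lit 0⟩
noncomputable def f285 : Fc := ⟨(nat_lit 1), (nat_lit 2), (nat_lit 2), (nat_lit 0), nat_lit 0x64f79f4975f34c8, nat_lit 0⟩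
noncomputable def f286 : Fc := ⟨(nat_lit 1), (nat_lit 2), (nat_lit 2), (nat_lit 0), nat_lit 0x4169123e93e7652, nat_lit 0⟩
noncomputable def f287 : Fc := ⟨(nat_lit 1), (nat_lit 3), (nat_lit 3), (nat_lit 0), nat_lit 0x4d02e164dd1e155, nat_lit 0⟩
noncomputable def f288 : Fc := ⟨(nat_lit 1), (nat_lit 3), (nat_lit 3), (nat_lit 0), nat_lit 0x69c888bf27f622d, nat_lit 0⟩
noncomputable def f289 : Fc := ⟨(nat_lit 1), (nat_lit 3), (nat_lit 3), (nat_lit 0), nat_lit 0x43fad6837d9e1d2, nat_lit 0⟩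
noncomputable def f290 : Fc := ⟨(nat_lit 1), (nat_lit 4), (nat_lit 4), (nat_lit 0), nat_lit 0xc15351157bfe66a, nat_lit 0⟩
noncomputable def f291 : Fc := ⟨(nat_lit 1), (nat_lit 4), (nat_lit 4), (nat_lit 0), nat_lit 0x9b5266d049357ed, nat_lit 0⟩
noncomputable def f292 : Fc := ⟨(nat_lit 1), (nat_lit 4), (nat_lit 4), (nat_lit 0), nat_lit 0xa7e0735e29fc44c, nat_lit 0⟩
noncomputable def f293 : Fc := ⟨(nat_lit 1), (nat_lit 5), (nat_lit 5), (nat_lit 0), nat_lit 0x95710e5ea215889, nat_lit 0⟩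
noncomputable def f294 : Fc := ⟨(nat_lit 1), (nat_lit 5), (nat_lit 5), (nat_lit 0), nat_lit 0x350958442c061a7, nat_lit 0⟩
noncomputable def f295 : Fc := ⟨(nat_lit 1), (nat_lit 5), (nat_lit 5), (nat_lit 0), nat_lit 0x2206ed3eab9da34, nat_lit 0⟩
noncomputable def F : FT := (.node (.node (.node (.node (.node (.node (.node (.node (.node 
 (.leaf f0) 
 (.leaf f256)) 
 (.leaf f128)) (.node 
 (.leaf f64) 
 (.leaf f192))) (.node (.node (.node 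
 (.leaf f32) 
 (.leaf f288)) 
 (.leaf f160)) (.node 
 (.leaf f96) 
 (.leaf f224)))) (.node (.node (.node (.node 
 (.leaf f16) 
 (.leaf f272)) 
 (.leaf f144)) (.node 
 (.leaf f80) 
 (.leaf f208))) (.node (.node 
 (.leaf f48) 
 (.leaf f176)) (.node 
 (.leaf f112) 
 (.leaf f240))))) (.node (.node (.node (.node (.node 
 (.leaf f8) 
 (.leaf f264)) 
 (.leaf f136)) (.node 
 (.leaf f72) 
 (.leaf f200))) (.node (.node 
 (.leaf f40) 
 (.leaf f168)) (.node 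
 (.leaf f104) 
 (.leaf f232)))) (.node (.node (.node (.node 
 (.leaf f24) 
 (.leaf f280)) 
 (.leaf f152)) (.node 
 (.leaf f88) 
 (.leaf f216))) (.node (.node 
 (.leaf f56) 
 (.leaf f184)) (.node 
 (.leaf f120) 
 (.leaf f248)))))) (.node (.node (.node (.node (.node (.node 
 (.leaf f4) 
 (.leaf f260)) 
 (.leaf f132)) (.node 
 (.leaf f68) 
 (.leaf f196))) (.node (.node (.node 
 (.leaf f36) 
 (.leaf f292)) 
 (.leaf f164)) (.node 
 (.leaf f100) 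
 (.leaf f228)))) (.node (.node (.node (.node 
 (.leaf f20) 
 (.leaf f276)) 
 (.leaf f148)) (.node 
 (.leaf f84) 
 (.leaf f212))) (.node (.node 
 (.leaf f52) 
 (.leaf f180)) (.node 
 (.leaf f116) 
 (.leaf f244))))) (.node (.node (.node (.node (.node 
 (.leaf f12) 
 (.leaf f268)) 
 (.leaf f140)) (.node 
 (.leaf f76) 
 (.leaf f204))) (.node (.node 
 (.leaf f44) 
 (.leaf f172)) (.node 
 (.leaf f108) 
 (.leaf f236)))) (.node (.node (.node (.node 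
 (.leaf f28) 
 (.leaf f284)) 
 (.leaf f156)) (.node 
 (.leaf f92) 
 (.leaf f220))) (.node (.node 
 (.leaf f60) 
 (.leaf f188)) (.node 
 (.leaf f124) 
 (.leaf f252))))))) (.node (.node (.node (.node (.node (.node (.node 
 (.leaf f2) 
 (.leaf f258)) 
 (.leaf f130)) (.node 
 (.leaf f66) 
 (.leaf f194))) (.node (.node (.node 
 (.leaf f34) 
 (.leaf f290)) 
 (.leaf f162)) (.node 
 (.leaf f98) 
 (.leaf f226)))) (.node (.node (.node (.node 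
 (.leaf f18) 
 (.leaf f274)) 
 (.leaf f146)) (.node 
 (.leaf f82) 
 (.leaf f210))) (.node (.node 
 (.leaf f50) 
 (.leaf f178)) (.node 
 (.leaf f114) 
 (.leaf f242))))) (.node (.node (.node (.node (.node 
 (.leaf f10) 
 (.leaf f266)) 
 (.leaf f138)) (.node 
 (.leaf f74) 
 (.leaf f202))) (.node (.node 
 (.leaf f42) 
 (.leaf f170)) (.node 
 (.leaf f106) 
 (.leaf f234)))) (.node (.node (.node (.node 
 (.leaf f26) 
 (.leaf f282)) 
 (.leaf f154)) (.node 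
 (.leaf f90) 
 (.leaf f218))) (.node (.node 
 (.leaf f58) 
 (.leaf f186)) (.node 
 (.leaf f122) 
 (.leaf f250)))))) (.node (.node (.node (.node (.node (.node 
 (.leaf f6) 
 (.leaf f262)) 
 (.leaf f134)) (.node 
 (.leaf f70) 
 (.leaf f198))) (.node (.node (.node 
 (.leaf f38) 
 (.leaf f294)) 
 (.leaf f166)) (.node 
 (.leaf f102) 
 (.leaf f230)))) (.node (.node (.node (.node 
 (.leaf f22) 
 (.leaf f278)) 
 (.leaf f150)) (.node 
 (.leaf f86) 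
 (.leaf f214))) (.node (.node 
 (.leaf f54) 
 (.leaf f182)) (.node 
 (.leaf f118) 
 (.leaf f246))))) (.node (.node (.node (.node (.node 
 (.leaf f14) 
 (.leaf f270)) 
 (.leaf f142)) (.node 
 (.leaf f78) 
 (.leaf f206))) (.node (.node 
 (.leaf f46) 
 (.leaf f174)) (.node 
 (.leaf f110) 
 (.leaf f238)))) (.node (.node (.node (.node 
 (.leaf f30) 
 (.leaf f286)) 
 (.leaf f158)) (.node 
 (.leaf f94) 
 (.leaf f222))) (.node (.node 
 (.leaf f62) 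
 (.leaf f190)) (.node 
 (.leaf f126) 
 (.leaf f254)))))))) (.node (.node (.node (.node (.node (.node (.node (.node 
 (.leaf f1) 
 (.leaf f257)) 
 (.leaf f129)) (.node 
 (.leaf f65) 
 (.leaf f193))) (.node (.node (.node 
 (.leaf f33) 
 (.leaf f289)) 
 (.leaf f161)) (.node 
 (.leaf f97) 
 (.leaf f225)))) (.node (.node (.node (.node 
 (.leaf f17) 
 (.leaf f273)) 
 (.leaf f145)) (.node 
 (.leaf f81) 
 (.leaf f209))) (.node (.node 
 (.leaf f49) 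
 (.leaf f177)) (.node 
 (.leaf f113) 
 (.leaf f241))))) (.node (.node (.node (.node (.node 
 (.leaf f9) 
 (.leaf f265)) 
 (.leaf f137)) (.node 
 (.leaf f73) 
 (.leaf f201))) (.node (.node 
 (.leaf f41) 
 (.leaf f169)) (.node 
 (.leaf f105) 
 (.leaf f233)))) (.node (.node (.node (.node 
 (.leaf f25) 
 (.leaf f281)) 
 (.leaf f153)) (.node 
 (.leaf f89) 
 (.leaf f217))) (.node (.node 
 (.leaf f57) 
 (.leaf f185)) (.node 
 (.leaf f121) 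
 (.leaf f249)))))) (.node (.node (.node (.node (.node (.node 
 (.leaf f5) 
 (.leaf f261)) 
 (.leaf f133)) (.node 
 (.leaf f69) 
 (.leaf f197))) (.node (.node (.node 
 (.leaf f37) 
 (.leaf f293)) 
 (.leaf f165)) (.node 
 (.leaf f101) 
 (.leaf f229)))) (.node (.node (.node (.node 
 (.leaf f21) 
 (.leaf f277)) 
 (.leaf f149)) (.node 
 (.leaf f85) 
 (.leaf f213))) (.node (.node 
 (.leaf f53) 
 (.leaf f181)) (.node 
 (.leaf f117) 
 (.leaf f245))))) (.node (.node (.node (.node (.node 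
 (.leaf f13) 
 (.leaf f269)) 
 (.leaf f141)) (.node 
 (.leaf f77) 
 (.leaf f205))) (.node (.node 
 (.leaf f45) 
 (.leaf f173)) (.node 
 (.leaf f109) 
 (.leaf f237)))) (.node (.node (.node (.node 
 (.leaf f29) 
 (.leaf f285)) 
 (.leaf f157)) (.node 
 (.leaf f93) 
 (.leaf f221))) (.node (.node 
 (.leaf f61) 
 (.leaf f189)) (.node 
 (.leaf f125) 
 (.leaf f253))))))) (.node (.node (.node (.node (.node (.node (.node 
 (.leaf f3) 
 (.leaf f259)) 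
 (.leaf f131)) (.node 
 (.leaf f67) 
 (.leaf f195))) (.node (.node (.node 
 (.leaf f35) 
 (.leaf f291)) 
 (.leaf f163)) (.node 
 (.leaf f99) 
 (.leaf f227)))) (.node (.node (.node (.node 
 (.leaf f19) 
 (.leaf f275)) 
 (.leaf f147)) (.node 
 (.leaf f83) 
 (.leaf f211))) (.node (.node 
 (.leaf f51) 
 (.leaf f179)) (.node 
 (.leaf f115) 
 (.leaf f243))))) (.node (.node (.node (.node (.node 
 (.leaf f11) 
 (.leaf f267)) 
 (.leaf f139)) (.node 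
 (.leaf f75) 
 (.leaf f203))) (.node (.node 
 (.leaf f43) 
 (.leaf f171)) (.node 
 (.leaf f107) 
 (.leaf f235)))) (.node (.node (.node (.node 
 (.leaf f27) 
 (.leaf f283)) 
 (.leaf f155)) (.node 
 (.leaf f91) 
 (.leaf f219))) (.node (.node 
 (.leaf f59) 
 (.leaf f187)) (.node 
 (.leaf f123) 
 (.leaf f251)))))) (.node (.node (.node (.node (.node (.node 
 (.leaf f7) 
 (.leaf f263)) 
 (.leaf f135)) (.node 
 (.leaf f71) 
 (.leaf f199))) (.node (.node (.node 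
 (.leaf f39) 
 (.leaf f295)) 
 (.leaf f167)) (.node 
 (.leaf f103) 
 (.leaf f231)))) (.node (.node (.node (.node 
 (.leaf f23) 
 (.leaf f279)) 
 (.leaf f151)) (.node 
 (.leaf f87) 
 (.leaf f215))) (.node (.node 
 (.leaf f55) 
 (.leaf f183)) (.node 
 (.leaf f119) 
 (.leaf f247))))) (.node (.node (.node (.node (.node 
 (.leaf f15) 
 (.leaf f271)) 
 (.leaf f143)) (.node 
 (.leaf f79) 
 (.leaf f207))) (.node (.node 
 (.leaf f47) 
 (.leaf f175)) (.node 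
 (.leaf f111) 
 (.leaf f239)))) (.node (.node (.node (.node 
 (.leaf f31) 
 (.leaf f287)) 
 (.leaf f159)) (.node 
 (.leaf f95) 
 (.leaf f223))) (.node (.node 
 (.leaf f63) 
 (.leaf f191)) (.node 
 (.leaf f127) 
 (.leaf f255)))))))))
noncomputable def D : List (ℕ × List ℕ) := [((nat_lit 0), []), ((nat_lit 0), [nat_lit 8, nat_lit 0, nat_lit 1, nat_lit 2, nat_lit 3, nat_lit 7, nat_lit 4, nat_lit 5, nat_lit 3, nat_lit 4, nat_lit 1, nat_lit 2, nat_lit 3, nat_lit 7, nat_lit 8, nat_lit 3, nat_lit 7, nat_lit 4, nat_lit 5, nat_lit 3, nat_lit 4, nat_lit 1, nat_lit 2, nat_lit 3, nat_lit 7, nat_lit 6, nat_lit 5, nat_lit 4, nat_lit 3, nat_lit 2, nat_lit 1, nat_lit 0]), ((nat_lit 0), [nat_lit 6, nat_lit 5, nat_lit 4, nat_lit 2, nat_lit 3, nat_lit 7, nat_lit 8, nat_lit 4, nat_lit 5, nat_lit 3, nat_lit 4, nat_lit 2, nat_lit 3, nat_lit 7, nat_lit 4, nat_lit 5, nat_lit 1, nat_lit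 2, nat_lit 3, nat_lit 4, nat_lit 0, nat_lit 1, nat_lit 2, nat_lit 3, nat_lit 7, nat_lit 8, nat_lit 5, nat_lit 3, nat_lit 4, nat_lit 0, nat_lit 1, nat_lit 2, nat_lit 3, nat_lit 7, nat_lit 6, nat_lit 5, nat_lit 4, nat_lit 3, nat_lit 2, nat_lit 1, nat_lit 0]), ((nat_lit 1), [nat_lit 8, nat_lit 0, nat_lit 1, nat_lit 2, nat_lit 3, nat_lit 7, nat_lit 4, nat_lit 5, nat_lit 3, nat_lit 4, nat_lit 1, nat_lit 2, nat_lit 3, nat_lit 7, nat_lit 8, nat_lit 3, nat_lit 7, nat_lit 4, nat_lit 5, nat_lit 3, nat_lit 4, nat_lit 1, nat_lit 2, nat_lit 3, nat_lit 7, nat_lit 6, nat_lit 5, nat_lit 4, nat_lit 3, nat_lit 2, nat_lit 1, nat_lit 0]), ((nat_lit 1), [nat_lit 6, nat_lit 5, nat_lit 4, nat_lit 2, nat_lit 3, nat_lit 7, nat_lit 8, nat_lit 4, nat_lit 5, nat_lit 3, nat_lit 4, nat_lit 2, nat_lit 3, nat_lit 7, nat_lit 4, nat_lit 5, nat_lit 1, nat_lit 2, nat_lit 3, nat_lit 4, nat_lit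 0, nat_lit 1, nat_lit 2, nat_lit 3, nat_lit 7, nat_lit 8, nat_lit 5, nat_lit 3, nat_lit 4, nat_lit 0, nat_lit 1, nat_lit 2, nat_lit 3, nat_lit 7, nat_lit 6, nat_lit 5, nat_lit 4, nat_lit 3, nat_lit 2, nat_lit 1, nat_lit 0]), ((nat_lit 3), [nat_lit 7, nat_lit 8, nat_lit 4, nat_lit 5, nat_lit 3, nat_lit 4, nat_lit 2, nat_lit 3, nat_lit 7, nat_lit 3, nat_lit 4, nat_lit 5, nat_lit 1, nat_lit 2, nat_lit 3, nat_lit 4, nat_lit 0, nat_lit 1, nat_lit 2, nat_lit 3, nat_lit 7, nat_lit 8, nat_lit 4, nat_lit 5, nat_lit 3, nat_lit 4, nat_lit 1, nat_lit 2, nat_lit 3, nat_lit 7, nat_lit 6, nat_lit 5, nat_lit 4, nat_lit 3, nat_lit 2, nat_lit 1, nat_lit 0])]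
noncomputable def R : List (List ℕ × ℕ) := [([nat_lit 0x78f732c2d7ee000, nat_lit 0x78f732c2d7ee000], nat_lit 0), ([nat_lit 0x89350944cc08000, nat_lit 0x89350944cc08000, nat_lit 0x89350944cc08000, nat_lit 0x89350944cc08000], nat_lit 0)]
noncomputable def Ds : List (List (List ℕ) × Ce) := [([[],
  []], [([], (nat_lit 8), false)]), ([[nat_lit 0],
  [nat_lit 0],
  [nat_lit 0],
  [nat_lit 0]], [([], (nat_lit 9), false)])]
noncomputable def Rt : List (List ℕ) := [[nat_lit 1, nat_lit 9, nat_lit 8, nat_lit 10],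
  [nat_lit 2, nat_lit 9, nat_lit 7, nat_lit 10],
  [nat_lit 3, nat_lit 9, nat_lit 3, nat_lit 10],
  [nat_lit 4, nat_lit 9, nat_lit 4, nat_lit 10],
  [nat_lit 5, nat_lit 9, nat_lit 5, nat_lit 10],
  [nat_lit 6, nat_lit 9, nat_lit 6, nat_lit 10],
  [nat_lit 7, nat_lit 9, nat_lit 2, nat_lit 10],
  [nat_lit 8, nat_lit 9, nat_lit 1, nat_lit 10],
  [nat_lit 9, nat_lit 9],
  [nat_lit 9, nat_lit 0, nat_lit 9, nat_lit 0, nat_lit 9, nat_lit 0, nat_lit 9, nat_lit 0]]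
noncomputable def SB : List (List ℕ) := [[nat_lit 0],
  [nat_lit 1],
  [nat_lit 2],
  [nat_lit 3],
  [nat_lit 4],
  [nat_lit 5],
  [nat_lit 7],
  [nat_lit 8]]
noncomputable def c : Ck := DH.mkC Y1.q (nat_lit 9) Y1.C [nat_lit 0, nat_lit 1, nat_lit 2, nat_lit 3, nat_lit 4, nat_lit 5, nat_lit 6, nat_lit 7, nat_lit 8, nat_lit 10] Rt SB D R F
noncomputable def P170 : List Pf := [.kb [nat_lit 1] [nat_lit 8] [([], (nat_lit 0), false)],
  .kb [nat_lit 2] [nat_lit 7] [([], (nat_lit 1), false)],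
  .kb [nat_lit 3] [nat_lit 3] [([], (nat_lit 2), false)],
  .kb [nat_lit 4] [nat_lit 4] [([], (nat_lit 3), false)],
  .kb [nat_lit 5] [nat_lit 5] [([], (nat_lit 4), false)],
  .kb [nat_lit 6] [nat_lit 6] [([], (nat_lit 5), false)],
  .kb [nat_lit 7] [nat_lit 2] [([], (nat_lit 6), false)],
  .kb [nat_lit 8] [nat_lit 1] [([], (nat_lit 7), false)],
  .ki (nat_lit 1),
  .ki (nat_lit 2),
  .ki (nat_lit 3),
  .ki (nat_lit 4),
  .ki (nat_lit 5),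
  .ki (nat_lit 6),
  .kp [nat_lit 9, nat_lit 11, nat_lit 10, nat_lit 9, nat_lit 14, nat_lit 4, nat_lit 1, nat_lit 5, nat_lit 4, nat_lit 5, nat_lit 13, nat_lit 11, nat_lit 6, nat_lit 11, nat_lit 4, nat_lit 3],
  .ki (nat_lit 15),
  .ki (nat_lit 7),
  .kp [nat_lit 13, nat_lit 17, nat_lit 15, nat_lit 12, nat_lit 14, nat_lit 5, nat_lit 4, nat_lit 3, nat_lit 4, nat_lit 14, nat_lit 9, nat_lit 4, nat_lit 17, nat_lit 16, nat_lit 7, nat_lit 14, nat_lit 1],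
  .ki (nat_lit 18),
  .kp [nat_lit 10, nat_lit 9, nat_lit 19, nat_lit 12, nat_lit 18, nat_lit 1, nat_lit 2],
  .ki (nat_lit 20),
  .kp [nat_lit 16, nat_lit 18, nat_lit 15, nat_lit 9, nat_lit 10, nat_lit 19, nat_lit 17, nat_lit 19, nat_lit 20],
  .ki (nat_lit 22),
  .kp [nat_lit 21, nat_lit 23, nat_lit 10, nat_lit 19, nat_lit 15, nat_lit 9, nat_lit 23, nat_lit 13, nat_lit 17, nat_lit 21, nat_lit 6, nat_lit 1, nat_lit 17, nat_lit 5, nat_lit 12, nat_lit 18, nat_lit 7, nat_lit 22],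
  .ki (nat_lit 24),
  .ki (nat_lit 8),
  .kp [nat_lit 10, nat_lit 26, nat_lit 18, nat_lit 9, nat_lit 1, nat_lit 20, nat_lit 24, nat_lit 18, nat_lit 26],
  .ki (nat_lit 27),
  .kp [nat_lit 27, nat_lit 27, nat_lit 25, nat_lit 12, nat_lit 26, nat_lit 25, nat_lit 9, nat_lit 13, nat_lit 16, nat_lit 2, nat_lit 3, nat_lit 14, nat_lit 16, nat_lit 27, nat_lit 12],
  .ki (nat_lit 29),
  .kp [nat_lit 30, nat_lit 30, nat_lit 29],
  .ki (nat_lit 31),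
  .kp [nat_lit 29, nat_lit 24, nat_lit 32],
  .ki (nat_lit 33),
  .kp [nat_lit 24, nat_lit 30, nat_lit 22],
  .ki (nat_lit 35),
  .kp [nat_lit 28, nat_lit 24, nat_lit 30],
  .ki (nat_lit 37),
  .kp [nat_lit 36, nat_lit 27, nat_lit 23],
  .ki (nat_lit 39),
  .kp [nat_lit 36, nat_lit 37, nat_lit 40],
  .ki (nat_lit 41),
  .kp [nat_lit 20, nat_lit 25, nat_lit 22],
  .ki (nat_lit 43),
  .kp [nat_lit 39, nat_lit 40, nat_lit 27],
  .ki (nat_lit 45),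
  .kp [nat_lit 46, nat_lit 44, nat_lit 40],
  .ki (nat_lit 47),
  .kp [nat_lit 26, nat_lit 23, nat_lit 27],
  .ki (nat_lit 49),
  .kp [nat_lit 15, nat_lit 49, nat_lit 50],
  .ki (nat_lit 51),
  .kp [nat_lit 12, nat_lit 50, nat_lit 52],
  .ki (nat_lit 53),
  .kp [nat_lit 54, nat_lit 15, nat_lit 50],
  .ki (nat_lit 55),
  .kp [nat_lit 20, nat_lit 9, nat_lit 3],
  .ki (nat_lit 57),
  .kp [nat_lit 21, nat_lit 16, nat_lit 13],
  .ki (nat_lit 59),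
  .kp [nat_lit 1, nat_lit 60, nat_lit 30],
  .ki (nat_lit 61),
  .kp [nat_lit 14, nat_lit 10, nat_lit 1],
  .ki (nat_lit 63),
  .kp [nat_lit 4, nat_lit 64, nat_lit 62],
  .ki (nat_lit 65),
  .kp [nat_lit 57, nat_lit 19, nat_lit 15],
  .ki (nat_lit 67),
  .kp [nat_lit 62, nat_lit 25, nat_lit 29],
  .ki (nat_lit 69),
  .kp [nat_lit 24, nat_lit 23, nat_lit 66],
  .ki (nat_lit 71),
  .kp [nat_lit 60, nat_lit 8, nat_lit 69],
  .ki (nat_lit 73),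
  .kp [nat_lit 67, nat_lit 60, nat_lit 58],
  .ki (nat_lit 75),
  .kp [nat_lit 73, nat_lit 9, nat_lit 60],
  .ki (nat_lit 77),
  .kp [nat_lit 27, nat_lit 4, nat_lit 71],
  .ki (nat_lit 79),
  .kp [nat_lit 2, nat_lit 71, nat_lit 28],
  .ki (nat_lit 81),
  .sb (nat_lit 0),
  .ss (nat_lit 0) [(nat_lit 83)] [],
  .sb (nat_lit 1),
  .ss (nat_lit 0) [(nat_lit 85)] [],
  .sb (nat_lit 2),
  .ss (nat_lit 0) [(nat_lit 87)] [],
  .sb (nat_lit 3),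
  .ss (nat_lit 0) [(nat_lit 89)] [],
  .ss (nat_lit 0) [] [nat_lit 84, nat_lit 87, nat_lit 83],
  .ss (nat_lit 0) [(nat_lit 91)] [],
  .ss (nat_lit 0) [] [nat_lit 92, nat_lit 85, nat_lit 88],
  .ss (nat_lit 0) [(nat_lit 93)] [],
  .sb (nat_lit 4),
  .ss (nat_lit 0) [(nat_lit 95)] [],
  .ss (nat_lit 0) [] [nat_lit 87, nat_lit 95, nat_lit 88],
  .ss (nat_lit 0) [(nat_lit 97)] [],
  .ss (nat_lit 0) [] [nat_lit 85, nat_lit 86, nat_lit 87],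
  .ss (nat_lit 0) [(nat_lit 99)] [],
  .ss (nat_lit 0) [] [nat_lit 93, nat_lit 98, nat_lit 94],
  .ss (nat_lit 0) [(nat_lit 101)] [],
  .ss (nat_lit 0) [] [nat_lit 102, nat_lit 102, nat_lit 88],
  .ss (nat_lit 0) [(nat_lit 103)] [],
  .ss (nat_lit 0) [] [nat_lit 100, nat_lit 99, nat_lit 92],
  .ss (nat_lit 0) [(nat_lit 105)] [],
  .ss (nat_lit 0) [] [nat_lit 89, nat_lit 102, nat_lit 92],
  .ss (nat_lit 0) [(nat_lit 107)] [],
  .sb (nat_lit 5),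
  .ss (nat_lit 0) [] [nat_lit 84, nat_lit 86, nat_lit 84, nat_lit 90, nat_lit 88, nat_lit 96, nat_lit 90, nat_lit 109],
  .ss (nat_lit 0) [(nat_lit 110)] [],
  .ss (nat_lit 0) [(nat_lit 109)] [],
  .ss (nat_lit 0) [] [nat_lit 106, nat_lit 86, nat_lit 93],
  .ss (nat_lit 0) [] [nat_lit 85, nat_lit 94, nat_lit 113],
  .ss (nat_lit 0) [(nat_lit 114)] [],
  .ss (nat_lit 0) [] [nat_lit 90, nat_lit 101, nat_lit 101],
  .ss (nat_lit 0) [(nat_lit 116)] [],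
  .ss (nat_lit 0) [] [nat_lit 93, nat_lit 102, nat_lit 92],
  .ss (nat_lit 0) [(nat_lit 118)] [],
  .ss (nat_lit 0) [] [nat_lit 102, nat_lit 115, nat_lit 107],
  .ss (nat_lit 0) [(nat_lit 120)] [],
  .ss (nat_lit 0) [] [nat_lit 108, nat_lit 107, nat_lit 83],
  .ss (nat_lit 0) [(nat_lit 122)] [],
  .sb (nat_lit 6),
  .ss (nat_lit 0) [(nat_lit 124)] [],
  .ss (nat_lit 0) [] [nat_lit 90, nat_lit 110, nat_lit 125, nat_lit 111, nat_lit 90, nat_lit 96, nat_lit 110, nat_lit 84, nat_lit 90, nat_lit 124, nat_lit 84, nat_lit 125, nat_lit 110, nat_lit 96, nat_lit 124, nat_lit 88, nat_lit 85, nat_lit 96, nat_lit 88],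
  .ss (nat_lit 0) [(nat_lit 126)] [],
  .ss (nat_lit 0) [] [nat_lit 88, nat_lit 84, nat_lit 90, nat_lit 88, nat_lit 96, nat_lit 127, nat_lit 83, nat_lit 89, nat_lit 89, nat_lit 111, nat_lit 85, nat_lit 83, nat_lit 83, nat_lit 89, nat_lit 110, nat_lit 124, nat_lit 87, nat_lit 126, nat_lit 83],
  .ss (nat_lit 0) [(nat_lit 128)] [],
  .sb (nat_lit 7),
  .ss (nat_lit 0) [(nat_lit 130)] [],
  .ss (nat_lit 0) [] [nat_lit 127, nat_lit 111, nat_lit 127, nat_lit 127, nat_lit 131, nat_lit 90, nat_lit 125, nat_lit 126, nat_lit 90, nat_lit 131, nat_lit 90, nat_lit 125, nat_lit 127, nat_lit 83, nat_lit 130, nat_lit 129, nat_lit 85, nat_lit 88, nat_lit 89],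
  .ss (nat_lit 0) [(nat_lit 132)] [],
  .ss (nat_lit 0) [] [nat_lit 126, nat_lit 129, nat_lit 133, nat_lit 111, nat_lit 125, nat_lit 125, nat_lit 96, nat_lit 129, nat_lit 127, nat_lit 111, nat_lit 130],
  .ss (nat_lit 0) [(nat_lit 134)] [],
  .ss (nat_lit 0) [] [nat_lit 133, nat_lit 135, nat_lit 132, nat_lit 88, nat_lit 127, nat_lit 110, nat_lit 84, nat_lit 90, nat_lit 127, nat_lit 111, nat_lit 88, nat_lit 95, nat_lit 128, nat_lit 96, nat_lit 87, nat_lit 134, nat_lit 90, nat_lit 110, nat_lit 90],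
  .ss (nat_lit 0) [(nat_lit 136)] [],
  .df,
  .cy (nat_lit 0) [] [] [] (nat_lit 138) [],
  .tr (nat_lit 138) [] [] [⟨[nat_lit 105, nat_lit 105, nat_lit 104, nat_lit 116, nat_lit 87], [nat_lit 4], (nat_lit 138)⟩],
  .ss (nat_lit 1) [(nat_lit 140)] [],
  .tr (nat_lit 138) [] [] [⟨[nat_lit 131, nat_lit 93, nat_lit 109, nat_lit 115, nat_lit 101, nat_lit 83, nat_lit 118, nat_lit 97, nat_lit 91, nat_lit 99, nat_lit 87, nat_lit 130, nat_lit 118, nat_lit 83, nat_lit 93], [nat_lit 22, nat_lit 7, nat_lit 22], (nat_lit 138)⟩],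
  .ss (nat_lit 1) [(nat_lit 142)] [],
  .tr (nat_lit 138) [] [] [⟨[nat_lit 113, nat_lit 88, nat_lit 123, nat_lit 97, nat_lit 104, nat_lit 86, nat_lit 104, nat_lit 86, nat_lit 121, nat_lit 112, nat_lit 87, nat_lit 95, nat_lit 106, nat_lit 124, nat_lit 107, nat_lit 89, nat_lit 124, nat_lit 89], [nat_lit 3, nat_lit 73, nat_lit 7, nat_lit 55, nat_lit 27, nat_lit 19, nat_lit 38, nat_lit 39, nat_lit 20, nat_lit 24, nat_lit 33], (nat_lit 138)⟩],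
  .ss (nat_lit 1) [(nat_lit 144)] [],
  .tr (nat_lit 138) [] [] [⟨[nat_lit 115, nat_lit 93, nat_lit 96, nat_lit 112, nat_lit 101, nat_lit 114, nat_lit 83, nat_lit 125, nat_lit 121, nat_lit 108, nat_lit 120, nat_lit 119, nat_lit 107, nat_lit 124, nat_lit 83, nat_lit 85], [nat_lit 75, nat_lit 18, nat_lit 1, nat_lit 15, nat_lit 19, nat_lit 4, nat_lit 22], (nat_lit 138)⟩],
  .ss (nat_lit 1) [] [nat_lit 141, nat_lit 143, nat_lit 145, nat_lit 145, nat_lit 145, nat_lit 146],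
  .ss (nat_lit 1) [(nat_lit 147)] [],
  .ss (nat_lit 1) [(nat_lit 146)] [],
  .tr (nat_lit 138) [] [] [⟨[nat_lit 124, nat_lit 97, nat_lit 119, nat_lit 112, nat_lit 131, nat_lit 84, nat_lit 124, nat_lit 85, nat_lit 118, nat_lit 83, nat_lit 118, nat_lit 83], [nat_lit 27, nat_lit 62, nat_lit 18, nat_lit 18, nat_lit 15, nat_lit 29, nat_lit 48, nat_lit 27, nat_lit 33, nat_lit 24, nat_lit 29], (nat_lit 138)⟩],
  .ss (nat_lit 1) [] [nat_lit 141, nat_lit 143, nat_lit 144, nat_lit 148, nat_lit 145, nat_lit 150],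
  .ss (nat_lit 1) [(nat_lit 151)] [],
  .ss (nat_lit 1) [] [nat_lit 148, nat_lit 151, nat_lit 148, nat_lit 143, nat_lit 144, nat_lit 148, nat_lit 152, nat_lit 145, nat_lit 140, nat_lit 152, nat_lit 144, nat_lit 152, nat_lit 143, nat_lit 142, nat_lit 141],
  .ss (nat_lit 1) [(nat_lit 153)] [],
  .ss (nat_lit 1) [] [nat_lit 141, nat_lit 144, nat_lit 153, nat_lit 145, nat_lit 153, nat_lit 147, nat_lit 141, nat_lit 154, nat_lit 153, nat_lit 141, nat_lit 152, nat_lit 152, nat_lit 140, nat_lit 142, nat_lit 143, nat_lit 145],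
  .ss (nat_lit 1) [(nat_lit 155)] [],
  .ss (nat_lit 1) [(nat_lit 150)] [],
  .ss (nat_lit 1) [] [nat_lit 150, nat_lit 143, nat_lit 146],
  .ss (nat_lit 1) [(nat_lit 158)] [],
  .ss (nat_lit 1) [] [nat_lit 141, nat_lit 159, nat_lit 158],
  .ss (nat_lit 1) [(nat_lit 160)] [],
  .ss (nat_lit 1) [] [nat_lit 160, nat_lit 142, nat_lit 143],
  .ss (nat_lit 1) [(nat_lit 162)] [],
  .ss (nat_lit 1) [] [nat_lit 159, nat_lit 157, nat_lit 145],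
  .ss (nat_lit 1) [(nat_lit 164)] [],
  .cy (nat_lit 1) [] [] [nat_lit 66, nat_lit 57, nat_lit 7, nat_lit 29, nat_lit 4, nat_lit 2, nat_lit 27, nat_lit 20, nat_lit 24, nat_lit 34] (nat_lit 0) [⟨[nat_lit 119, nat_lit 89, nat_lit 124, nat_lit 130, nat_lit 124, nat_lit 107, nat_lit 109, nat_lit 107, nat_lit 124, nat_lit 107, nat_lit 85, nat_lit 83], [nat_lit 28, nat_lit 59, nat_lit 6, nat_lit 4, nat_lit 28, nat_lit 2, nat_lit 28, nat_lit 28, nat_lit 34, nat_lit 30, nat_lit 24], (nat_lit 0)⟩, ⟨[nat_lit 124, nat_lit 130, nat_lit 107, nat_lit 89, nat_lit 124, nat_lit 93, nat_lit 107, nat_lit 109, nat_lit 95, nat_lit 107, nat_lit 124, nat_lit 130, nat_lit 107, nat_lit 83, nat_lit 93, nat_lit 85, nat_lit 83], [nat_lit 74, nat_lit 18, nat_lit 1, nat_lit 54, nat_lit 19, nat_lit 15, nat_lit 47, nat_lit 42, nat_lit 33, nat_lit 33], (nat_lit 138)⟩],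
  .cy (nat_lit 0) [] [] [] (nat_lit 166) [⟨[nat_lit 124, nat_lit 93, nat_lit 107, nat_lit 109, nat_lit 107, nat_lit 124, nat_lit 130, nat_lit 107, nat_lit 83, nat_lit 93, nat_lit 85, nat_lit 83], [nat_lit 69, nat_lit 60, nat_lit 5, nat_lit 19, nat_lit 50, nat_lit 19, nat_lit 48, nat_lit 42, nat_lit 33, nat_lit 24, nat_lit 29], (nat_lit 138)⟩],
  .ss (nat_lit 1) [(nat_lit 167)] [],
  .ss (nat_lit 1) [] [nat_lit 141, nat_lit 143, nat_lit 145, nat_lit 141, nat_lit 167, nat_lit 140, nat_lit 152, nat_lit 168, nat_lit 168, nat_lit 156]]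
noncomputable def P234 : List Pf := [.ss (nat_lit 1) [(nat_lit 169)] [],
  .ss (nat_lit 1) [] [nat_lit 151, nat_lit 169, nat_lit 154, nat_lit 144, nat_lit 167, nat_lit 153, nat_lit 145, nat_lit 155, nat_lit 169, nat_lit 155, nat_lit 167, nat_lit 148, nat_lit 169],
  .cy (nat_lit 1) [] [] [nat_lit 24, nat_lit 69, nat_lit 1, nat_lit 56, nat_lit 36, nat_lit 20, nat_lit 33, nat_lit 24] (nat_lit 139) [⟨[nat_lit 107, nat_lit 83, nat_lit 93, nat_lit 89, nat_lit 124, nat_lit 130, nat_lit 124, nat_lit 107, nat_lit 109, nat_lit 107, nat_lit 124, nat_lit 107, nat_lit 85, nat_lit 83], [nat_lit 24, nat_lit 63, nat_lit 27, nat_lit 15, nat_lit 39, nat_lit 48, nat_lit 29], (nat_lit 0)⟩, ⟨[nat_lit 109, nat_lit 120, nat_lit 124, nat_lit 130, nat_lit 109, nat_lit 107, nat_lit 83, nat_lit 93, nat_lit 83], [nat_lit 30, nat_lit 82, nat_lit 59, nat_lit 15, nat_lit 18, nat_lit 15,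 nat_lit 43, nat_lit 27, nat_lit 24, nat_lit 33], (nat_lit 138)⟩],
  .df,
  .cy (nat_lit 0) [] [] [] (nat_lit 173) [],
  .tr (nat_lit 173) [] [] [⟨[nat_lit 130, nat_lit 103, nat_lit 87, nat_lit 98, nat_lit 92, nat_lit 108, nat_lit 85], [nat_lit 27, nat_lit 24, nat_lit 1, nat_lit 55, nat_lit 27, nat_lit 16, nat_lit 28, nat_lit 47, nat_lit 20, nat_lit 30, nat_lit 24], (nat_lit 173)⟩],
  .ss (nat_lit 2) [(nat_lit 175)] [],
  .tr (nat_lit 173) [] [] [⟨[nat_lit 91, nat_lit 83, nat_lit 96, nat_lit 124, nat_lit 116, nat_lit 89], [nat_lit 4, nat_lit 80, nat_lit 1, nat_lit 19, nat_lit 16, nat_lit 4, nat_lit 48, nat_lit 27, nat_lit 20, nat_lit 33, nat_lit 24], (nat_lit 173)⟩],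
  .ss (nat_lit 2) [(nat_lit 177)] [],
  .ss (nat_lit 2) [] [nat_lit 178, nat_lit 176, nat_lit 176],
  .ss (nat_lit 2) [(nat_lit 179)] [],
  .ss (nat_lit 2) [] [nat_lit 177, nat_lit 178, nat_lit 179],
  .ss (nat_lit 2) [] [nat_lit 178, nat_lit 177, nat_lit 175],
  .ss (nat_lit 2) [(nat_lit 182)] [],
  .ss (nat_lit 2) [] [nat_lit 181, nat_lit 178, nat_lit 179],
  .ss (nat_lit 2) [(nat_lit 184)] [],
  .ss (nat_lit 2) [] [nat_lit 177, nat_lit 181, nat_lit 180],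
  .ss (nat_lit 2) [(nat_lit 186)] [],
  .ss (nat_lit 2) [] [nat_lit 185, nat_lit 187, nat_lit 181],
  .ss (nat_lit 2) [(nat_lit 188)] [],
  .ss (nat_lit 2) [] [nat_lit 180, nat_lit 176, nat_lit 189],
  .tr (nat_lit 173) [] [] [⟨[nat_lit 109, nat_lit 93, nat_lit 130, nat_lit 124, nat_lit 117, nat_lit 108, nat_lit 124, nat_lit 87, nat_lit 107], [nat_lit 80, nat_lit 67, nat_lit 5, nat_lit 28, nat_lit 15, nat_lit 2, nat_lit 48, nat_lit 35, nat_lit 20], (nat_lit 173)⟩],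
  .ss (nat_lit 2) [(nat_lit 191)] [],
  .ss (nat_lit 2) [] [nat_lit 191, nat_lit 176, nat_lit 192, nat_lit 176, nat_lit 191, nat_lit 176, nat_lit 176, nat_lit 176, nat_lit 192, nat_lit 178, nat_lit 176, nat_lit 191, nat_lit 176, nat_lit 177, nat_lit 192, nat_lit 175, nat_lit 191, nat_lit 176, nat_lit 176],
  .ss (nat_lit 2) [(nat_lit 193)] [],
  .ss (nat_lit 2) [] [nat_lit 192, nat_lit 192, nat_lit 176, nat_lit 192, nat_lit 177, nat_lit 176, nat_lit 191, nat_lit 176, nat_lit 193, nat_lit 177, nat_lit 194, nat_lit 177, nat_lit 177],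
  .ss (nat_lit 2) [(nat_lit 195)] [],
  .ss (nat_lit 2) [] [nat_lit 194, nat_lit 194, nat_lit 196, nat_lit 193, nat_lit 176, nat_lit 178, nat_lit 194, nat_lit 192, nat_lit 193, nat_lit 192, nat_lit 194, nat_lit 176, nat_lit 196, nat_lit 175],
  .ss (nat_lit 2) [(nat_lit 197)] [],
  .ss (nat_lit 2) [] [nat_lit 193, nat_lit 196, nat_lit 196, nat_lit 192, nat_lit 195, nat_lit 178, nat_lit 196, nat_lit 196, nat_lit 176, nat_lit 178, nat_lit 196, nat_lit 195, nat_lit 191, nat_lit 191, nat_lit 178, nat_lit 191, nat_lit 198, nat_lit 193, nat_lit 177],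
  .ss (nat_lit 2) [] [nat_lit 180, nat_lit 177, nat_lit 192],
  .ss (nat_lit 2) [] [nat_lit 179, nat_lit 189, nat_lit 183],
  .ss (nat_lit 2) [] [nat_lit 200, nat_lit 201, nat_lit 192],
  .ss (nat_lit 2) [(nat_lit 202)] [],
  .df,
  .cy (nat_lit 0) [] [] [] (nat_lit 204) [],
  .tr (nat_lit 204) [] [] [⟨[nat_lit 163, nat_lit 167, nat_lit 163, nat_lit 158, nat_lit 167, nat_lit 149, nat_lit 157, nat_lit 159, nat_lit 168, nat_lit 168, nat_lit 159], [nat_lit 57, nat_lit 75, nat_lit 19, nat_lit 50, nat_lit 2, nat_lit 35, nat_lit 30, nat_lit 20, nat_lit 24, nat_lit 33], (nat_lit 204)⟩],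
  .ss (nat_lit 3) [(nat_lit 206)] [],
  .tr (nat_lit 204) [] [] [⟨[nat_lit 143, nat_lit 164, nat_lit 143, nat_lit 149, nat_lit 142, nat_lit 141, nat_lit 163, nat_lit 164, nat_lit 158, nat_lit 142, nat_lit 146, nat_lit 165, nat_lit 140, nat_lit 144], [nat_lit 70, nat_lit 59, nat_lit 27, nat_lit 8, nat_lit 18, nat_lit 48, nat_lit 40, nat_lit 29, nat_lit 24], (nat_lit 204)⟩],
  .ss (nat_lit 3) [(nat_lit 208)] [],
  .tr (nat_lit 204) [] [] [⟨[nat_lit 168, nat_lit 168, nat_lit 161, nat_lit 141, nat_lit 143, nat_lit 165, nat_lit 145, nat_lit 167, nat_lit 142, nat_lit 140], [nat_lit 67, nat_lit 80, nat_lit 63, nat_lit 27, nat_lit 19, nat_lit 24, nat_lit 47, nat_lit 34, nat_lit 34], (nat_lit 204)⟩],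
  .ss (nat_lit 3) [(nat_lit 210)] [],
  .ss (nat_lit 3) [] [nat_lit 206, nat_lit 209, nat_lit 207, nat_lit 211, nat_lit 209, nat_lit 208, nat_lit 209, nat_lit 207, nat_lit 210, nat_lit 209, nat_lit 207, nat_lit 207, nat_lit 210, nat_lit 208],
  .ss (nat_lit 3) [(nat_lit 212)] [],
  .cy (nat_lit 1) [] [] [nat_lit 72, nat_lit 76, nat_lit 1, nat_lit 19, nat_lit 15, nat_lit 41, nat_lit 38, nat_lit 33, nat_lit 33, nat_lit 33] (nat_lit 172) [⟨[nat_lit 146, nat_lit 140, nat_lit 144, nat_lit 167, nat_lit 144], [nat_lit 80, nat_lit 22, nat_lit 3, nat_lit 27, nat_lit 55, nat_lit 4, nat_lit 20, nat_lit 41, nat_lit 33, nat_lit 29], (nat_lit 172)⟩, ⟨[nat_lit 144, nat_lit 146, nat_lit 167, nat_lit 150, nat_lit 140], [nat_lit 57, nat_lit 8, nat_lit 59, nat_lit 22, nat_lit 18, nat_lit 29, nat_lit 27], (nat_lit 204)⟩],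
  .cy (nat_lit 0) [] [] [] (nat_lit 214) [⟨[nat_lit 145, nat_lit 168, nat_lit 144, nat_lit 142], [nat_lit 24, nat_lit 76, nat_lit 28, nat_lit 15, nat_lit 40, nat_lit 29, nat_lit 20, nat_lit 33, nat_lit 24], (nat_lit 204)⟩],
  .ss (nat_lit 3) [(nat_lit 215)] [],
  .ss (nat_lit 3) [] [nat_lit 207, nat_lit 207, nat_lit 215, nat_lit 213, nat_lit 209, nat_lit 216, nat_lit 207, nat_lit 209, nat_lit 211, nat_lit 216, nat_lit 207],
  .ss (nat_lit 3) [(nat_lit 217)] [],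
  .ss (nat_lit 3) [] [nat_lit 207, nat_lit 218, nat_lit 216, nat_lit 218, nat_lit 217, nat_lit 210, nat_lit 218, nat_lit 211, nat_lit 209, nat_lit 215],
  .ss (nat_lit 3) [(nat_lit 219)] [],
  .cy (nat_lit 1) [] [] [nat_lit 72, nat_lit 70, nat_lit 3, nat_lit 16, nat_lit 4, nat_lit 2, nat_lit 29, nat_lit 47, nat_lit 34, nat_lit 30] (nat_lit 174) [⟨[nat_lit 108, nat_lit 109, nat_lit 120, nat_lit 124, nat_lit 83, nat_lit 93, nat_lit 107, nat_lit 85], [nat_lit 80, nat_lit 29, nat_lit 1, nat_lit 29, nat_lit 19, nat_lit 2, nat_lit 22, nat_lit 41, nat_lit 33, nat_lit 33], (nat_lit 138)⟩, ⟨[nat_lit 168, nat_lit 150, nat_lit 140, nat_lit 146], [nat_lit 76, nat_lit 77, nat_lit 7, nat_lit 15, nat_lit 18, nat_lit 16, nat_lit 43, nat_lit 47, nat_lit 20, nat_lit 24, nat_lit 29], (nat_lit 204)⟩],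
  .cy (nat_lit 0) [] [] [] (nat_lit 221) [],
  .cy (nat_lit 1) [] [] [nat_lit 28, nat_lit 78, nat_lit 3, nat_lit 19, nat_lit 15, nat_lit 29, nat_lit 48, nat_lit 27, nat_lit 33] (nat_lit 205) [⟨[nat_lit 149, nat_lit 168, nat_lit 164, nat_lit 167, nat_lit 144], [nat_lit 66, nat_lit 74, nat_lit 56, nat_lit 50, nat_lit 50, nat_lit 28, nat_lit 41, nat_lit 34, nat_lit 34], (nat_lit 172)⟩, ⟨[nat_lit 168, nat_lit 145, nat_lit 164, nat_lit 140], [nat_lit 61, nat_lit 65, nat_lit 6, nat_lit 27, nat_lit 55, nat_lit 36, nat_lit 40, nat_lit 20, nat_lit 24, nat_lit 33], (nat_lit 204)⟩],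
  .cy (nat_lit 1) [] [] [nat_lit 69, nat_lit 80, nat_lit 3, nat_lit 54, nat_lit 16, nat_lit 2, nat_lit 48, nat_lit 30, nat_lit 24] (nat_lit 205) [⟨[nat_lit 165, nat_lit 145, nat_lit 167, nat_lit 167, nat_lit 146], [nat_lit 76, nat_lit 66, nat_lit 1, nat_lit 30, nat_lit 56, nat_lit 35, nat_lit 47, nat_lit 34], (nat_lit 204)⟩, ⟨[nat_lit 216, nat_lit 210, nat_lit 207, nat_lit 215, nat_lit 210, nat_lit 206], [nat_lit 16, nat_lit 76, nat_lit 1, nat_lit 16, nat_lit 19, nat_lit 15, nat_lit 40, nat_lit 28, nat_lit 33, nat_lit 29, nat_lit 24], (nat_lit 223)⟩],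
  .cy (nat_lit 1) [] [] [nat_lit 71, nat_lit 24, nat_lit 70, nat_lit 55, nat_lit 29, nat_lit 2, nat_lit 38, nat_lit 35, nat_lit 34, nat_lit 24] (nat_lit 205) [⟨[nat_lit 144, nat_lit 167, nat_lit 167, nat_lit 149, nat_lit 145, nat_lit 140], [nat_lit 24, nat_lit 67, nat_lit 59, nat_lit 27, nat_lit 19, nat_lit 2, nat_lit 48, nat_lit 40, nat_lit 20, nat_lit 34, nat_lit 24], (nat_lit 204)⟩, ⟨[nat_lit 216, nat_lit 207, nat_lit 215, nat_lit 211, nat_lit 215], [nat_lit 73, nat_lit 78, nat_lit 65, nat_lit 50, nat_lit 18, nat_lit 2, nat_lit 24, nat_lit 48, nat_lit 27, nat_lit 29], (nat_lit 224)⟩],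
  .cy (nat_lit 1) [] [] [nat_lit 79, nat_lit 74, nat_lit 50, nat_lit 4, nat_lit 2, nat_lit 28, nat_lit 22, nat_lit 33, nat_lit 33, nat_lit 33] (nat_lit 224) [⟨[nat_lit 206, nat_lit 211, nat_lit 206, nat_lit 210, nat_lit 215], [nat_lit 68, nat_lit 62, nat_lit 7, nat_lit 19, nat_lit 19, nat_lit 4, nat_lit 20, nat_lit 24, nat_lit 34], (nat_lit 223)⟩, ⟨[nat_lit 210, nat_lit 207, nat_lit 215, nat_lit 215, nat_lit 208, nat_lit 206], [nat_lit 62, nat_lit 5, nat_lit 3, nat_lit 4, nat_lit 28, nat_lit 2, nat_lit 29, nat_lit 20, nat_lit 33, nat_lit 24, nat_lit 29], (nat_lit 224)⟩],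
  .df,
  .cy (nat_lit 0) [] [] [] (nat_lit 227) [],
  .tr (nat_lit 227) [] [] [⟨[nat_lit 149, nat_lit 160, nat_lit 149, nat_lit 144, nat_lit 168, nat_lit 142, nat_lit 168, nat_lit 164, nat_lit 145], [nat_lit 29, nat_lit 81, nat_lit 5, nat_lit 19, nat_lit 49, nat_lit 15, nat_lit 37, nat_lit 27, nat_lit 20, nat_lit 24, nat_lit 33], (nat_lit 227)⟩],
  .ss (nat_lit 4) [(nat_lit 229)] [],
  .tr (nat_lit 227) [] [] [⟨[nat_lit 167, nat_lit 158, nat_lit 167, nat_lit 141, nat_lit 149, nat_lit 149, nat_lit 142, nat_lit 168], [nat_lit 16, nat_lit 69, nat_lit 57, nat_lit 16, nat_lit 18, nat_lit 4, nat_lit 39, nat_lit 28, nat_lit 33, nat_lit 33, nat_lit 33], (nat_lit 227)⟩],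
  .ss (nat_lit 4) [(nat_lit 231)] [],
  .ss (nat_lit 4) [] [nat_lit 231, nat_lit 230, nat_lit 232, nat_lit 229, nat_lit 229, nat_lit 229, nat_lit 231, nat_lit 232, nat_lit 231, nat_lit 229, nat_lit 230, nat_lit 229, nat_lit 232]]
noncomputable def P280 : List Pf := [.ss (nat_lit 4) [(nat_lit 233)] [],
  .ss (nat_lit 4) [] [nat_lit 232, nat_lit 231, nat_lit 229],
  .ss (nat_lit 4) [] [nat_lit 231, nat_lit 232, nat_lit 235],
  .ss (nat_lit 4) [(nat_lit 236)] [],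
  .ss (nat_lit 4) [] [nat_lit 231, nat_lit 232, nat_lit 237],
  .ss (nat_lit 4) [] [nat_lit 238, nat_lit 231, nat_lit 230],
  .ss (nat_lit 4) [(nat_lit 239)] [],
  .tr (nat_lit 227) [] [] [⟨[nat_lit 163, nat_lit 145, nat_lit 145, nat_lit 145, nat_lit 167, nat_lit 164, nat_lit 145, nat_lit 162, nat_lit 149, nat_lit 162, nat_lit 167, nat_lit 140, nat_lit 159, nat_lit 168], [nat_lit 4, nat_lit 80, nat_lit 59, nat_lit 49, nat_lit 55, nat_lit 4, nat_lit 35, nat_lit 28, nat_lit 20, nat_lit 24, nat_lit 33], (nat_lit 227)⟩],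
  .ss (nat_lit 4) [(nat_lit 241)] [],
  .cy (nat_lit 1) [] [] [nat_lit 20, nat_lit 60, nat_lit 3, nat_lit 18, nat_lit 50, nat_lit 18, nat_lit 38, nat_lit 38, nat_lit 20, nat_lit 34, nat_lit 30] (nat_lit 228) [⟨[nat_lit 168, nat_lit 149, nat_lit 145, nat_lit 140], [nat_lit 78, nat_lit 69, nat_lit 1, nat_lit 28, nat_lit 15, nat_lit 24, nat_lit 47, nat_lit 20, nat_lit 24, nat_lit 33], (nat_lit 204)⟩, ⟨[nat_lit 211, nat_lit 206, nat_lit 216, nat_lit 211, nat_lit 207], [nat_lit 72, nat_lit 81, nat_lit 18, nat_lit 29, nat_lit 2, nat_lit 22, nat_lit 47, nat_lit 33, nat_lit 24], (nat_lit 223)⟩],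
  .cy (nat_lit 0) [] [] [] (nat_lit 243) [],
  .cy (nat_lit 1) [] [] [nat_lit 73, nat_lit 71, nat_lit 1, nat_lit 27, nat_lit 16, nat_lit 28, nat_lit 20, nat_lit 33, nat_lit 29, nat_lit 24] (nat_lit 228) [⟨[nat_lit 168, nat_lit 159, nat_lit 144, nat_lit 168, nat_lit 149], [nat_lit 19, nat_lit 76, nat_lit 50, nat_lit 22, nat_lit 19, nat_lit 27, nat_lit 22, nat_lit 24, nat_lit 33], (nat_lit 172)⟩, ⟨[nat_lit 167, nat_lit 146, nat_lit 167, nat_lit 165], [nat_lit 29, nat_lit 71, nat_lit 6, nat_lit 24, nat_lit 18, nat_lit 18, nat_lit 29, nat_lit 20, nat_lit 33, nat_lit 29, nat_lit 24], (nat_lit 204)⟩, ⟨[nat_lit 216, nat_lit 208, nat_lit 215, nat_lit 215], [nat_lit 4, nat_lit 70, nat_lit 6, nat_lit 49, nat_lit 15, nat_lit 18, nat_lit 47, nat_lit 27], (nat_lit 243)⟩],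
  .ss (nat_lit 4) [] [nat_lit 230, nat_lit 241, nat_lit 231, nat_lit 230, nat_lit 245],
  .ss (nat_lit 4) [(nat_lit 246)] [],
  .ss (nat_lit 4) [] [nat_lit 234, nat_lit 247, nat_lit 247, nat_lit 232, nat_lit 232, nat_lit 232, nat_lit 242, nat_lit 230, nat_lit 246, nat_lit 246, nat_lit 234, nat_lit 241, nat_lit 231, nat_lit 231, nat_lit 241, nat_lit 230, nat_lit 241, nat_lit 234, nat_lit 242],
  .ss (nat_lit 4) [(nat_lit 245)] [],
  .cy (nat_lit 1) [] [] [nat_lit 80, nat_lit 22, nat_lit 1, nat_lit 54, nat_lit 19, nat_lit 2, nat_lit 39, nat_lit 27, nat_lit 29] (nat_lit 222) [⟨[nat_lit 216, nat_lit 207, nat_lit 211, nat_lit 215, nat_lit 206], [nat_lit 30, nat_lit 65, nat_lit 6, nat_lit 49, nat_lit 55, nat_lit 4, nat_lit 39, nat_lit 29, nat_lit 20, nat_lit 33], (nat_lit 226)⟩, ⟨[nat_lit 208, nat_lit 215, nat_lit 206], [nat_lit 63, nat_lit 30, nat_lit 59, nat_lit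 50, nat_lit 4, nat_lit 2, nat_lit 41, nat_lit 38, nat_lit 33, nat_lit 24, nat_lit 29], (nat_lit 243)⟩],
  .cy (nat_lit 0) [] [] [] (nat_lit 250) [],
  .cy (nat_lit 1) [] [] [nat_lit 64, nat_lit 19, nat_lit 19, nat_lit 4, nat_lit 22, nat_lit 47, nat_lit 20, nat_lit 24, nat_lit 33] (nat_lit 222) [⟨[nat_lit 207, nat_lit 215, nat_lit 208, nat_lit 215, nat_lit 208, nat_lit 206], [nat_lit 73, nat_lit 1, nat_lit 54, nat_lit 55, nat_lit 35, nat_lit 29, nat_lit 28, nat_lit 34], (nat_lit 243)⟩, ⟨[nat_lit 249, nat_lit 240, nat_lit 232], [nat_lit 29, nat_lit 7, nat_lit 54, nat_lit 24, nat_lit 50, nat_lit 39, nat_lit 42, nat_lit 24, nat_lit 33], (nat_lit 250)⟩],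
  .cy (nat_lit 1) [] [] [nat_lit 77, nat_lit 73, nat_lit 30, nat_lit 8, nat_lit 41, nat_lit 38, nat_lit 24, nat_lit 34, nat_lit 24] (nat_lit 228) [⟨[nat_lit 168, nat_lit 149, nat_lit 145, nat_lit 168, nat_lit 150], [nat_lit 27, nat_lit 62, nat_lit 1, nat_lit 4, nat_lit 35, nat_lit 38, nat_lit 33, nat_lit 33], (nat_lit 204)⟩, ⟨[nat_lit 206, nat_lit 216, nat_lit 206, nat_lit 210, nat_lit 216, nat_lit 207], [nat_lit 59, nat_lit 4, nat_lit 3, nat_lit 30, nat_lit 15, nat_lit 28, nat_lit 47, nat_lit 20, nat_lit 33, nat_lit 24, nat_lit 29], (nat_lit 243)⟩],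
  .cy (nat_lit 1) [] [] [nat_lit 5, nat_lit 71, nat_lit 1, nat_lit 49, nat_lit 15, nat_lit 18, nat_lit 48, nat_lit 20, nat_lit 34, nat_lit 34] (nat_lit 244) [⟨[nat_lit 211, nat_lit 216, nat_lit 211, nat_lit 207], [nat_lit 61, nat_lit 64, nat_lit 18, nat_lit 29, nat_lit 2, nat_lit 20, nat_lit 33, nat_lit 29, nat_lit 24], (nat_lit 224)⟩, ⟨[nat_lit 215, nat_lit 210, nat_lit 206, nat_lit 210, nat_lit 207], [nat_lit 22, nat_lit 74, nat_lit 3, nat_lit 54, nat_lit 18, nat_lit 24, nat_lit 27, nat_lit 33, nat_lit 33, nat_lit 33], (nat_lit 243)⟩],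
  .cy (nat_lit 1) [] [] [nat_lit 76, nat_lit 59, nat_lit 19, nat_lit 48, nat_lit 38, nat_lit 27, nat_lit 29] (nat_lit 244) [⟨[nat_lit 216, nat_lit 206, nat_lit 206, nat_lit 211, nat_lit 206], [nat_lit 82, nat_lit 77, nat_lit 1, nat_lit 16, nat_lit 18, nat_lit 2, nat_lit 47, nat_lit 29, nat_lit 22, nat_lit 24, nat_lit 33, nat_lit 24], (nat_lit 243)⟩, ⟨[nat_lit 239, nat_lit 239, nat_lit 249, nat_lit 242, nat_lit 232], [nat_lit 66, nat_lit 62, nat_lit 50, nat_lit 4, nat_lit 27, nat_lit 22, nat_lit 33, nat_lit 24, nat_lit 29], (nat_lit 253)⟩],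
  .df,
  .cy (nat_lit 0) [] [] [] (nat_lit 256) [],
  .tr (nat_lit 256) [] [] [⟨[nat_lit 216, nat_lit 207, nat_lit 207, nat_lit 208, nat_lit 215, nat_lit 208], [nat_lit 57, nat_lit 64, nat_lit 57, nat_lit 28, nat_lit 19, nat_lit 41, nat_lit 48, nat_lit 34, nat_lit 30], (nat_lit 256)⟩],
  .ss (nat_lit 5) [(nat_lit 258)] [],
  .tr (nat_lit 256) [] [] [⟨[nat_lit 216, nat_lit 207, nat_lit 207, nat_lit 210, nat_lit 207, nat_lit 206, nat_lit 210, nat_lit 206, nat_lit 215, nat_lit 208], [nat_lit 7, nat_lit 70, nat_lit 1, nat_lit 28, nat_lit 18, nat_lit 55, nat_lit 36, nat_lit 20, nat_lit 34, nat_lit 30, nat_lit 24], (nat_lit 256)⟩],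
  .ss (nat_lit 5) [(nat_lit 260)] [],
  .tr (nat_lit 256) [] [] [⟨[nat_lit 211, nat_lit 209, nat_lit 206, nat_lit 208, nat_lit 215, nat_lit 216, nat_lit 207], [nat_lit 27, nat_lit 74, nat_lit 53, nat_lit 19, nat_lit 4, nat_lit 22, nat_lit 27, nat_lit 29], (nat_lit 256)⟩],
  .ss (nat_lit 5) [(nat_lit 262)] [],
  .tr (nat_lit 256) [] [] [⟨[nat_lit 210, nat_lit 206, nat_lit 210, nat_lit 207, nat_lit 209, nat_lit 216, nat_lit 216, nat_lit 216, nat_lit 211], [nat_lit 75, nat_lit 79, nat_lit 55, nat_lit 55, nat_lit 18, nat_lit 48, nat_lit 22, nat_lit 33, nat_lit 24], (nat_lit 256)⟩],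
  .ss (nat_lit 5) [(nat_lit 264)] [],
  .ss (nat_lit 5) [] [nat_lit 259, nat_lit 263, nat_lit 258, nat_lit 260, nat_lit 265, nat_lit 261, nat_lit 259, nat_lit 259],
  .ss (nat_lit 5) [(nat_lit 266)] [],
  .cy (nat_lit 1) [] [] [nat_lit 80, nat_lit 74, nat_lit 1, nat_lit 30, nat_lit 8, nat_lit 18, nat_lit 24, nat_lit 40, nat_lit 30] (nat_lit 257) [⟨[nat_lit 208, nat_lit 215], [nat_lit 61, nat_lit 64, nat_lit 82, nat_lit 27, nat_lit 8, nat_lit 18, nat_lit 41, nat_lit 47, nat_lit 20, nat_lit 33, nat_lit 24], (nat_lit 221)⟩, ⟨[nat_lit 191, nat_lit 190, nat_lit 203, nat_lit 177, nat_lit 203], [nat_lit 72, nat_lit 18, nat_lit 5, nat_lit 50, nat_lit 18, nat_lit 15, nat_lit 38, nat_lit 35, nat_lit 33, nat_lit 29, nat_lit 24], (nat_lit 251)⟩],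
  .cy (nat_lit 0) [] [] [] (nat_lit 268) [],
  .cy (nat_lit 1) [] [] [nat_lit 29, nat_lit 81, nat_lit 7, nat_lit 19, nat_lit 8, nat_lit 40, nat_lit 47, nat_lit 34, nat_lit 24] (nat_lit 257) [⟨[nat_lit 211, nat_lit 216, nat_lit 207, nat_lit 216, nat_lit 207, nat_lit 207], [nat_lit 6, nat_lit 81, nat_lit 1, nat_lit 43, nat_lit 47, nat_lit 34], (nat_lit 243)⟩, ⟨[nat_lit 241, nat_lit 249, nat_lit 232, nat_lit 249], [nat_lit 27, nat_lit 57, nat_lit 19, nat_lit 55, nat_lit 35, nat_lit 20, nat_lit 34, nat_lit 30], (nat_lit 253)⟩, ⟨[nat_lit 229, nat_lit 245, nat_lit 239, nat_lit 231], [nat_lit 57, nat_lit 63, nat_lit 27, nat_lit 18, nat_lit 41, nat_lit 38, nat_lit 34, nat_lit 24], (nat_lit 268)⟩],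
  .ss (nat_lit 5) [] [nat_lit 258, nat_lit 263, nat_lit 259, nat_lit 265, nat_lit 270],
  .ss (nat_lit 5) [(nat_lit 271)] [],
  .ss (nat_lit 5) [] [nat_lit 259, nat_lit 265, nat_lit 260, nat_lit 272, nat_lit 263, nat_lit 258, nat_lit 260, nat_lit 272, nat_lit 263, nat_lit 260, nat_lit 267, nat_lit 261],
  .ss (nat_lit 5) [(nat_lit 273)] [],
  .ss (nat_lit 5) [] [nat_lit 267, nat_lit 274, nat_lit 267, nat_lit 261, nat_lit 273, nat_lit 258, nat_lit 264, nat_lit 272, nat_lit 262, nat_lit 273, nat_lit 266, nat_lit 261, nat_lit 271, nat_lit 264, nat_lit 272, nat_lit 259, nat_lit 260],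
  .cy (nat_lit 1) [] [] [nat_lit 79, nat_lit 4, nat_lit 3, nat_lit 50, nat_lit 55, nat_lit 38, nat_lit 35, nat_lit 34, nat_lit 24] (nat_lit 257) [⟨[nat_lit 216, nat_lit 210, nat_lit 216, nat_lit 216, nat_lit 210, nat_lit 206], [nat_lit 80, nat_lit 63, nat_lit 3, nat_lit 15, nat_lit 4, nat_lit 2, nat_lit 36, nat_lit 40, nat_lit 20, nat_lit 30], (nat_lit 243)⟩, ⟨[nat_lit 239, nat_lit 231, nat_lit 245], [nat_lit 80, nat_lit 22, nat_lit 3, nat_lit 56, nat_lit 18, nat_lit 15, nat_lit 37, nat_lit 40, nat_lit 24, nat_lit 29], (nat_lit 268)⟩],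
  .cy (nat_lit 1) [] [] [nat_lit 67, nat_lit 59, nat_lit 57, nat_lit 19, nat_lit 8, nat_lit 28, nat_lit 48, nat_lit 27, nat_lit 24, nat_lit 33, nat_lit 24] (nat_lit 243) [⟨[nat_lit 242, nat_lit 229, nat_lit 249, nat_lit 231], [nat_lit 81, nat_lit 73, nat_lit 18, nat_lit 18, nat_lit 30, nat_lit 22, nat_lit 33, nat_lit 24], (nat_lit 254)⟩, ⟨[nat_lit 241, nat_lit 245, nat_lit 239], [nat_lit 77, nat_lit 18, nat_lit 3, nat_lit 29, nat_lit 4, nat_lit 2, nat_lit 35, nat_lit 28, nat_lit 33, nat_lit 33, nat_lit 33], (nat_lit 268)⟩],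
  .cy (nat_lit 0) [] [] [] (nat_lit 277) [],
  .cy (nat_lit 1) [] [] [nat_lit 62, nat_lit 15, nat_lit 57, nat_lit 18, nat_lit 4, nat_lit 2, nat_lit 20, nat_lit 39, nat_lit 33, nat_lit 24, nat_lit 29] (nat_lit 269) [⟨[nat_lit 232, nat_lit 232, nat_lit 239, nat_lit 229], [nat_lit 80, nat_lit 69, nat_lit 1, nat_lit 19, nat_lit 19, nat_lit 29, nat_lit 35, nat_lit 34, nat_lit 24], (nat_lit 268)⟩, ⟨[nat_lit 258, nat_lit 264, nat_lit 259, nat_lit 270, nat_lit 258], [nat_lit 6, nat_lit 19, nat_lit 62, nat_lit 29, nat_lit 18, nat_lit 18, nat_lit 41, nat_lit 38, nat_lit 24, nat_lit 29], (nat_lit 276)⟩]]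
noncomputable def P296 : List Pf := [.ss (nat_lit 0) [] [nat_lit 137, nat_lit 89, nat_lit 136],
  .ss (nat_lit 1) [] [nat_lit 154, nat_lit 144, nat_lit 167, nat_lit 140, nat_lit 171, nat_lit 169, nat_lit 147, nat_lit 154],
  .ss (nat_lit 1) [] [nat_lit 170, nat_lit 151, nat_lit 168, nat_lit 155, nat_lit 147, nat_lit 152, nat_lit 171, nat_lit 153],
  .ss (nat_lit 1) [] [nat_lit 169, nat_lit 142, nat_lit 154, nat_lit 140, nat_lit 155, nat_lit 147, nat_lit 171, nat_lit 152, nat_lit 153],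
  .ss (nat_lit 2) [] [nat_lit 199, nat_lit 191, nat_lit 191, nat_lit 191, nat_lit 199, nat_lit 196, nat_lit 199, nat_lit 193],
  .ss (nat_lit 2) [] [nat_lit 192, nat_lit 199, nat_lit 196, nat_lit 175, nat_lit 194, nat_lit 194, nat_lit 196, nat_lit 196, nat_lit 193, nat_lit 197, nat_lit 199, nat_lit 197],
  .ss (nat_lit 2) [] [nat_lit 199, nat_lit 194, nat_lit 177, nat_lit 191, nat_lit 193, nat_lit 193, nat_lit 193, nat_lit 193, nat_lit 197, nat_lit 199, nat_lit 197],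
  .ss (nat_lit 3) [] [nat_lit 216, nat_lit 207, nat_lit 210, nat_lit 219, nat_lit 212, nat_lit 218],
  .ss (nat_lit 3) [] [nat_lit 217, nat_lit 206, nat_lit 219, nat_lit 212, nat_lit 220, nat_lit 218],
  .ss (nat_lit 3) [] [nat_lit 210, nat_lit 208, nat_lit 219, nat_lit 218, nat_lit 220, nat_lit 212],
  .ss (nat_lit 4) [] [nat_lit 231, nat_lit 233, nat_lit 242, nat_lit 242, nat_lit 233, nat_lit 248, nat_lit 247, nat_lit 248],
  .ss (nat_lit 4) [] [nat_lit 232, nat_lit 241, nat_lit 248, nat_lit 232, nat_lit 229, nat_lit 246, nat_lit 248, nat_lit 247, nat_lit 248],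
  .ss (nat_lit 4) [] [nat_lit 232, nat_lit 229],
  .ss (nat_lit 5) [] [nat_lit 273, nat_lit 258, nat_lit 271, nat_lit 262, nat_lit 273, nat_lit 275, nat_lit 274, nat_lit 274, nat_lit 275],
  .ss (nat_lit 5) [] [nat_lit 275, nat_lit 259, nat_lit 264, nat_lit 262, nat_lit 274, nat_lit 275, nat_lit 271],
  .ss (nat_lit 5) [] [nat_lit 271, nat_lit 262, nat_lit 274, nat_lit 258, nat_lit 274, nat_lit 275, nat_lit 273, nat_lit 267]]
noncomputable def PL : List ℕ := [nat_lit 0, nat_lit 1, nat_lit 2, nat_lit 3, nat_lit 4, nat_lit 5]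
noncomputable def aL : List (List ℕ) := [[nat_lit 364, nat_lit 12636, nat_lit 1080, nat_lit 0, nat_lit 0, nat_lit 0],
  [nat_lit 10, nat_lit 2100, nat_lit 0, nat_lit 9450, nat_lit 2520, nat_lit 0],
  [nat_lit 1, nat_lit 0, nat_lit 1092, nat_lit 3159, nat_lit 9828, nat_lit 0],
  [nat_lit 0, nat_lit 420, nat_lit 120, nat_lit 6476, nat_lit 6720, nat_lit 344],
  [nat_lit 0, nat_lit 66, nat_lit 220, nat_lit 3960, nat_lit 8844, nat_lit 990],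
  [nat_lit 0, nat_lit 0, nat_lit 0, nat_lit 1892, nat_lit 9240, nat_lit 2948]]
noncomputable def V : List (List ℕ) := [[],
  [],
  [],
  [],
  [],
  []]
noncomputable def S0 : List (ℕ × List ℕ) := [((nat_lit 83), [nat_lit 0]), ((nat_lit 85), [nat_lit 1]), ((nat_lit 87), [nat_lit 2]), ((nat_lit 89), [nat_lit 3]), ((nat_lit 95), [nat_lit 4]), ((nat_lit 280), [nat_lit 5]), ((nat_lit 124), [nat_lit 7]), ((nat_lit 130), [nat_lit 8])]
noncomputable def S1 : List (ℕ × List ℕ) := [((nat_lit 281), [nat_lit 3, nat_lit 7, nat_lit 2, nat_lit 3, nat_lit 0, nat_lit 1, nat_lit 8, nat_lit 7, nat_lit 4, nat_lit 3, nat_lit 1, nat_lit 0, nat_lit 2, nat_lit 7, nat_lit 3, nat_lit 5, nat_lit 6, nat_lit 5, nat_lit 4, nat_lit 3, nat_lit 5, nat_lit 6, nat_lit 7, nat_lit 4, nat_lit 3, nat_lit 7, nat_lit 5, nat_lit 2, nat_lit 3, nat_lit 4, nat_lit 5, nat_lit 1, nat_lit 3, nat_lit 6, nat_lit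 7, nat_lit 8, nat_lit 7, nat_lit 4, nat_lit 3, nat_lit 7, nat_lit 4, nat_lit 3, nat_lit 7, nat_lit 3, nat_lit 0, nat_lit 1, nat_lit 5, nat_lit 6]), ((nat_lit 282), [nat_lit 1, nat_lit 5, nat_lit 0, nat_lit 3, nat_lit 7, nat_lit 2, nat_lit 3, nat_lit 4, nat_lit 3, nat_lit 7, nat_lit 5, nat_lit 2, nat_lit 4, nat_lit 3, nat_lit 4, nat_lit 7, nat_lit 8, nat_lit 3, nat_lit 5, nat_lit 6, nat_lit 7, nat_lit 2, nat_lit 3, nat_lit 1, nat_lit 2, nat_lit 6, nat_lit 1, nat_lit 2, nat_lit 7, nat_lit 3, nat_lit 4, nat_lit 5, nat_lit 1, nat_lit 3, nat_lit 7, nat_lit 8, nat_lit 3, nat_lit 6, nat_lit 7, nat_lit 4, nat_lit 3, nat_lit 7, nat_lit 8, nat_lit 4, nat_lit 2, nat_lit 0, nat_lit 3, nat_lit 2, nat_lit 5, nat_lit 4, nat_lit 3, nat_lit 1, nat_lit 5, nat_lit 4]), ((nat_lit 283), [nat_lit 0, nat_lit 8, nat_lit 4, nat_lit 2, nat_lit 8, nat_lit 3, nat_lit 5, nat_lit 4, nat_lit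 7, nat_lit 5, nat_lit 6, nat_lit 3, nat_lit 7, nat_lit 4, nat_lit 5, nat_lit 3, nat_lit 2, nat_lit 3, nat_lit 7, nat_lit 6, nat_lit 8, nat_lit 4, nat_lit 3, nat_lit 5, nat_lit 6, nat_lit 5, nat_lit 4, nat_lit 2, nat_lit 3, nat_lit 1, nat_lit 0, nat_lit 7])]
noncomputable def S2 : List (ℕ × List ℕ) := [((nat_lit 284), [nat_lit 8, nat_lit 5, nat_lit 2, nat_lit 1, nat_lit 2, nat_lit 4, nat_lit 3, nat_lit 4, nat_lit 7, nat_lit 8, nat_lit 3, nat_lit 5, nat_lit 6, nat_lit 7, nat_lit 2, nat_lit 3, nat_lit 1, nat_lit 5, nat_lit 4, nat_lit 7, nat_lit 3, nat_lit 2, nat_lit 1, nat_lit 3, nat_lit 4, nat_lit 5, nat_lit 3, nat_lit 4, nat_lit 5, nat_lit 0, nat_lit 7, nat_lit 3, nat_lit 2, nat_lit 8, nat_lit 0, nat_lit 7, nat_lit 3, nat_lit 4, nat_lit 1, nat_lit 0, nat_lit 3, nat_lit 5, nat_lit 4, nat_lit 7, nat_lit 0, nat_lit 1, nat_lit 2, nat_lit 3, nat_lit 8, nat_lit 7,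 nat_lit 4, nat_lit 3, nat_lit 1, nat_lit 2, nat_lit 3, nat_lit 5, nat_lit 1, nat_lit 0, nat_lit 4, nat_lit 2, nat_lit 3, nat_lit 1, nat_lit 6, nat_lit 4, nat_lit 5, nat_lit 8, nat_lit 4, nat_lit 1, nat_lit 0, nat_lit 6, nat_lit 7, nat_lit 8]), ((nat_lit 285), [nat_lit 0, nat_lit 6, nat_lit 7, nat_lit 3, nat_lit 2, nat_lit 3, nat_lit 5, nat_lit 4, nat_lit 7, nat_lit 3, nat_lit 6, nat_lit 5, nat_lit 7, nat_lit 4, nat_lit 5, nat_lit 3, nat_lit 8, nat_lit 2, nat_lit 0, nat_lit 1, nat_lit 2, nat_lit 4, nat_lit 5, nat_lit 6, nat_lit 3, nat_lit 2, nat_lit 1, nat_lit 2, nat_lit 4, nat_lit 1, nat_lit 2, nat_lit 5, nat_lit 7, nat_lit 3, nat_lit 8, nat_lit 7, nat_lit 0, nat_lit 3, nat_lit 5, nat_lit 6, nat_lit 5, nat_lit 4, nat_lit 3, nat_lit 2, nat_lit 4, nat_lit 5, nat_lit 0, nat_lit 1, nat_lit 6, nat_lit 2, nat_lit 3, nat_lit 2]), ((nat_lit 286), [nat_lit 7, nat_lit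 6, nat_lit 8, nat_lit 6, nat_lit 7, nat_lit 3, nat_lit 2, nat_lit 3, nat_lit 5, nat_lit 4, nat_lit 7, nat_lit 3, nat_lit 6, nat_lit 5, nat_lit 7, nat_lit 4, nat_lit 5, nat_lit 3, nat_lit 8, nat_lit 2, nat_lit 1, nat_lit 5, nat_lit 4, nat_lit 7, nat_lit 3, nat_lit 2, nat_lit 1, nat_lit 3, nat_lit 4, nat_lit 5, nat_lit 7, nat_lit 3, nat_lit 5, nat_lit 6, nat_lit 5, nat_lit 4, nat_lit 2, nat_lit 3, nat_lit 7, nat_lit 3, nat_lit 4, nat_lit 3, nat_lit 2, nat_lit 5, nat_lit 6, nat_lit 3, nat_lit 7, nat_lit 0, nat_lit 5, nat_lit 4, nat_lit 7, nat_lit 8, nat_lit 0, nat_lit 3, nat_lit 7, nat_lit 8, nat_lit 2, nat_lit 4, nat_lit 3, nat_lit 4, nat_lit 7, nat_lit 8, nat_lit 3, nat_lit 5, nat_lit 6, nat_lit 7, nat_lit 2, nat_lit 3, nat_lit 6, nat_lit 7, nat_lit 3, nat_lit 8])]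
noncomputable def S3 : List (ℕ × List ℕ) := [((nat_lit 287), [nat_lit 7, nat_lit 3, nat_lit 7, nat_lit 2, nat_lit 3, nat_lit 0, nat_lit 1, nat_lit 8, nat_lit 7, nat_lit 4, nat_lit 3, nat_lit 8, nat_lit 2, nat_lit 5, nat_lit 4, nat_lit 3, nat_lit 7, nat_lit 6, nat_lit 5, nat_lit 3, nat_lit 7, nat_lit 3, nat_lit 0, nat_lit 1, nat_lit 6, nat_lit 7, nat_lit 8, nat_lit 3, nat_lit 4, nat_lit 5, nat_lit 7, nat_lit 3, nat_lit 7, nat_lit 2, nat_lit 3, nat_lit 4, nat_lit 5, nat_lit 2, nat_lit 1, nat_lit 7, nat_lit 2, nat_lit 1, nat_lit 0, nat_lit 4, nat_lit 3, nat_lit 2, nat_lit 1, nat_lit 7, nat_lit 4, nat_lit 5, nat_lit 6, nat_lit 5, nat_lit 8, nat_lit 6, nat_lit 7, nat_lit 3, nat_lit 2, nat_lit 3, nat_lit 5, nat_lit 4, nat_lit 7, nat_lit 3, nat_lit 6, nat_lit 5, nat_lit 7, nat_lit 4, nat_lit 5, nat_lit 3, nat_lit 8, nat_lit 2, nat_lit 4, nat_lit 8, nat_lit 5, nat_lit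 4, nat_lit 6, nat_lit 1, nat_lit 3, nat_lit 2, nat_lit 4, nat_lit 0, nat_lit 1, nat_lit 5, nat_lit 3, nat_lit 2, nat_lit 1, nat_lit 0, nat_lit 6, nat_lit 7, nat_lit 5, nat_lit 3, nat_lit 4, nat_lit 2, nat_lit 3, nat_lit 7, nat_lit 1, nat_lit 3, nat_lit 6, nat_lit 7, nat_lit 0, nat_lit 3, nat_lit 2, nat_lit 7, nat_lit 5, nat_lit 4, nat_lit 3, nat_lit 7, nat_lit 1, nat_lit 2, nat_lit 4, nat_lit 8, nat_lit 5, nat_lit 4, nat_lit 3, nat_lit 2, nat_lit 3, nat_lit 0, nat_lit 1, nat_lit 2, nat_lit 3, nat_lit 4, nat_lit 5, nat_lit 0, nat_lit 4, nat_lit 1, nat_lit 3, nat_lit 2, nat_lit 7, nat_lit 3]), ((nat_lit 288), [nat_lit 2, nat_lit 1, nat_lit 4, nat_lit 5, nat_lit 4, nat_lit 3, nat_lit 2, nat_lit 5, nat_lit 7, nat_lit 3, nat_lit 4, nat_lit 7, nat_lit 6, nat_lit 5, nat_lit 3, nat_lit 4, nat_lit 5, nat_lit 6, nat_lit 5, nat_lit 3, nat_lit 7, nat_lit 2, nat_lit 0, nat_lit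 1, nat_lit 3, nat_lit 4, nat_lit 7, nat_lit 8, nat_lit 1, nat_lit 0, nat_lit 3, nat_lit 2, nat_lit 7, nat_lit 3, nat_lit 0, nat_lit 3, nat_lit 7, nat_lit 8, nat_lit 1, nat_lit 5, nat_lit 4, nat_lit 2, nat_lit 3, nat_lit 7, nat_lit 4, nat_lit 3, nat_lit 0, nat_lit 3, nat_lit 2, nat_lit 5, nat_lit 4, nat_lit 3, nat_lit 1, nat_lit 0, nat_lit 3, nat_lit 2, nat_lit 4, nat_lit 6, nat_lit 3, nat_lit 0, nat_lit 1, nat_lit 5, nat_lit 4, nat_lit 7, nat_lit 3, nat_lit 2, nat_lit 1, nat_lit 3, nat_lit 4, nat_lit 5, nat_lit 3, nat_lit 4, nat_lit 5, nat_lit 4]), ((nat_lit 289), [nat_lit 6, nat_lit 2, nat_lit 4, nat_lit 3, nat_lit 4, nat_lit 7, nat_lit 8, nat_lit 3, nat_lit 5, nat_lit 6, nat_lit 7, nat_lit 2, nat_lit 3, nat_lit 2, nat_lit 8, nat_lit 3, nat_lit 5, nat_lit 4, nat_lit 7, nat_lit 5, nat_lit 6, nat_lit 3, nat_lit 7, nat_lit 4, nat_lit 5, nat_lit 3, nat_lit 2, nat_lit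 3, nat_lit 7, nat_lit 6, nat_lit 8, nat_lit 3, nat_lit 4, nat_lit 5, nat_lit 1, nat_lit 3, nat_lit 6, nat_lit 5, nat_lit 2, nat_lit 7, nat_lit 2, nat_lit 3, nat_lit 0, nat_lit 1, nat_lit 8, nat_lit 7, nat_lit 4, nat_lit 3, nat_lit 8, nat_lit 2, nat_lit 0, nat_lit 7, nat_lit 1, nat_lit 3, nat_lit 2, nat_lit 4, nat_lit 3, nat_lit 2, nat_lit 3, nat_lit 7, nat_lit 3, nat_lit 5, nat_lit 4, nat_lit 6, nat_lit 5, nat_lit 3, nat_lit 7, nat_lit 3, nat_lit 8, nat_lit 1, nat_lit 3, nat_lit 2, nat_lit 1, nat_lit 7, nat_lit 3, nat_lit 4, nat_lit 5, nat_lit 8, nat_lit 7, nat_lit 2, nat_lit 3, nat_lit 0, nat_lit 1, nat_lit 6, nat_lit 4, nat_lit 8, nat_lit 5, nat_lit 6, nat_lit 7, nat_lit 8, nat_lit 1, nat_lit 0, nat_lit 5, nat_lit 4, nat_lit 7, nat_lit 6, nat_lit 3])]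
noncomputable def S4 : List (ℕ × List ℕ) := [((nat_lit 290), [nat_lit 0, nat_lit 5, nat_lit 6, nat_lit 5, nat_lit 4, nat_lit 7, nat_lit 1, nat_lit 2, nat_lit 3, nat_lit 4, nat_lit 0, nat_lit 1, nat_lit 2, nat_lit 7, nat_lit 1, nat_lit 2, nat_lit 5, nat_lit 4, nat_lit 3, nat_lit 2, nat_lit 7, nat_lit 3, nat_lit 7, nat_lit 5, nat_lit 4, nat_lit 3, nat_lit 8, nat_lit 7, nat_lit 6, nat_lit 1, nat_lit 0, nat_lit 3, nat_lit 7, nat_lit 3, nat_lit 5, nat_lit 6, nat_lit 7, nat_lit 3, nat_lit 4, nat_lit 5, nat_lit 2, nat_lit 8, nat_lit 3, nat_lit 4, nat_lit 7, nat_lit 8, nat_lit 1, nat_lit 0, nat_lit 3, nat_lit 2, nat_lit 7, nat_lit 3, nat_lit 0, nat_lit 1, nat_lit 3, nat_lit 4, nat_lit 8, nat_lit 5, nat_lit 2, nat_lit 3, nat_lit 0, nat_lit 2, nat_lit 4, nat_lit 3, nat_lit 4, nat_lit 7, nat_lit 8, nat_lit 3, nat_lit 5, nat_lit 6, nat_lit 7, nat_lit 2, nat_lit 3, nat_lit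 0, nat_lit 1, nat_lit 2, nat_lit 4, nat_lit 5, nat_lit 6, nat_lit 3, nat_lit 2, nat_lit 1, nat_lit 7, nat_lit 8, nat_lit 3, nat_lit 7, nat_lit 5, nat_lit 2, nat_lit 1, nat_lit 0, nat_lit 4, nat_lit 2, nat_lit 3, nat_lit 7, nat_lit 8, nat_lit 7, nat_lit 5, nat_lit 2, nat_lit 5, nat_lit 4, nat_lit 7, nat_lit 8, nat_lit 3, nat_lit 4, nat_lit 1, nat_lit 0, nat_lit 2, nat_lit 7, nat_lit 3, nat_lit 7, nat_lit 8, nat_lit 5, nat_lit 4, nat_lit 7, nat_lit 3, nat_lit 2, nat_lit 8, nat_lit 4, nat_lit 5, nat_lit 1, nat_lit 0, nat_lit 4, nat_lit 3, nat_lit 7, nat_lit 3, nat_lit 8, nat_lit 2, nat_lit 3, nat_lit 7, nat_lit 0, nat_lit 5, nat_lit 7, nat_lit 3, nat_lit 2, nat_lit 1, nat_lit 2, nat_lit 7]), ((nat_lit 291), [nat_lit 3, nat_lit 8, nat_lit 2, nat_lit 5, nat_lit 3, nat_lit 2, nat_lit 7, nat_lit 6, nat_lit 5, nat_lit 3, nat_lit 8, nat_lit 7, nat_lit 4, nat_lit 3, nat_lit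 4, nat_lit 2, nat_lit 3, nat_lit 2, nat_lit 1, nat_lit 7, nat_lit 3, nat_lit 4, nat_lit 5, nat_lit 4, nat_lit 3, nat_lit 7, nat_lit 6, nat_lit 2, nat_lit 3, nat_lit 7, nat_lit 5, nat_lit 4, nat_lit 3, nat_lit 0, nat_lit 1, nat_lit 2, nat_lit 3, nat_lit 4, nat_lit 5, nat_lit 1, nat_lit 0, nat_lit 7, nat_lit 3, nat_lit 2, nat_lit 6, nat_lit 7, nat_lit 3, nat_lit 4, nat_lit 5, nat_lit 4, nat_lit 3, nat_lit 7, nat_lit 1, nat_lit 2, nat_lit 6, nat_lit 1, nat_lit 7, nat_lit 8, nat_lit 3, nat_lit 4, nat_lit 7, nat_lit 3, nat_lit 2, nat_lit 7, nat_lit 0, nat_lit 1, nat_lit 5, nat_lit 6, nat_lit 2, nat_lit 3, nat_lit 2, nat_lit 1, nat_lit 4, nat_lit 8, nat_lit 3, nat_lit 4, nat_lit 6, nat_lit 3, nat_lit 1, nat_lit 0, nat_lit 5, nat_lit 4, nat_lit 3, nat_lit 1, nat_lit 7, nat_lit 3, nat_lit 2, nat_lit 4, nat_lit 3, nat_lit 5, nat_lit 7, nat_lit 6, nat_lit 0, nat_lit 8,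 nat_lit 0, nat_lit 5, nat_lit 4, nat_lit 3, nat_lit 4, nat_lit 5, nat_lit 6, nat_lit 1, nat_lit 2, nat_lit 4, nat_lit 3, nat_lit 4, nat_lit 7, nat_lit 8, nat_lit 3, nat_lit 5, nat_lit 6, nat_lit 7, nat_lit 2, nat_lit 3, nat_lit 0, nat_lit 1, nat_lit 2, nat_lit 3, nat_lit 1, nat_lit 0, nat_lit 2, nat_lit 3, nat_lit 4, nat_lit 5, nat_lit 3, nat_lit 2, nat_lit 4, nat_lit 3, nat_lit 4, nat_lit 7, nat_lit 3, nat_lit 1, nat_lit 7, nat_lit 8, nat_lit 7, nat_lit 2, nat_lit 3, nat_lit 7, nat_lit 3, nat_lit 4, nat_lit 1, nat_lit 0, nat_lit 2]), ((nat_lit 292), [nat_lit 0, nat_lit 5, nat_lit 4, nat_lit 0, nat_lit 6, nat_lit 5, nat_lit 4, nat_lit 6, nat_lit 7, nat_lit 3, nat_lit 2, nat_lit 0, nat_lit 5, nat_lit 4, nat_lit 1, nat_lit 3, nat_lit 7, nat_lit 8, nat_lit 6, nat_lit 3, nat_lit 4, nat_lit 7, nat_lit 3, nat_lit 5, nat_lit 6, nat_lit 1, nat_lit 0, nat_lit 5, nat_lit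 4, nat_lit 3, nat_lit 2, nat_lit 5, nat_lit 7, nat_lit 3, nat_lit 4, nat_lit 5, nat_lit 6, nat_lit 7, nat_lit 1, nat_lit 7, nat_lit 8, nat_lit 2, nat_lit 4, nat_lit 3, nat_lit 4, nat_lit 7, nat_lit 8, nat_lit 3, nat_lit 5, nat_lit 6, nat_lit 7, nat_lit 2, nat_lit 3, nat_lit 7, nat_lit 3, nat_lit 1, nat_lit 0, nat_lit 7, nat_lit 8, nat_lit 7, nat_lit 8, nat_lit 4, nat_lit 3, nat_lit 0, nat_lit 7, nat_lit 6, nat_lit 2, nat_lit 3, nat_lit 2, nat_lit 4, nat_lit 5, nat_lit 6, nat_lit 5, nat_lit 7, nat_lit 1, nat_lit 3, nat_lit 2, nat_lit 5, nat_lit 6, nat_lit 1, nat_lit 3, nat_lit 7, nat_lit 4, nat_lit 2, nat_lit 3, nat_lit 7, nat_lit 4, nat_lit 2, nat_lit 1, nat_lit 2, nat_lit 3, nat_lit 6, nat_lit 5, nat_lit 4, nat_lit 2, nat_lit 1, nat_lit 3, nat_lit 5, nat_lit 6, nat_lit 7, nat_lit 2, nat_lit 3])]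
noncomputable def S5 : List (ℕ × List ℕ) := [((nat_lit 293), [nat_lit 5, nat_lit 6, nat_lit 5, nat_lit 4, nat_lit 7, nat_lit 1, nat_lit 2, nat_lit 3, nat_lit 4, nat_lit 0, nat_lit 1, nat_lit 2, nat_lit 7, nat_lit 0, nat_lit 3, nat_lit 5, nat_lit 7, nat_lit 4, nat_lit 3, nat_lit 7, nat_lit 6, nat_lit 1, nat_lit 2, nat_lit 0, nat_lit 1, nat_lit 0, nat_lit 1, nat_lit 2, nat_lit 3, nat_lit 6, nat_lit 5, nat_lit 4, nat_lit 2, nat_lit 1, nat_lit 0, nat_lit 1, nat_lit 2, nat_lit 3, nat_lit 2, nat_lit 6, nat_lit 5, nat_lit 1, nat_lit 0, nat_lit 6, nat_lit 3, nat_lit 1, nat_lit 0, nat_lit 3, nat_lit 2, nat_lit 7, nat_lit 6, nat_lit 5, nat_lit 3, nat_lit 8, nat_lit 7, nat_lit 4, nat_lit 3, nat_lit 4, nat_lit 2, nat_lit 5, nat_lit 4, nat_lit 7, nat_lit 8, nat_lit 0, nat_lit 3, nat_lit 7, nat_lit 8, nat_lit 4, nat_lit 5, nat_lit 6, nat_lit 0, nat_lit 7, nat_lit 5, nat_lit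 4, nat_lit 3, nat_lit 1, nat_lit 2, nat_lit 3, nat_lit 7, nat_lit 4, nat_lit 5, nat_lit 2, nat_lit 3, nat_lit 6, nat_lit 5, nat_lit 4, nat_lit 2, nat_lit 1, nat_lit 0, nat_lit 2, nat_lit 8, nat_lit 1, nat_lit 6, nat_lit 5, nat_lit 4, nat_lit 3, nat_lit 4, nat_lit 5, nat_lit 0, nat_lit 2, nat_lit 3, nat_lit 4, nat_lit 5, nat_lit 1, nat_lit 7, nat_lit 3, nat_lit 4, nat_lit 2, nat_lit 3, nat_lit 7, nat_lit 5, nat_lit 4, nat_lit 3, nat_lit 7, nat_lit 8, nat_lit 4, nat_lit 0, nat_lit 3, nat_lit 6, nat_lit 1, nat_lit 2, nat_lit 7, nat_lit 5, nat_lit 4, nat_lit 5]), ((nat_lit 294), [nat_lit 3, nat_lit 2, nat_lit 7, nat_lit 6, nat_lit 5, nat_lit 3, nat_lit 8, nat_lit 7, nat_lit 4, nat_lit 3, nat_lit 4, nat_lit 2, nat_lit 1, nat_lit 5, nat_lit 4, nat_lit 7, nat_lit 3, nat_lit 2, nat_lit 1, nat_lit 3, nat_lit 4, nat_lit 5, nat_lit 7, nat_lit 0, nat_lit 6, nat_lit 7, nat_lit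 8, nat_lit 1, nat_lit 2, nat_lit 5, nat_lit 4, nat_lit 3, nat_lit 7, nat_lit 3, nat_lit 8, nat_lit 1, nat_lit 0, nat_lit 5, nat_lit 4, nat_lit 6, nat_lit 5, nat_lit 0, nat_lit 7, nat_lit 3, nat_lit 2, nat_lit 1, nat_lit 4, nat_lit 3, nat_lit 7, nat_lit 3, nat_lit 2, nat_lit 0, nat_lit 1, nat_lit 7, nat_lit 0, nat_lit 6, nat_lit 5, nat_lit 4, nat_lit 0, nat_lit 3, nat_lit 7, nat_lit 8, nat_lit 1, nat_lit 2, nat_lit 5, nat_lit 6, nat_lit 1, nat_lit 3, nat_lit 4, nat_lit 3, nat_lit 2, nat_lit 7, nat_lit 8, nat_lit 6, nat_lit 7, nat_lit 1, nat_lit 0, nat_lit 3, nat_lit 2, nat_lit 1, nat_lit 0, nat_lit 4, nat_lit 3, nat_lit 2, nat_lit 1, nat_lit 0, nat_lit 1, nat_lit 5, nat_lit 6, nat_lit 2, nat_lit 3, nat_lit 2, nat_lit 1, nat_lit 0, nat_lit 1, nat_lit 5, nat_lit 4, nat_lit 3, nat_lit 2, nat_lit 1, nat_lit 0, nat_lit 3, nat_lit 4, nat_lit 5, nat_lit 7, nat_lit 2,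 nat_lit 1, nat_lit 0, nat_lit 4, nat_lit 3, nat_lit 2, nat_lit 1, nat_lit 4, nat_lit 3, nat_lit 7, nat_lit 1, nat_lit 5, nat_lit 6, nat_lit 5, nat_lit 4, nat_lit 3, nat_lit 2, nat_lit 5, nat_lit 4, nat_lit 6, nat_lit 7, nat_lit 5]), ((nat_lit 295), [nat_lit 8, nat_lit 2, nat_lit 8, nat_lit 3, nat_lit 2, nat_lit 8, nat_lit 3, nat_lit 5, nat_lit 4, nat_lit 7, nat_lit 5, nat_lit 6, nat_lit 3, nat_lit 7, nat_lit 4, nat_lit 5, nat_lit 3, nat_lit 2, nat_lit 3, nat_lit 7, nat_lit 6, nat_lit 8, nat_lit 4, nat_lit 3, nat_lit 7, nat_lit 6, nat_lit 8, nat_lit 7, nat_lit 5, nat_lit 7, nat_lit 2, nat_lit 3, nat_lit 7, nat_lit 4, nat_lit 3, nat_lit 1, nat_lit 2, nat_lit 5, nat_lit 6, nat_lit 7, nat_lit 3, nat_lit 8, nat_lit 7, nat_lit 8, nat_lit 5, nat_lit 4, nat_lit 3, nat_lit 0, nat_lit 1, nat_lit 5, nat_lit 4, nat_lit 7, nat_lit 3, nat_lit 0, nat_lit 6, nat_lit 5, nat_lit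 1, nat_lit 7, nat_lit 8, nat_lit 3, nat_lit 2, nat_lit 1, nat_lit 0, nat_lit 1, nat_lit 3, nat_lit 7, nat_lit 4, nat_lit 5, nat_lit 6, nat_lit 0, nat_lit 3, nat_lit 4, nat_lit 5, nat_lit 3, nat_lit 0, nat_lit 1, nat_lit 2, nat_lit 5, nat_lit 4, nat_lit 3, nat_lit 1, nat_lit 0, nat_lit 7, nat_lit 6, nat_lit 4, nat_lit 7, nat_lit 3, nat_lit 1, nat_lit 2, nat_lit 7, nat_lit 6, nat_lit 7, nat_lit 3, nat_lit 1, nat_lit 5, nat_lit 4, nat_lit 6])]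
noncomputable def KG : List (ℕ × List ℕ) := [((nat_lit 1), [nat_lit 1]), ((nat_lit 2), [nat_lit 2]), ((nat_lit 3), [nat_lit 3]), ((nat_lit 4), [nat_lit 4]), ((nat_lit 5), [nat_lit 5]), ((nat_lit 6), [nat_lit 6]), ((nat_lit 7), [nat_lit 7]), ((nat_lit 8), [nat_lit 8])]

theorem rtc : allZ (c.ruleEnt Ds) 0 c.R.length = true := by decide +kernel
theorem v170c : Nat.add (c.chkL P170 (nat_lit 1)) (Nat.xor ((nat_lit 1) + List.length P170) (nat_lit 170)) = 0 := by decide +kernel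
theorem v234c : Nat.add (c.chkL P234 (nat_lit 170)) (Nat.xor ((nat_lit 170) + List.length P234) (nat_lit 234)) = 0 := by decide +kernel
theorem v280c : Nat.add (c.chkL P280 (nat_lit 234)) (Nat.xor ((nat_lit 234) + List.length P280) (nat_lit 280)) = 0 := by decide +kernel
theorem v296c : Nat.add (c.chkL P296 (nat_lit 280)) (Nat.xor ((nat_lit 280) + List.length P296) (nat_lit 296)) = 0 := by decide +kernel
theorem st0c : DH.sgU c (nat_lit 296) (nth [] V (nat_lit 0)) (nat_lit 0) S0 = 0 := by decide +kernel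
theorem se0 : S0.map Prod.snd = H15.YB.X1.Wp0 := by decide +kernel
theorem e0_0_0 : c.edges (SP X1.T H26.Y332.R0 (nat_lit 14)) (nat_lit 296) X1.T.n (nat_lit 0) (nat_lit 0)
  [((nat_lit 0), [], [], (nat_lit 0))] (nat_lit 0) (maskL [(nat_lit 0)]) = 0 := by decide +kernel
theorem u0_0_0 : (nat_lit 0) < X1.T.n ∧ ltAll c.K (nth [] V (nat_lit 0)) = 0 ∧ Nat.testBit H15.YB.X1.mp00_1 (apW (SP X1.T H26.Y332.R0 (nat_lit 14)) (nth [] V (nat_lit 0)) (nat_lit 0)) = true := by decide +kernel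
theorem e0_1_0 : c.edges (SP X1.T H26.Y332.R0 (nat_lit 14)) (nat_lit 296) X1.T.n (nat_lit 0) (nat_lit 1)
  [((nat_lit 138), [nat_lit 8, nat_lit 0, nat_lit 1, nat_lit 2, nat_lit 3, nat_lit 7, nat_lit 4, nat_lit 5, nat_lit 3, nat_lit 4, nat_lit 1, nat_lit 2, nat_lit 3, nat_lit 7, nat_lit 8, nat_lit 3, nat_lit 7, nat_lit 4, nat_lit 5, nat_lit 3, nat_lit 4, nat_lit 1, nat_lit 2, nat_lit 3, nat_lit 7, nat_lit 6, nat_lit 5, nat_lit 4, nat_lit 3, nat_lit 2, nat_lit 1, nat_lit 0], [], (nat_lit 2))] (nat_lit 0) (maskL [(nat_lit 2)]) = 0 := by decide +kernel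
theorem u0_1_0 : (nat_lit 2) < X1.T.n ∧ ltAll c.K (nth [] V (nat_lit 0)) = 0 ∧ Nat.testBit H15.YB.X1.mp02_1 (apW (SP X1.T H26.Y332.R0 (nat_lit 14)) (nth [] V (nat_lit 0)) (nat_lit 2)) = true := by decide +kernel
theorem e0_2_0 : c.edges (SP X1.T H26.Y332.R0 (nat_lit 14)) (nat_lit 296) X1.T.n (nat_lit 0) (nat_lit 2)
  [((nat_lit 173), [nat_lit 6, nat_lit 5, nat_lit 4, nat_lit 2, nat_lit 3, nat_lit 7, nat_lit 8, nat_lit 4, nat_lit 5, nat_lit 3, nat_lit 4, nat_lit 2, nat_lit 3, nat_lit 7, nat_lit 4, nat_lit 5, nat_lit 1, nat_lit 2, nat_lit 3, nat_lit 4, nat_lit 0, nat_lit 1, nat_lit 2, nat_lit 3, nat_lit 7, nat_lit 8, nat_lit 5, nat_lit 3, nat_lit 4, nat_lit 0, nat_lit 1, nat_lit 2, nat_lit 3, nat_lit 7, nat_lit 6, nat_lit 5, nat_lit 4, nat_lit 3, nat_lit 2, nat_lit 1, nat_lit 0], [], (nat_lit 1))] (nat_lit 0) (maskL [(nat_lit 1)]) = 0 := by decide +kernel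
theorem u0_2_0 : (nat_lit 1) < X1.T.n ∧ ltAll c.K (nth [] V (nat_lit 0)) = 0 ∧ Nat.testBit H15.YB.X1.mp01_1 (apW (SP X1.T H26.Y332.R0 (nat_lit 14)) (nth [] V (nat_lit 0)) (nat_lit 1)) = true := by decide +kernel
theorem pc0 : partChk X1.T.n (nat_lit 705) [(Nat.lor (nat_lit 0) H15.YB.X1.mp00_1), (Nat.lor (nat_lit 0) H15.YB.X1.mp02_1), (Nat.lor (nat_lit 0) H15.YB.X1.mp01_1), (nat_lit 0), (nat_lit 0), (nat_lit 0)] (nth [] aL (nat_lit 0)) = true ∧ nth 0 PL (nat_lit 0) = (nat_lit 0) := by decide +kernel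
theorem st1c : DH.sgU c (nat_lit 296) (nth [] V (nat_lit 1)) (nat_lit 1) S1 = 0 := by decide +kernel
theorem se1 : S1.map Prod.snd = H15.YB.X1.Wp1 := by decide +kernel
theorem e1_0_0 : c.edges (SP X1.T H26.Y332.R0 (nat_lit 14)) (nat_lit 296) X1.T.n (nat_lit 1) (nat_lit 0)
  [((nat_lit 139), [], [], (nat_lit 0))] (nat_lit 0) (maskL [(nat_lit 0)]) = 0 := by decide +kernel
theorem u1_0_0 : (nat_lit 0) < X1.T.n ∧ ltAll c.K (nth [] V (nat_lit 1)) = 0 ∧ Nat.testBit H15.YB.X1.mp10_1 (apW (SP X1.T H26.Y332.R0 (nat_lit 14)) (nth [] V (nat_lit 1)) (nat_lit 0)) = true := by decide +kernel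
theorem e1_1_0 : c.edges (SP X1.T H26.Y332.R0 (nat_lit 14)) (nat_lit 296) X1.T.n (nat_lit 1) (nat_lit 1)
  [((nat_lit 172), [nat_lit 5, nat_lit 4, nat_lit 2, nat_lit 3, nat_lit 7, nat_lit 8, nat_lit 7, nat_lit 3, nat_lit 4, nat_lit 2, nat_lit 3, nat_lit 7, nat_lit 5, nat_lit 4, nat_lit 3, nat_lit 2, nat_lit 1, nat_lit 0], [nat_lit 79, nat_lit 77, nat_lit 4, nat_lit 30, nat_lit 43, nat_lit 34, nat_lit 30], (nat_lit 10437))] (nat_lit 0) (maskL [(nat_lit 10437)]) = 0 := by decide +kernel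
theorem u1_1_0 : (nat_lit 10437) < X1.T.n ∧ ltAll c.K (nth [] V (nat_lit 1)) = 0 ∧ Nat.testBit H15.YB.X1.mp11_1 (apW (SP X1.T H26.Y332.R0 (nat_lit 14)) (nth [] V (nat_lit 1)) (nat_lit 10437)) = true := by decide +kernel
theorem e1_3_0 : c.edges (SP X1.T H26.Y332.R0 (nat_lit 14)) (nat_lit 296) X1.T.n (nat_lit 1) (nat_lit 3)
  [((nat_lit 204), [nat_lit 8, nat_lit 0, nat_lit 1, nat_lit 2, nat_lit 3, nat_lit 7, nat_lit 4, nat_lit 5, nat_lit 3, nat_lit 4, nat_lit 1, nat_lit 2, nat_lit 3, nat_lit 7, nat_lit 8, nat_lit 3, nat_lit 7, nat_lit 4, nat_lit 5, nat_lit 3, nat_lit 4, nat_lit 1, nat_lit 2, nat_lit 3, nat_lit 7, nat_lit 6, nat_lit 5, nat_lit 4, nat_lit 3, nat_lit 2, nat_lit 1, nat_lit 0], [], (nat_lit 2))] (nat_lit 0) (maskL [(nat_lit 2)]) = 0 := by decide +kernel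
theorem u1_3_0 : (nat_lit 2) < X1.T.n ∧ ltAll c.K (nth [] V (nat_lit 1)) = 0 ∧ Nat.testBit H15.YB.X1.mp13_1 (apW (SP X1.T H26.Y332.R0 (nat_lit 14)) (nth [] V (nat_lit 1)) (nat_lit 2)) = true := by decide +kernel
theorem e1_4_0 : c.edges (SP X1.T H26.Y332.R0 (nat_lit 14)) (nat_lit 296) X1.T.n (nat_lit 1) (nat_lit 4)
  [((nat_lit 227), [nat_lit 6, nat_lit 5, nat_lit 4, nat_lit 2, nat_lit 3, nat_lit 7, nat_lit 8, nat_lit 4, nat_lit 5, nat_lit 3, nat_lit 4, nat_lit 2, nat_lit 3, nat_lit 7, nat_lit 4, nat_lit 5, nat_lit 1, nat_lit 2, nat_lit 3, nat_lit 4, nat_lit 0, nat_lit 1, nat_lit 2, nat_lit 3, nat_lit 7, nat_lit 8, nat_lit 5, nat_lit 3, nat_lit 4, nat_lit 0, nat_lit 1, nat_lit 2, nat_lit 3, nat_lit 7, nat_lit 6, nat_lit 5, nat_lit 4, nat_lit 3, nat_lit 2, nat_lit 1, nat_lit 0], [], (nat_lit 1))] (nat_lit 0) (maskL [(nat_lit 1)]) = 0 := by decide +kernel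
theorem u1_4_0 : (nat_lit 1) < X1.T.n ∧ ltAll c.K (nth [] V (nat_lit 1)) = 0 ∧ Nat.testBit H15.YB.X1.mp12_1 (apW (SP X1.T H26.Y332.R0 (nat_lit 14)) (nth [] V (nat_lit 1)) (nat_lit 1)) = true := by decide +kernel
theorem pc1 : partChk X1.T.n (nat_lit 705) [(Nat.lor (nat_lit 0) H15.YB.X1.mp10_1), (Nat.lor (nat_lit 0) H15.YB.X1.mp11_1), (nat_lit 0), (Nat.lor (nat_lit 0) H15.YB.X1.mp13_1), (Nat.lor (nat_lit 0) H15.YB.X1.mp12_1), (nat_lit 0)] (nth [] aL (nat_lit 1)) = true ∧ nth 0 PL (nat_lit 1) = (nat_lit 1) := by decide +kernel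
theorem st2c : DH.sgU c (nat_lit 296) (nth [] V (nat_lit 2)) (nat_lit 2) S2 = 0 := by decide +kernel
theorem se2 : S2.map Prod.snd = H15.YB.X1.Wp2 := by decide +kernel
theorem e2_0_0 : c.edges (SP X1.T H26.Y332.R0 (nat_lit 14)) (nat_lit 296) X1.T.n (nat_lit 2) (nat_lit 0)
  [((nat_lit 174), [], [], (nat_lit 0))] (nat_lit 0) (maskL [(nat_lit 0)]) = 0 := by decide +kernel
theorem u2_0_0 : (nat_lit 0) < X1.T.n ∧ ltAll c.K (nth [] V (nat_lit 2)) = 0 ∧ Nat.testBit (maskL [(nat_lit 0)]) (apW (SP X1.T H26.Y332.R0 (nat_lit 14)) (nth [] V (nat_lit 2)) (nat_lit 0)) = true := by decide +kernel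
theorem e2_2_0 : c.edges (SP X1.T H26.Y332.R0 (nat_lit 14)) (nat_lit 296) X1.T.n (nat_lit 2) (nat_lit 2)
  [((nat_lit 252), [nat_lit 3, nat_lit 7, nat_lit 8, nat_lit 5, nat_lit 4, nat_lit 3, nat_lit 7, nat_lit 2, nat_lit 3, nat_lit 4, nat_lit 5, nat_lit 1, nat_lit 2, nat_lit 3, nat_lit 4, nat_lit 0, nat_lit 1, nat_lit 2, nat_lit 3, nat_lit 7, nat_lit 8, nat_lit 4, nat_lit 5, nat_lit 2, nat_lit 3, nat_lit 4, nat_lit 1, nat_lit 2, nat_lit 3, nat_lit 7, nat_lit 6, nat_lit 5, nat_lit 4, nat_lit 3, nat_lit 2, nat_lit 1, nat_lit 0], [nat_lit 19, nat_lit 82, nat_lit 3, nat_lit 24, nat_lit 18, nat_lit 18, nat_lit 48, nat_lit 40, nat_lit 20, nat_lit 34, nat_lit 30, nat_lit 24], (nat_lit 4007))] (nat_lit 0) (maskL [(nat_lit 4007)]) = 0 := by decide +kernel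
theorem u2_2_0 : (nat_lit 4007) < X1.T.n ∧ ltAll c.K (nth [] V (nat_lit 2)) = 0 ∧ Nat.testBit H15.YB.X1.mp21_1 (apW (SP X1.T H26.Y332.R0 (nat_lit 14)) (nth [] V (nat_lit 2)) (nat_lit 4007)) = true := by decide +kernel
theorem e2_3_0 : c.edges (SP X1.T H26.Y332.R0 (nat_lit 14)) (nat_lit 296) X1.T.n (nat_lit 2) (nat_lit 3)
  [((nat_lit 222), [nat_lit 2, nat_lit 3, nat_lit 7, nat_lit 6, nat_lit 4, nat_lit 5, nat_lit 3, nat_lit 4, nat_lit 1, nat_lit 2, nat_lit 3, nat_lit 7, nat_lit 8, nat_lit 7, nat_lit 4, nat_lit 5, nat_lit 3, nat_lit 4, nat_lit 1, nat_lit 2, nat_lit 3, nat_lit 7, nat_lit 6, nat_lit 5, nat_lit 4, nat_lit 3, nat_lit 2, nat_lit 1, nat_lit 0], [nat_lit 78, nat_lit 7, nat_lit 1, nat_lit 54, nat_lit 19, nat_lit 15, nat_lit 48, nat_lit 48, nat_lit 20, nat_lit 34], (nat_lit 6194))] (nat_lit 0) (maskL [(nat_lit 6194)]) = 0 := by decide +kernel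
theorem u2_3_0 : (nat_lit 6194) < X1.T.n ∧ ltAll c.K (nth [] V (nat_lit 2)) = 0 ∧ Nat.testBit H15.YB.X1.mp22_1 (apW (SP X1.T H26.Y332.R0 (nat_lit 14)) (nth [] V (nat_lit 2)) (nat_lit 6194)) = true := by decide +kernel
theorem e2_4_0 : c.edges (SP X1.T H26.Y332.R0 (nat_lit 14)) (nat_lit 296) X1.T.n (nat_lit 2) (nat_lit 4)
  [((nat_lit 251), [nat_lit 1, nat_lit 2, nat_lit 3, nat_lit 7, nat_lit 8, nat_lit 5, nat_lit 4, nat_lit 3, nat_lit 7, nat_lit 3, nat_lit 4, nat_lit 5, nat_lit 2, nat_lit 3, nat_lit 4, nat_lit 0, nat_lit 1, nat_lit 2, nat_lit 3, nat_lit 7, nat_lit 8, nat_lit 5, nat_lit 2, nat_lit 3, nat_lit 4, nat_lit 1, nat_lit 2, nat_lit 3, nat_lit 7, nat_lit 6, nat_lit 5, nat_lit 4, nat_lit 3, nat_lit 2, nat_lit 1, nat_lit 0], [nat_lit 59, nat_lit 68, nat_lit 1, nat_lit 15, nat_lit 4, nat_lit 39, nat_lit 29, nat_lit 20, nat_lit 33, nat_lit 24], (nat_lit 1977))]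 (nat_lit 0) (maskL [(nat_lit 1977)]) = 0 := by decide +kernel
theorem u2_4_0 : (nat_lit 1977) < X1.T.n ∧ ltAll c.K (nth [] V (nat_lit 2)) = 0 ∧ Nat.testBit H15.YB.X1.mp23_1 (apW (SP X1.T H26.Y332.R0 (nat_lit 14)) (nth [] V (nat_lit 2)) (nat_lit 1977)) = true := by decide +kernel
theorem pc2 : partChk X1.T.n (nat_lit 705) [(Nat.lor (nat_lit 0) (maskL [(nat_lit 0)])), (nat_lit 0), (Nat.lor (nat_lit 0) H15.YB.X1.mp21_1), (Nat.lor (nat_lit 0) H15.YB.X1.mp22_1), (Nat.lor (nat_lit 0) H15.YB.X1.mp23_1), (nat_lit 0)] (nth [] aL (nat_lit 2)) = true ∧ nth 0 PL (nat_lit 2) = (nat_lit 2) := by decide +kernel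
theorem st3c : DH.sgU c (nat_lit 296) (nth [] V (nat_lit 3)) (nat_lit 3) S3 = 0 := by decide +kernel
theorem se3 : S3.map Prod.snd = H15.YB.X1.Wp3 := by decide +kernel
theorem e3_1_0 : c.edges (SP X1.T H26.Y332.R0 (nat_lit 14)) (nat_lit 296) X1.T.n (nat_lit 3) (nat_lit 1)
  [((nat_lit 205), [], [], (nat_lit 0))] (nat_lit 0) (maskL [(nat_lit 0)]) = 0 := by decide +kernel
theorem u3_1_0 : (nat_lit 0) < X1.T.n ∧ ltAll c.K (nth [] V (nat_lit 3)) = 0 ∧ Nat.testBit H15.YB.X1.mp34_2 (apW (SP X1.T H26.Y332.R0 (nat_lit 14)) (nth [] V (nat_lit 3)) (nat_lit 0)) = true := by decide +kernel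
theorem e3_2_0 : c.edges (SP X1.T H26.Y332.R0 (nat_lit 14)) (nat_lit 296) X1.T.n (nat_lit 3) (nat_lit 2)
  [((nat_lit 221), [nat_lit 3, nat_lit 7, nat_lit 6, nat_lit 5, nat_lit 4, nat_lit 3, nat_lit 2, nat_lit 1, nat_lit 0], [nat_lit 1, nat_lit 82, nat_lit 53, nat_lit 18, nat_lit 4, nat_lit 20, nat_lit 35, nat_lit 30], (nat_lit 2608))] (nat_lit 0) (maskL [(nat_lit 2608)]) = 0 := by decide +kernel
theorem u3_2_0 : (nat_lit 2608) < X1.T.n ∧ ltAll c.K (nth [] V (nat_lit 3)) = 0 ∧ Nat.testBit H15.YB.X1.mp30_1 (apW (SP X1.T H26.Y332.R0 (nat_lit 14)) (nth [] V (nat_lit 3)) (nat_lit 2608)) = true := by decide +kernel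
theorem e3_3_0 : c.edges (SP X1.T H26.Y332.R0 (nat_lit 14)) (nat_lit 296) X1.T.n (nat_lit 3) (nat_lit 3)
  [((nat_lit 224), [nat_lit 8, nat_lit 3, nat_lit 7, nat_lit 5, nat_lit 1, nat_lit 2, nat_lit 3, nat_lit 4, nat_lit 0, nat_lit 1, nat_lit 2, nat_lit 3, nat_lit 7, nat_lit 8, nat_lit 5, nat_lit 4, nat_lit 1, nat_lit 2, nat_lit 3, nat_lit 7, nat_lit 6, nat_lit 5, nat_lit 4, nat_lit 3, nat_lit 2, nat_lit 1, nat_lit 0], [nat_lit 78, nat_lit 70, nat_lit 64, nat_lit 50, nat_lit 22, nat_lit 19, nat_lit 27, nat_lit 39, nat_lit 33, nat_lit 33], (nat_lit 2104))] (nat_lit 0) (maskL [(nat_lit 2104)]) = 0 := by decide +kernel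
theorem u3_3_0 : (nat_lit 2104) < X1.T.n ∧ ltAll c.K (nth [] V (nat_lit 3)) = 0 ∧ Nat.testBit H15.YB.X1.mp36_2 (apW (SP X1.T H26.Y332.R0 (nat_lit 14)) (nth [] V (nat_lit 3)) (nat_lit 2104)) = true := by decide +kernel
theorem e3_3_1 : c.edges (SP X1.T H26.Y332.R0 (nat_lit 14)) (nat_lit 296) X1.T.n (nat_lit 3) (nat_lit 3)
  [((nat_lit 226), [nat_lit 7, nat_lit 5, nat_lit 6, nat_lit 4, nat_lit 5, nat_lit 3, nat_lit 4, nat_lit 2, nat_lit 3, nat_lit 7, nat_lit 8, nat_lit 3, nat_lit 4, nat_lit 5, nat_lit 2, nat_lit 3, nat_lit 4, nat_lit 1, nat_lit 2, nat_lit 3, nat_lit 7, nat_lit 6, nat_lit 5, nat_lit 4, nat_lit 3, nat_lit 2, nat_lit 1, nat_lit 0], [nat_lit 76, nat_lit 28, nat_lit 5, nat_lit 53, nat_lit 29, nat_lit 15, nat_lit 35, nat_lit 35, nat_lit 24, nat_lit 34], (nat_lit 11681))] (nat_lit 0) (maskL [(nat_lit 11681)]) = 0 := by decide +kernel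
theorem u3_3_1 : (nat_lit 11681) < X1.T.n ∧ ltAll c.K (nth [] V (nat_lit 3)) = 0 ∧ Nat.testBit H15.YB.X1.mp35_2 (apW (SP X1.T H26.Y332.R0 (nat_lit 14)) (nth [] V (nat_lit 3)) (nat_lit 11681)) = true := by decide +kernel
theorem e3_3_2 : c.edges (SP X1.T H26.Y332.R0 (nat_lit 14)) (nat_lit 296) X1.T.n (nat_lit 3) (nat_lit 3)
  [((nat_lit 223), [nat_lit 2, nat_lit 3, nat_lit 7, nat_lit 8, nat_lit 4, nat_lit 5, nat_lit 3, nat_lit 4, nat_lit 0, nat_lit 1, nat_lit 2, nat_lit 3, nat_lit 7, nat_lit 6, nat_lit 5, nat_lit 4, nat_lit 3, nat_lit 2, nat_lit 1, nat_lit 0], [nat_lit 18, nat_lit 70, nat_lit 18, nat_lit 16, nat_lit 18, nat_lit 39, nat_lit 30, nat_lit 22, nat_lit 24], (nat_lit 9446))] (nat_lit 0) (maskL [(nat_lit 9446)]) = 0 := by decide +kernel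
theorem u3_3_2 : (nat_lit 9446) < X1.T.n ∧ ltAll c.K (nth [] V (nat_lit 3)) = 0 ∧ Nat.testBit H15.YB.X1.mp37_2 (apW (SP X1.T H26.Y332.R0 (nat_lit 14)) (nth [] V (nat_lit 3)) (nat_lit 9446)) = true := by decide +kernel
theorem e3_3_3 : c.edges (SP X1.T H26.Y332.R0 (nat_lit 14)) (nat_lit 296) X1.T.n (nat_lit 3) (nat_lit 3)
  [((nat_lit 225), [nat_lit 2, nat_lit 3, nat_lit 7, nat_lit 8, nat_lit 4, nat_lit 3, nat_lit 7, nat_lit 2, nat_lit 3, nat_lit 4, nat_lit 5, nat_lit 1, nat_lit 2, nat_lit 3, nat_lit 4, nat_lit 0, nat_lit 1, nat_lit 2, nat_lit 3, nat_lit 7, nat_lit 8, nat_lit 3, nat_lit 4, nat_lit 2, nat_lit 3, nat_lit 7, nat_lit 6, nat_lit 5, nat_lit 4, nat_lit 3, nat_lit 2, nat_lit 1, nat_lit 0], [nat_lit 70, nat_lit 60, nat_lit 6, nat_lit 56, nat_lit 27, nat_lit 2, nat_lit 36, nat_lit 48, nat_lit 27, nat_lit 33, nat_lit 33, nat_lit 33], (nat_lit 4264))] (nat_lit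 0) (maskL [(nat_lit 4264)]) = 0 := by decide +kernel
theorem u3_3_3 : (nat_lit 4264) < X1.T.n ∧ ltAll c.K (nth [] V (nat_lit 3)) = 0 ∧ Nat.testBit H15.YB.X1.mp32_1 (apW (SP X1.T H26.Y332.R0 (nat_lit 14)) (nth [] V (nat_lit 3)) (nat_lit 4264)) = true := by decide +kernel
theorem e3_4_0 : c.edges (SP X1.T H26.Y332.R0 (nat_lit 14)) (nat_lit 296) X1.T.n (nat_lit 3) (nat_lit 4)
  [((nat_lit 243), [nat_lit 7, nat_lit 8, nat_lit 2, nat_lit 3, nat_lit 7, nat_lit 4, nat_lit 5, nat_lit 2, nat_lit 3, nat_lit 4, nat_lit 0, nat_lit 1, nat_lit 2, nat_lit 3, nat_lit 7, nat_lit 8, nat_lit 7, nat_lit 5, nat_lit 3, nat_lit 4, nat_lit 1, nat_lit 2, nat_lit 3, nat_lit 7, nat_lit 6, nat_lit 5, nat_lit 4, nat_lit 3, nat_lit 2, nat_lit 1, nat_lit 0], [nat_lit 62, nat_lit 78, nat_lit 54, nat_lit 19, nat_lit 4, nat_lit 41, nat_lit 27, nat_lit 33, nat_lit 29, nat_lit 24], (nat_lit 4990))]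 (nat_lit 0) (maskL [(nat_lit 4990)]) = 0 := by decide +kernel
theorem u3_4_0 : (nat_lit 4990) < X1.T.n ∧ ltAll c.K (nth [] V (nat_lit 3)) = 0 ∧ Nat.testBit H15.YB.X1.mp38_2 (apW (SP X1.T H26.Y332.R0 (nat_lit 14)) (nth [] V (nat_lit 3)) (nat_lit 4990)) = true := by decide +kernel
theorem e3_5_0 : c.edges (SP X1.T H26.Y332.R0 (nat_lit 14)) (nat_lit 296) X1.T.n (nat_lit 3) (nat_lit 5)
  [((nat_lit 278), [nat_lit 5, nat_lit 3, nat_lit 4, nat_lit 0, nat_lit 1, nat_lit 2, nat_lit 3, nat_lit 7, nat_lit 8, nat_lit 3, nat_lit 4, nat_lit 2, nat_lit 3, nat_lit 7, nat_lit 2, nat_lit 3, nat_lit 4, nat_lit 5, nat_lit 1, nat_lit 2, nat_lit 3, nat_lit 4, nat_lit 0, nat_lit 1, nat_lit 2, nat_lit 3, nat_lit 7, nat_lit 8, nat_lit 4, nat_lit 5, nat_lit 3, nat_lit 4, nat_lit 0, nat_lit 1, nat_lit 2, nat_lit 3, nat_lit 7, nat_lit 6, nat_lit 5, nat_lit 4, nat_lit 3, nat_lit 2, nat_lit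 1, nat_lit 0], [nat_lit 29, nat_lit 66, nat_lit 7, nat_lit 2, nat_lit 48, nat_lit 38, nat_lit 24], (nat_lit 829))] (nat_lit 0) (maskL [(nat_lit 829)]) = 0 := by decide +kernel
theorem u3_5_0 : (nat_lit 829) < X1.T.n ∧ ltAll c.K (nth [] V (nat_lit 3)) = 0 ∧ Nat.testBit H15.YB.X1.mp33_2 (apW (SP X1.T H26.Y332.R0 (nat_lit 14)) (nth [] V (nat_lit 3)) (nat_lit 829)) = true := by decide +kernel
theorem e3_5_1 : c.edges (SP X1.T H26.Y332.R0 (nat_lit 14)) (nat_lit 296) X1.T.n (nat_lit 3) (nat_lit 5)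
  [((nat_lit 256), [nat_lit 7, nat_lit 8, nat_lit 4, nat_lit 5, nat_lit 3, nat_lit 4, nat_lit 2, nat_lit 3, nat_lit 7, nat_lit 3, nat_lit 4, nat_lit 5, nat_lit 1, nat_lit 2, nat_lit 3, nat_lit 4, nat_lit 0, nat_lit 1, nat_lit 2, nat_lit 3, nat_lit 7, nat_lit 8, nat_lit 4, nat_lit 5, nat_lit 3, nat_lit 4, nat_lit 1, nat_lit 2, nat_lit 3, nat_lit 7, nat_lit 6, nat_lit 5, nat_lit 4, nat_lit 3, nat_lit 2, nat_lit 1, nat_lit 0], [], (nat_lit 78))] (nat_lit 0) (maskL [(nat_lit 78)]) = 0 := by decide +kernel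
theorem u3_5_1 : (nat_lit 78) < X1.T.n ∧ ltAll c.K (nth [] V (nat_lit 3)) = 0 ∧ Nat.testBit H15.YB.X1.mp31_1 (apW (SP X1.T H26.Y332.R0 (nat_lit 14)) (nth [] V (nat_lit 3)) (nat_lit 78)) = true := by decide +kernel
theorem pc3 : partChk X1.T.n (nat_lit 705) [(nat_lit 0), (Nat.lor (nat_lit 0) H15.YB.X1.mp34_2), (Nat.lor (nat_lit 0) H15.YB.X1.mp30_1), (Nat.lor (Nat.lor (Nat.lor (Nat.lor (nat_lit 0) H15.YB.X1.mp36_2) H15.YB.X1.mp35_2) H15.YB.X1.mp37_2) H15.YB.X1.mp32_1), (Nat.lor (nat_lit 0) H15.YB.X1.mp38_2), (Nat.lor (Nat.lor (nat_lit 0) H15.YB.X1.mp33_2) H15.YB.X1.mp31_1)] (nth [] aL (nat_lit 3)) = true ∧ nth 0 PL (nat_lit 3) = (nat_lit 3) := by decide +kernel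
theorem st4c : DH.sgU c (nat_lit 296) (nth [] V (nat_lit 4)) (nat_lit 4) S4 = 0 := by decide +kernel
theorem se4 : S4.map Prod.snd = H15.YB.X1.Wp4 := by decide +kernel
theorem e4_1_0 : c.edges (SP X1.T H26.Y332.R0 (nat_lit 14)) (nat_lit 296) X1.T.n (nat_lit 4) (nat_lit 1)
  [((nat_lit 228), [], [], (nat_lit 0))] (nat_lit 0) (maskL [(nat_lit 0)]) = 0 := by decide +kernel
theorem u4_1_0 : (nat_lit 0) < X1.T.n ∧ ltAll c.K (nth [] V (nat_lit 4)) = 0 ∧ Nat.testBit H15.YB.X1.mp40_2 (apW (SP X1.T H26.Y332.R0 (nat_lit 14)) (nth [] V (nat_lit 4)) (nat_lit 0)) = true := by decide +kernel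
theorem e4_2_0 : c.edges (SP X1.T H26.Y332.R0 (nat_lit 14)) (nat_lit 296) X1.T.n (nat_lit 4) (nat_lit 2)
  [((nat_lit 250), [nat_lit 6, nat_lit 4, nat_lit 5, nat_lit 3, nat_lit 4, nat_lit 2, nat_lit 3, nat_lit 7, nat_lit 8, nat_lit 6, nat_lit 5, nat_lit 3, nat_lit 4, nat_lit 1, nat_lit 2, nat_lit 3, nat_lit 7, nat_lit 4, nat_lit 5, nat_lit 1, nat_lit 2, nat_lit 3, nat_lit 4, nat_lit 0, nat_lit 1, nat_lit 2, nat_lit 3, nat_lit 7, nat_lit 8, nat_lit 5, nat_lit 2, nat_lit 3, nat_lit 4, nat_lit 1, nat_lit 2, nat_lit 3, nat_lit 7, nat_lit 6, nat_lit 5, nat_lit 4, nat_lit 3, nat_lit 2, nat_lit 1, nat_lit 0], [nat_lit 57, nat_lit 81, nat_lit 1, nat_lit 8, nat_lit 4, nat_lit 41, nat_lit 48, nat_lit 24, nat_lit 29], (nat_lit 3688))] (nat_lit 0) (maskL [(nat_lit 3688)]) = 0 := by decide +kernel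
theorem u4_2_0 : (nat_lit 3688) < X1.T.n ∧ ltAll c.K (nth [] V (nat_lit 4)) = 0 ∧ Nat.testBit H15.YB.X1.mp41_2 (apW (SP X1.T H26.Y332.R0 (nat_lit 14)) (nth [] V (nat_lit 4)) (nat_lit 3688)) = true := by decide +kernel
theorem e4_3_0 : c.edges (SP X1.T H26.Y332.R0 (nat_lit 14)) (nat_lit 296) X1.T.n (nat_lit 4) (nat_lit 3)
  [((nat_lit 244), [nat_lit 8, nat_lit 3, nat_lit 7, nat_lit 2, nat_lit 3, nat_lit 4, nat_lit 1, nat_lit 2, nat_lit 3, nat_lit 7, nat_lit 8, nat_lit 4, nat_lit 5, nat_lit 3, nat_lit 4, nat_lit 0, nat_lit 1, nat_lit 2, nat_lit 3, nat_lit 7, nat_lit 6, nat_lit 5, nat_lit 4, nat_lit 3, nat_lit 2, nat_lit 1, nat_lit 0], [nat_lit 64, nat_lit 75, nat_lit 62, nat_lit 30, nat_lit 15, nat_lit 2, nat_lit 39, nat_lit 24, nat_lit 39, nat_lit 33, nat_lit 24, nat_lit 29], (nat_lit 764))] (nat_lit 0) (maskL [(nat_lit 764)]) = 0 := by decide +kernel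
theorem u4_3_0 : (nat_lit 764) < X1.T.n ∧ ltAll c.K (nth [] V (nat_lit 4)) = 0 ∧ Nat.testBit H15.YB.X1.mp45_3 (apW (SP X1.T H26.Y332.R0 (nat_lit 14)) (nth [] V (nat_lit 4)) (nat_lit 764)) = true := by decide +kernel
theorem e4_4_0 : c.edges (SP X1.T H26.Y332.R0 (nat_lit 14)) (nat_lit 296) X1.T.n (nat_lit 4) (nat_lit 4)
  [((nat_lit 253), [nat_lit 8, nat_lit 3, nat_lit 7, nat_lit 5, nat_lit 1, nat_lit 2, nat_lit 3, nat_lit 4, nat_lit 0, nat_lit 1, nat_lit 2, nat_lit 3, nat_lit 7, nat_lit 8, nat_lit 4, nat_lit 5, nat_lit 2, nat_lit 3, nat_lit 4, nat_lit 1, nat_lit 2, nat_lit 3, nat_lit 7, nat_lit 6, nat_lit 5, nat_lit 4, nat_lit 3, nat_lit 2, nat_lit 1, nat_lit 0], [nat_lit 69, nat_lit 80, nat_lit 59, nat_lit 18, nat_lit 50, nat_lit 2, nat_lit 35, nat_lit 42, nat_lit 33, nat_lit 33], (nat_lit 583))] (nat_lit 0) (maskL [(nat_lit 583)]) = 0 := by decide +kernel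
theorem u4_4_0 : (nat_lit 583) < X1.T.n ∧ ltAll c.K (nth [] V (nat_lit 4)) = 0 ∧ Nat.testBit H15.YB.X1.mp46_3 (apW (SP X1.T H26.Y332.R0 (nat_lit 14)) (nth [] V (nat_lit 4)) (nat_lit 583)) = true := by decide +kernel
theorem e4_4_1 : c.edges (SP X1.T H26.Y332.R0 (nat_lit 14)) (nat_lit 296) X1.T.n (nat_lit 4) (nat_lit 4)
  [((nat_lit 255), [nat_lit 7, nat_lit 8, nat_lit 2, nat_lit 3, nat_lit 7, nat_lit 4, nat_lit 5, nat_lit 3, nat_lit 4, nat_lit 0, nat_lit 1, nat_lit 2, nat_lit 3, nat_lit 7, nat_lit 8, nat_lit 4, nat_lit 5, nat_lit 3, nat_lit 4, nat_lit 1, nat_lit 2, nat_lit 3, nat_lit 7, nat_lit 6, nat_lit 5, nat_lit 4, nat_lit 3, nat_lit 2, nat_lit 1, nat_lit 0], [nat_lit 59, nat_lit 82, nat_lit 73, nat_lit 28, nat_lit 18, nat_lit 35, nat_lit 28, nat_lit 20, nat_lit 24, nat_lit 34], (nat_lit 2704))] (nat_lit 0) (maskL [(nat_lit 2704)]) = 0 := by decide +kernel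
theorem u4_4_1 : (nat_lit 2704) < X1.T.n ∧ ltAll c.K (nth [] V (nat_lit 4)) = 0 ∧ Nat.testBit H15.YB.X1.mp44_2 (apW (SP X1.T H26.Y332.R0 (nat_lit 14)) (nth [] V (nat_lit 4)) (nat_lit 2704)) = true := by decide +kernel
theorem e4_4_2 : c.edges (SP X1.T H26.Y332.R0 (nat_lit 14)) (nat_lit 296) X1.T.n (nat_lit 4) (nat_lit 4)
  [((nat_lit 254), [nat_lit 3, nat_lit 7, nat_lit 8, nat_lit 4, nat_lit 2, nat_lit 3, nat_lit 7, nat_lit 5, nat_lit 1, nat_lit 2, nat_lit 3, nat_lit 4, nat_lit 0, nat_lit 1, nat_lit 2, nat_lit 3, nat_lit 7, nat_lit 8, nat_lit 5, nat_lit 4, nat_lit 1, nat_lit 2, nat_lit 3, nat_lit 7, nat_lit 6, nat_lit 5, nat_lit 4, nat_lit 3, nat_lit 2, nat_lit 1, nat_lit 0], [nat_lit 28, nat_lit 74, nat_lit 6, nat_lit 18, nat_lit 15, nat_lit 4, nat_lit 41, nat_lit 38, nat_lit 33, nat_lit 33, nat_lit 33], (nat_lit 2351))] (nat_lit 0) (maskL [(nat_lit 2351)])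 = 0 := by decide +kernel
theorem u4_4_2 : (nat_lit 2351) < X1.T.n ∧ ltAll c.K (nth [] V (nat_lit 4)) = 0 ∧ Nat.testBit H15.YB.X1.mp43_2 (apW (SP X1.T H26.Y332.R0 (nat_lit 14)) (nth [] V (nat_lit 4)) (nat_lit 2351)) = true := by decide +kernel
theorem e4_5_0 : c.edges (SP X1.T H26.Y332.R0 (nat_lit 14)) (nat_lit 296) X1.T.n (nat_lit 4) (nat_lit 5)
  [((nat_lit 268), [nat_lit 4, nat_lit 2, nat_lit 3, nat_lit 7, nat_lit 8, nat_lit 3, nat_lit 4, nat_lit 2, nat_lit 3, nat_lit 7, nat_lit 5, nat_lit 6, nat_lit 4, nat_lit 5, nat_lit 1, nat_lit 2, nat_lit 3, nat_lit 4, nat_lit 0, nat_lit 1, nat_lit 2, nat_lit 3, nat_lit 7, nat_lit 8, nat_lit 5, nat_lit 2, nat_lit 3, nat_lit 4, nat_lit 1, nat_lit 2, nat_lit 3, nat_lit 7, nat_lit 6, nat_lit 5, nat_lit 4, nat_lit 3, nat_lit 2, nat_lit 1, nat_lit 0], [nat_lit 1, nat_lit 79, nat_lit 1, nat_lit 49, nat_lit 18, nat_lit 15, nat_lit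 47, nat_lit 27, nat_lit 24, nat_lit 29], (nat_lit 8245))] (nat_lit 0) (maskL [(nat_lit 8245)]) = 0 := by decide +kernel
theorem u4_5_0 : (nat_lit 8245) < X1.T.n ∧ ltAll c.K (nth [] V (nat_lit 4)) = 0 ∧ Nat.testBit H15.YB.X1.mp42_2 (apW (SP X1.T H26.Y332.R0 (nat_lit 14)) (nth [] V (nat_lit 4)) (nat_lit 8245)) = true := by decide +kernel
theorem pc4 : partChk X1.T.n (nat_lit 705) [(nat_lit 0), (Nat.lor (nat_lit 0) H15.YB.X1.mp40_2), (Nat.lor (nat_lit 0) H15.YB.X1.mp41_2), (Nat.lor (nat_lit 0) H15.YB.X1.mp45_3), (Nat.lor (Nat.lor (Nat.lor (nat_lit 0) H15.YB.X1.mp46_3) H15.YB.X1.mp44_2) H15.YB.X1.mp43_2), (Nat.lor (nat_lit 0) H15.YB.X1.mp42_2)] (nth [] aL (nat_lit 4)) = true ∧ nth 0 PL (nat_lit 4) = (nat_lit 4) := by decide +kernel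
theorem st5c : DH.sgU c (nat_lit 296) (nth [] V (nat_lit 5)) (nat_lit 5) S5 = 0 := by decide +kernel
theorem se5 : S5.map Prod.snd = H15.YB.X1.Wp5 := by decide +kernel
theorem e5_3_0 : c.edges (SP X1.T H26.Y332.R0 (nat_lit 14)) (nat_lit 296) X1.T.n (nat_lit 5) (nat_lit 3)
  [((nat_lit 257), [], [], (nat_lit 0))] (nat_lit 0) (maskL [(nat_lit 0)]) = 0 := by decide +kernel
theorem u5_3_0 : (nat_lit 0) < X1.T.n ∧ ltAll c.K (nth [] V (nat_lit 5)) = 0 ∧ Nat.testBit H15.YB.X1.mp51_2 (apW (SP X1.T H26.Y332.R0 (nat_lit 14)) (nth [] V (nat_lit 5)) (nat_lit 0)) = true := by decide +kernel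
theorem e5_3_1 : c.edges (SP X1.T H26.Y332.R0 (nat_lit 14)) (nat_lit 296) X1.T.n (nat_lit 5) (nat_lit 3)
  [((nat_lit 277), [nat_lit 2, nat_lit 3, nat_lit 7, nat_lit 8, nat_lit 3, nat_lit 4, nat_lit 2, nat_lit 3, nat_lit 7, nat_lit 6, nat_lit 5, nat_lit 4, nat_lit 3, nat_lit 2, nat_lit 1, nat_lit 0], [nat_lit 78, nat_lit 72, nat_lit 3, nat_lit 20, nat_lit 56, nat_lit 41, nat_lit 33, nat_lit 29, nat_lit 24], (nat_lit 8865))] (nat_lit 0) (maskL [(nat_lit 8865)]) = 0 := by decide +kernel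
theorem u5_3_1 : (nat_lit 8865) < X1.T.n ∧ ltAll c.K (nth [] V (nat_lit 5)) = 0 ∧ Nat.testBit H15.YB.X1.mp52_2 (apW (SP X1.T H26.Y332.R0 (nat_lit 14)) (nth [] V (nat_lit 5)) (nat_lit 8865)) = true := by decide +kernel
theorem e5_4_0 : c.edges (SP X1.T H26.Y332.R0 (nat_lit 14)) (nat_lit 296) X1.T.n (nat_lit 5) (nat_lit 4)
  [((nat_lit 269), [nat_lit 8, nat_lit 7, nat_lit 4, nat_lit 5, nat_lit 2, nat_lit 3, nat_lit 4, nat_lit 1, nat_lit 2, nat_lit 3, nat_lit 7, nat_lit 8, nat_lit 4, nat_lit 5, nat_lit 3, nat_lit 4, nat_lit 0, nat_lit 1, nat_lit 2, nat_lit 3, nat_lit 7, nat_lit 6, nat_lit 5, nat_lit 4, nat_lit 3, nat_lit 2, nat_lit 1, nat_lit 0], [nat_lit 2, nat_lit 77, nat_lit 27, nat_lit 49, nat_lit 2, nat_lit 37, nat_lit 40, nat_lit 22, nat_lit 34, nat_lit 30, nat_lit 24], (nat_lit 10705))] (nat_lit 0) (maskL [(nat_lit 10705)]) = 0 := by decide +kernel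
theorem u5_4_0 : (nat_lit 10705) < X1.T.n ∧ ltAll c.K (nth [] V (nat_lit 5)) = 0 ∧ Nat.testBit H15.YB.X1.mp54_3 (apW (SP X1.T H26.Y332.R0 (nat_lit 14)) (nth [] V (nat_lit 5)) (nat_lit 10705)) = true := by decide +kernel
theorem e5_5_0 : c.edges (SP X1.T H26.Y332.R0 (nat_lit 14)) (nat_lit 296) X1.T.n (nat_lit 5) (nat_lit 5)
  [((nat_lit 276), [nat_lit 3, nat_lit 7, nat_lit 8, nat_lit 7, nat_lit 5, nat_lit 3, nat_lit 4, nat_lit 2, nat_lit 3, nat_lit 7, nat_lit 6, nat_lit 5, nat_lit 1, nat_lit 2, nat_lit 3, nat_lit 4, nat_lit 0, nat_lit 1, nat_lit 2, nat_lit 3, nat_lit 7, nat_lit 8, nat_lit 5, nat_lit 4, nat_lit 1, nat_lit 2, nat_lit 3, nat_lit 7, nat_lit 6, nat_lit 5, nat_lit 4, nat_lit 3, nat_lit 2, nat_lit 1, nat_lit 0], [nat_lit 18, nat_lit 5, nat_lit 6, nat_lit 49, nat_lit 30, nat_lit 18, nat_lit 20, nat_lit 39, nat_lit 33, nat_lit 33], (nat_lit 421))] (nat_lit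 0) (maskL [(nat_lit 421)]) = 0 := by decide +kernel
theorem u5_5_0 : (nat_lit 421) < X1.T.n ∧ ltAll c.K (nth [] V (nat_lit 5)) = 0 ∧ Nat.testBit H15.YB.X1.mp53_2 (apW (SP X1.T H26.Y332.R0 (nat_lit 14)) (nth [] V (nat_lit 5)) (nat_lit 421)) = true := by decide +kernel
theorem e5_5_1 : c.edges (SP X1.T H26.Y332.R0 (nat_lit 14)) (nat_lit 296) X1.T.n (nat_lit 5) (nat_lit 5)
  [((nat_lit 279), [nat_lit 4, nat_lit 5, nat_lit 1, nat_lit 2, nat_lit 3, nat_lit 4, nat_lit 0, nat_lit 1, nat_lit 2, nat_lit 3, nat_lit 7, nat_lit 8, nat_lit 3, nat_lit 4, nat_lit 5, nat_lit 2, nat_lit 3, nat_lit 4, nat_lit 1, nat_lit 2, nat_lit 3, nat_lit 7, nat_lit 6, nat_lit 5, nat_lit 4, nat_lit 3, nat_lit 2, nat_lit 1, nat_lit 0], [nat_lit 71, nat_lit 82, nat_lit 30, nat_lit 15, nat_lit 2, nat_lit 48, nat_lit 39], (nat_lit 10610))] (nat_lit 0) (maskL [(nat_lit 10610)]) = 0 := by decide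 +kernel
theorem u5_5_1 : (nat_lit 10610) < X1.T.n ∧ ltAll c.K (nth [] V (nat_lit 5)) = 0 ∧ Nat.testBit H15.YB.X1.mp50_2 (apW (SP X1.T H26.Y332.R0 (nat_lit 14)) (nth [] V (nat_lit 5)) (nat_lit 10610)) = true := by decide +kernel
theorem pc5 : partChk X1.T.n (nat_lit 705) [(nat_lit 0), (nat_lit 0), (nat_lit 0), (Nat.lor (Nat.lor (nat_lit 0) H15.YB.X1.mp51_2) H15.YB.X1.mp52_2), (Nat.lor (nat_lit 0) H15.YB.X1.mp54_3), (Nat.lor (Nat.lor (nat_lit 0) H15.YB.X1.mp53_2) H15.YB.X1.mp50_2)] (nth [] aL (nat_lit 5)) = true ∧ nth 0 PL (nat_lit 5) = (nat_lit 5) := by decide +kernel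
theorem kgc : sumL (c.kgen (nat_lit 296)) KG = 0 := by decide +kernel
theorem ivc : c.ivc = true := by decide +kernel
theorem num : DH.Num PL [nat_lit 14080, nat_lit 17791488, nat_lit 15206400, nat_lit 400308480, nat_lit 679311360, nat_lit 72783360] aL 14080 1185415168 ∧ KG.map Prod.snd = Y1.UK ∧ PL.length = 6 := by decide +kernel

theorem rt : RT c := RT.of rtc
theorem v1 : DH.VL c (nat_lit 1) := DH.VL.one rfl
theorem v170 : DH.VL c (nat_lit 170) := DH.VL.step rt v1 v170c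
theorem v234 : DH.VL c (nat_lit 234) := DH.VL.step rt v170 v234c
theorem v280 : DH.VL c (nat_lit 280) := DH.VL.step rt v234 v280c
theorem v296 : DH.VL c (nat_lit 296) := DH.VL.step rt v280 v296c
theorem actc : Act X1.T.π id (SP X1.T H26.Y332.R0 (nat_lit 14)) X1.T.n c.K := X1.act
theorem st0 : DH.SL c V (nat_lit 0) H15.YB.X1.Wp0 := se0 ▸ DH.SL.of v296 st0c
theorem l0_0_0 : DH.LS c X1.T V (nat_lit 0) (nat_lit 0) (Nat.lor (nat_lit 0) H15.YB.X1.mp00_1) :=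
  DH.LS.add DH.LS.zero st0 H15.YB.X1.op00 (DH.LL.edges v296 actc DH.LL.zero e0_0_0) actc u0_0_0
theorem l0_1_0 : DH.LS c X1.T V (nat_lit 0) (nat_lit 1) (Nat.lor (nat_lit 0) H15.YB.X1.mp02_1) :=
  DH.LS.add DH.LS.zero st0 H15.YB.X1.op02 (DH.LL.edges v296 actc DH.LL.zero e0_1_0) actc u0_1_0
theorem l0_2_0 : DH.LS c X1.T V (nat_lit 0) (nat_lit 2) (Nat.lor (nat_lit 0) H15.YB.X1.mp01_1) :=
  DH.LS.add DH.LS.zero st0 H15.YB.X1.op01 (DH.LL.edges v296 actc DH.LL.zero e0_2_0) actc u0_2_0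
theorem row0 : DH.RowL c X1.T V PL 0 aL := DH.RowL.of (ms := [(Nat.lor (nat_lit 0) H15.YB.X1.mp00_1), (Nat.lor (nat_lit 0) H15.YB.X1.mp02_1), (Nat.lor (nat_lit 0) H15.YB.X1.mp01_1), (nat_lit 0), (nat_lit 0), (nat_lit 0)]) (.cons l0_0_0 (.cons l0_1_0 (.cons l0_2_0 (.cons DH.LS.zero (.cons DH.LS.zero (.cons DH.LS.zero .nil)))))) pc0
theorem st1 : DH.SL c V (nat_lit 1) H15.YB.X1.Wp1 := se1 ▸ DH.SL.of v296 st1c
theorem l1_0_0 : DH.LS c X1.T V (nat_lit 1) (nat_lit 0) (Nat.lor (nat_lit 0) H15.YB.X1.mp10_1) :=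
  DH.LS.add DH.LS.zero st1 H15.YB.X1.op10 (DH.LL.edges v296 actc DH.LL.zero e1_0_0) actc u1_0_0
theorem l1_1_0 : DH.LS c X1.T V (nat_lit 1) (nat_lit 1) (Nat.lor (nat_lit 0) H15.YB.X1.mp11_1) :=
  DH.LS.add DH.LS.zero st1 H15.YB.X1.op11 (DH.LL.edges v296 actc DH.LL.zero e1_1_0) actc u1_1_0
theorem l1_3_0 : DH.LS c X1.T V (nat_lit 1) (nat_lit 3) (Nat.lor (nat_lit 0) H15.YB.X1.mp13_1) :=
  DH.LS.add DH.LS.zero st1 H15.YB.X1.op13 (DH.LL.edges v296 actc DH.LL.zero e1_3_0) actc u1_3_0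
theorem l1_4_0 : DH.LS c X1.T V (nat_lit 1) (nat_lit 4) (Nat.lor (nat_lit 0) H15.YB.X1.mp12_1) :=
  DH.LS.add DH.LS.zero st1 H15.YB.X1.op12 (DH.LL.edges v296 actc DH.LL.zero e1_4_0) actc u1_4_0
theorem row1 : DH.RowL c X1.T V PL 1 aL := DH.RowL.of (ms := [(Nat.lor (nat_lit 0) H15.YB.X1.mp10_1), (Nat.lor (nat_lit 0) H15.YB.X1.mp11_1), (nat_lit 0), (Nat.lor (nat_lit 0) H15.YB.X1.mp13_1), (Nat.lor (nat_lit 0) H15.YB.X1.mp12_1), (nat_lit 0)]) (.cons l1_0_0 (.cons l1_1_0 (.cons DH.LS.zero (.cons l1_3_0 (.cons l1_4_0 (.cons DH.LS.zero .nil)))))) pc1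
theorem st2 : DH.SL c V (nat_lit 2) H15.YB.X1.Wp2 := se2 ▸ DH.SL.of v296 st2c
theorem l2_0_0 : DH.LS c X1.T V (nat_lit 2) (nat_lit 0) (Nat.lor (nat_lit 0) (maskL [(nat_lit 0)])) :=
  DH.LS.add DH.LS.zero st2 H15.YB.X1.op20 (DH.LL.edges v296 actc DH.LL.zero e2_0_0) actc u2_0_0
theorem l2_2_0 : DH.LS c X1.T V (nat_lit 2) (nat_lit 2) (Nat.lor (nat_lit 0) H15.YB.X1.mp21_1) :=
  DH.LS.add DH.LS.zero st2 H15.YB.X1.op21 (DH.LL.edges v296 actc DH.LL.zero e2_2_0) actc u2_2_0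
theorem l2_3_0 : DH.LS c X1.T V (nat_lit 2) (nat_lit 3) (Nat.lor (nat_lit 0) H15.YB.X1.mp22_1) :=
  DH.LS.add DH.LS.zero st2 H15.YB.X1.op22 (DH.LL.edges v296 actc DH.LL.zero e2_3_0) actc u2_3_0
theorem l2_4_0 : DH.LS c X1.T V (nat_lit 2) (nat_lit 4) (Nat.lor (nat_lit 0) H15.YB.X1.mp23_1) :=
  DH.LS.add DH.LS.zero st2 H15.YB.X1.op23 (DH.LL.edges v296 actc DH.LL.zero e2_4_0) actc u2_4_0
theorem row2 : DH.RowL c X1.T V PL 2 aL := DH.RowL.of (ms := [(Nat.lor (nat_lit 0) (maskL [(nat_lit 0)])), (nat_lit 0), (Nat.lor (nat_lit 0) H15.YB.X1.mp21_1), (Nat.lor (nat_lit 0) H15.YB.X1.mp22_1), (Nat.lor (nat_lit 0) H15.YB.X1.mp23_1), (nat_lit 0)]) (.cons l2_0_0 (.cons DH.LS.zero (.cons l2_2_0 (.cons l2_3_0 (.cons l2_4_0 (.cons DH.LS.zero .nil)))))) pc2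
theorem st3 : DH.SL c V (nat_lit 3) H15.YB.X1.Wp3 := se3 ▸ DH.SL.of v296 st3c
theorem l3_1_0 : DH.LS c X1.T V (nat_lit 3) (nat_lit 1) (Nat.lor (nat_lit 0) H15.YB.X1.mp34_2) :=
  DH.LS.add DH.LS.zero st3 H15.YB.X1.op34 (DH.LL.edges v296 actc DH.LL.zero e3_1_0) actc u3_1_0
theorem l3_2_0 : DH.LS c X1.T V (nat_lit 3) (nat_lit 2) (Nat.lor (nat_lit 0) H15.YB.X1.mp30_1) :=
  DH.LS.add DH.LS.zero st3 H15.YB.X1.op30 (DH.LL.edges v296 actc DH.LL.zero e3_2_0) actc u3_2_0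
theorem l3_3_0 : DH.LS c X1.T V (nat_lit 3) (nat_lit 3) (Nat.lor (nat_lit 0) H15.YB.X1.mp36_2) :=
  DH.LS.add DH.LS.zero st3 H15.YB.X1.op36 (DH.LL.edges v296 actc DH.LL.zero e3_3_0) actc u3_3_0
theorem l3_3_1 : DH.LS c X1.T V (nat_lit 3) (nat_lit 3) (Nat.lor (Nat.lor (nat_lit 0) H15.YB.X1.mp36_2) H15.YB.X1.mp35_2) :=
  DH.LS.add l3_3_0 st3 H15.YB.X1.op35 (DH.LL.edges v296 actc DH.LL.zero e3_3_1) actc u3_3_1
theorem l3_3_2 : DH.LS c X1.T V (nat_lit 3) (nat_lit 3) (Nat.lor (Nat.lor (Nat.lor (nat_lit 0) H15.YB.X1.mp36_2) H15.YB.X1.mp35_2) H15.YB.X1.mp37_2) :=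
  DH.LS.add l3_3_1 st3 H15.YB.X1.op37 (DH.LL.edges v296 actc DH.LL.zero e3_3_2) actc u3_3_2
theorem l3_3_3 : DH.LS c X1.T V (nat_lit 3) (nat_lit 3) (Nat.lor (Nat.lor (Nat.lor (Nat.lor (nat_lit 0) H15.YB.X1.mp36_2) H15.YB.X1.mp35_2) H15.YB.X1.mp37_2) H15.YB.X1.mp32_1) :=
  DH.LS.add l3_3_2 st3 H15.YB.X1.op32 (DH.LL.edges v296 actc DH.LL.zero e3_3_3) actc u3_3_3
theorem l3_4_0 : DH.LS c X1.T V (nat_lit 3) (nat_lit 4) (Nat.lor (nat_lit 0) H15.YB.X1.mp38_2) :=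
  DH.LS.add DH.LS.zero st3 H15.YB.X1.op38 (DH.LL.edges v296 actc DH.LL.zero e3_4_0) actc u3_4_0
theorem l3_5_0 : DH.LS c X1.T V (nat_lit 3) (nat_lit 5) (Nat.lor (nat_lit 0) H15.YB.X1.mp33_2) :=
  DH.LS.add DH.LS.zero st3 H15.YB.X1.op33 (DH.LL.edges v296 actc DH.LL.zero e3_5_0) actc u3_5_0
theorem l3_5_1 : DH.LS c X1.T V (nat_lit 3) (nat_lit 5) (Nat.lor (Nat.lor (nat_lit 0) H15.YB.X1.mp33_2) H15.YB.X1.mp31_1) :=
  DH.LS.add l3_5_0 st3 H15.YB.X1.op31 (DH.LL.edges v296 actc DH.LL.zero e3_5_1) actc u3_5_1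
theorem row3 : DH.RowL c X1.T V PL 3 aL := DH.RowL.of (ms := [(nat_lit 0), (Nat.lor (nat_lit 0) H15.YB.X1.mp34_2), (Nat.lor (nat_lit 0) H15.YB.X1.mp30_1), (Nat.lor (Nat.lor (Nat.lor (Nat.lor (nat_lit 0) H15.YB.X1.mp36_2) H15.YB.X1.mp35_2) H15.YB.X1.mp37_2) H15.YB.X1.mp32_1), (Nat.lor (nat_lit 0) H15.YB.X1.mp38_2), (Nat.lor (Nat.lor (nat_lit 0) H15.YB.X1.mp33_2) H15.YB.X1.mp31_1)]) (.cons DH.LS.zero (.cons l3_1_0 (.cons l3_2_0 (.cons l3_3_3 (.cons l3_4_0 (.cons l3_5_1 .nil)))))) pc3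
theorem st4 : DH.SL c V (nat_lit 4) H15.YB.X1.Wp4 := se4 ▸ DH.SL.of v296 st4c
theorem l4_1_0 : DH.LS c X1.T V (nat_lit 4) (nat_lit 1) (Nat.lor (nat_lit 0) H15.YB.X1.mp40_2) :=
  DH.LS.add DH.LS.zero st4 H15.YB.X1.op40 (DH.LL.edges v296 actc DH.LL.zero e4_1_0) actc u4_1_0
theorem l4_2_0 : DH.LS c X1.T V (nat_lit 4) (nat_lit 2) (Nat.lor (nat_lit 0) H15.YB.X1.mp41_2) :=
  DH.LS.add DH.LS.zero st4 H15.YB.X1.op41 (DH.LL.edges v296 actc DH.LL.zero e4_2_0) actc u4_2_0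
theorem l4_3_0 : DH.LS c X1.T V (nat_lit 4) (nat_lit 3) (Nat.lor (nat_lit 0) H15.YB.X1.mp45_3) :=
  DH.LS.add DH.LS.zero st4 H15.YB.X1.op45 (DH.LL.edges v296 actc DH.LL.zero e4_3_0) actc u4_3_0
theorem l4_4_0 : DH.LS c X1.T V (nat_lit 4) (nat_lit 4) (Nat.lor (nat_lit 0) H15.YB.X1.mp46_3) :=
  DH.LS.add DH.LS.zero st4 H15.YB.X1.op46 (DH.LL.edges v296 actc DH.LL.zero e4_4_0) actc u4_4_0
theorem l4_4_1 : DH.LS c X1.T V (nat_lit 4) (nat_lit 4) (Nat.lor (Nat.lor (nat_lit 0) H15.YB.X1.mp46_3) H15.YB.X1.mp44_2) :=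
  DH.LS.add l4_4_0 st4 H15.YB.X1.op44 (DH.LL.edges v296 actc DH.LL.zero e4_4_1) actc u4_4_1
theorem l4_4_2 : DH.LS c X1.T V (nat_lit 4) (nat_lit 4) (Nat.lor (Nat.lor (Nat.lor (nat_lit 0) H15.YB.X1.mp46_3) H15.YB.X1.mp44_2) H15.YB.X1.mp43_2) :=
  DH.LS.add l4_4_1 st4 H15.YB.X1.op43 (DH.LL.edges v296 actc DH.LL.zero e4_4_2) actc u4_4_2
theorem l4_5_0 : DH.LS c X1.T V (nat_lit 4) (nat_lit 5) (Nat.lor (nat_lit 0) H15.YB.X1.mp42_2) :=
  DH.LS.add DH.LS.zero st4 H15.YB.X1.op42 (DH.LL.edges v296 actc DH.LL.zero e4_5_0) actc u4_5_0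
theorem row4 : DH.RowL c X1.T V PL 4 aL := DH.RowL.of (ms := [(nat_lit 0), (Nat.lor (nat_lit 0) H15.YB.X1.mp40_2), (Nat.lor (nat_lit 0) H15.YB.X1.mp41_2), (Nat.lor (nat_lit 0) H15.YB.X1.mp45_3), (Nat.lor (Nat.lor (Nat.lor (nat_lit 0) H15.YB.X1.mp46_3) H15.YB.X1.mp44_2) H15.YB.X1.mp43_2), (Nat.lor (nat_lit 0) H15.YB.X1.mp42_2)]) (.cons DH.LS.zero (.cons l4_1_0 (.cons l4_2_0 (.cons l4_3_0 (.cons l4_4_2 (.cons l4_5_0 .nil)))))) pc4
theorem st5 : DH.SL c V (nat_lit 5) H15.YB.X1.Wp5 := se5 ▸ DH.SL.of v296 st5c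
theorem l5_3_0 : DH.LS c X1.T V (nat_lit 5) (nat_lit 3) (Nat.lor (nat_lit 0) H15.YB.X1.mp51_2) :=
  DH.LS.add DH.LS.zero st5 H15.YB.X1.op51 (DH.LL.edges v296 actc DH.LL.zero e5_3_0) actc u5_3_0
theorem l5_3_1 : DH.LS c X1.T V (nat_lit 5) (nat_lit 3) (Nat.lor (Nat.lor (nat_lit 0) H15.YB.X1.mp51_2) H15.YB.X1.mp52_2) :=
  DH.LS.add l5_3_0 st5 H15.YB.X1.op52 (DH.LL.edges v296 actc DH.LL.zero e5_3_1) actc u5_3_1
theorem l5_4_0 : DH.LS c X1.T V (nat_lit 5) (nat_lit 4) (Nat.lor (nat_lit 0) H15.YB.X1.mp54_3) :=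
  DH.LS.add DH.LS.zero st5 H15.YB.X1.op54 (DH.LL.edges v296 actc DH.LL.zero e5_4_0) actc u5_4_0
theorem l5_5_0 : DH.LS c X1.T V (nat_lit 5) (nat_lit 5) (Nat.lor (nat_lit 0) H15.YB.X1.mp53_2) :=
  DH.LS.add DH.LS.zero st5 H15.YB.X1.op53 (DH.LL.edges v296 actc DH.LL.zero e5_5_0) actc u5_5_0
theorem l5_5_1 : DH.LS c X1.T V (nat_lit 5) (nat_lit 5) (Nat.lor (Nat.lor (nat_lit 0) H15.YB.X1.mp53_2) H15.YB.X1.mp50_2) :=
  DH.LS.add l5_5_0 st5 H15.YB.X1.op50 (DH.LL.edges v296 actc DH.LL.zero e5_5_1) actc u5_5_1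
theorem row5 : DH.RowL c X1.T V PL 5 aL := DH.RowL.of (ms := [(nat_lit 0), (nat_lit 0), (nat_lit 0), (Nat.lor (Nat.lor (nat_lit 0) H15.YB.X1.mp51_2) H15.YB.X1.mp52_2), (Nat.lor (nat_lit 0) H15.YB.X1.mp54_3), (Nat.lor (Nat.lor (nat_lit 0) H15.YB.X1.mp53_2) H15.YB.X1.mp50_2)]) (.cons DH.LS.zero (.cons DH.LS.zero (.cons DH.LS.zero (.cons l5_3_1 (.cons l5_4_0 (.cons l5_5_1 .nil)))))) pc5
theorem done : DH.Done c X1.T Y1.UK 14080 1185415168 := DH.Done.of v296 kgc (all_succ (all_succ (all_succ (all_succ (all_succ (all_succ all_zero row0) row1) row2) row3) row4) row5) num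

end H15.YB.L1
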