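import Cfsg.Agent.H15.YB.X2.C0
import Cfsg.Agent.H15.YB.X2.C1
import Cfsg.Agent.H15.YB.X2.C2

/-! Generated by tools/h15/yb.py. -/

set_option maxRecDepth 100000
set_option maxHeartbeats 0
set_option Elab.async false

namespace H15.YB.X2

open H16 H16.DC
open H26 (jn)

theorem wf : T.WF := (all_cons wf_0 (all_cons wf_1 (all_cons wf_2 (all_cons wf_3 (all_cons wf_4 (all_cons wf_5 (all_cons wf_6 (all_cons wf_7 (all_cons wf_8 (all_cons wf_9 (all_cons wf_10 (all_cons wf_11 (all_cons wf_12 (all_cons wf_13 (all_cons wf_14 all_nil)))))))))))))))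
theorem wf0 : T0.WF := (all_cons wf_0 (all_cons wf_1 (all_cons wf_2 (all_cons wf_3 (all_cons wf_4 (all_cons wf_5 (all_cons wf_6 (all_cons wf_7 (all_cons wf_8 (all_cons wf_9 all_nil))))))))))
theorem g0 : ∀ d ∈ Pg0, H26.ev T0.π d.1 = H26.ev T0.π d.2 := wf0.prs lgc (all_succ (all_succ (all_succ (all_succ (all_succ (all_succ (all_succ (all_succ (all_succ (all_succ (all_succ (all_succ (all_succ (all_succ (all_succ (all_succ (all_succ (all_succ (all_succ all_zero g0_0) g0_1) g0_2) g0_3) g0_4) g0_5) g0_6) g0_7) g0_8) g0_9) g0_10) g0_11) g0_12) g0_13) g0_14) g0_15) g0_16) g0_17) g0_18)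
theorem g1 : ∀ d ∈ Pg1, H26.ev T0.π d.1 = H26.ev T0.π d.2 := wf0.prs lgc (all_succ (all_succ (all_succ (all_succ (all_succ (all_succ (all_succ (all_succ (all_succ (all_succ (all_succ (all_succ (all_succ (all_succ (all_succ (all_succ (all_succ (all_succ (all_succ all_zero g1_0) g1_1) g1_2) g1_3) g1_4) g1_5) g1_6) g1_7) g1_8) g1_9) g1_10) g1_11) g1_12) g1_13) g1_14) g1_15) g1_16) g1_17) g1_18)
theorem g2 : ∀ d ∈ Pg2, H26.ev T0.π d.1 = H26.ev T0.π d.2 := wf0.prs lgc (all_succ (all_succ (all_succ (all_succ (all_succ (all_succ (all_succ (all_succ (all_succ (all_succ (all_succ (all_succ (all_succ (all_succ (all_succ (all_succ (all_succ (all_succ (all_succ all_zero g2_0) g2_1) g2_2) g2_3) g2_4) g2_5) g2_6) g2_7) g2_8) g2_9) g2_10) g2_11) g2_12) g2_13) g2_14) g2_15) g2_16) g2_17) g2_18)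
theorem g3 : ∀ d ∈ Pg3, H26.ev T0.π d.1 = H26.ev T0.π d.2 := wf0.prs lgc (all_succ (all_succ (all_succ (all_succ (all_succ (all_succ (all_succ (all_succ (all_succ (all_succ (all_succ (all_succ (all_succ (all_succ (all_succ (all_succ (all_succ (all_succ (all_succ all_zero g3_0) g3_1) g3_2) g3_3) g3_4) g3_5) g3_6) g3_7) g3_8) g3_9) g3_10) g3_11) g3_12) g3_13) g3_14) g3_15) g3_16) g3_17) g3_18)
theorem g4 : ∀ d ∈ Pg4, H26.ev T0.π d.1 = H26.ev T0.π d.2 := wf0.prs lgc (all_succ (all_succ (all_succ (all_succ (all_succ (all_succ (all_succ (all_succ (all_succ (all_succ (all_succ (all_succ (all_succ (all_succ (all_succ (all_succ (all_succ (all_succ (all_succ all_zero g4_0) g4_1) g4_2) g4_3) g4_4) g4_5) g4_6) g4_7) g4_8) g4_9) g4_10) g4_11) g4_12) g4_13) g4_14) g4_15) g4_16) g4_17) g4_18)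
theorem ga : ∀ d ∈ PA, H26.ev T0.π d.1 = H26.ev T0.π d.2 := fun d hd => by
  rcases pa d hd with h | h | h | h | h
  exacts [g0 d h, g1 d h, g2 d h, g3 d h, g4 d h]
theorem inv0 : H26.InvOK T0.π (H26.invL []) := H26.Tab.invOK ga (by decide) (by decide +kernel)
theorem rel0 : H26.AllOne T0.π H26.F23.R0 := H26.relsOf_spec inv0 ga pb
theorem pi0 : ∀ k < 10, T0.π k = T.π k := fun k hk => by interval_cases k <;> rfl
theorem rels : Rels T.π H26.F23.R0 := fun r hr => (evA_congr _ fun k hk =>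
  (pi0 k (ltAll_zero (allL_sound (show allL (ltAll 10) H26.F23.R0 = true by decide +kernel) r hr) k hk)).symm).trans
    (rels_of rel0 r hr)
theorem x0 : ∀ d ∈ Px0, H26.ev T.π d.1 = H26.ev T.π d.2 := wf.prs lgc (all_succ (all_succ (all_succ (all_succ (all_succ (all_succ (all_succ (all_succ (all_succ (all_succ (all_succ (all_succ (all_succ (all_succ (all_succ (all_succ (all_succ (all_succ (all_succ all_zero x0_0) x0_1) x0_2) x0_3) x0_4) x0_5) x0_6) x0_7) x0_8) x0_9) x0_10) x0_11) x0_12) x0_13) x0_14) x0_15) x0_16) x0_17) x0_18)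
theorem x1 : ∀ d ∈ Px1, H26.ev T.π d.1 = H26.ev T.π d.2 := wf.prs lgc (all_succ (all_succ (all_succ (all_succ (all_succ (all_succ (all_succ (all_succ (all_succ (all_succ (all_succ (all_succ (all_succ (all_succ (all_succ (all_succ (all_succ (all_succ (all_succ all_zero x1_0) x1_1) x1_2) x1_3) x1_4) x1_5) x1_6) x1_7) x1_8) x1_9) x1_10) x1_11) x1_12) x1_13) x1_14) x1_15) x1_16) x1_17) x1_18)
theorem x2 : ∀ d ∈ Px2, H26.ev T.π d.1 = H26.ev T.π d.2 := wf.prs lgc (all_succ (all_succ (all_succ (all_succ (all_succ (all_succ (all_succ (all_succ (all_succ (all_succ (all_succ (all_succ (all_succ (all_succ (all_succ (all_succ (all_succ (all_succ (all_succ all_zero x2_0) x2_1) x2_2) x2_3) x2_4) x2_5) x2_6) x2_7) x2_8) x2_9) x2_10) x2_11) x2_12) x2_13) x2_14) x2_15) x2_16) x2_17) x2_18)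
theorem x3 : ∀ d ∈ Px3, H26.ev T.π d.1 = H26.ev T.π d.2 := wf.prs lgc (all_succ (all_succ (all_succ (all_succ (all_succ (all_succ (all_succ (all_succ (all_succ (all_succ (all_succ (all_succ (all_succ (all_succ (all_succ (all_succ (all_succ (all_succ (all_succ all_zero x3_0) x3_1) x3_2) x3_3) x3_4) x3_5) x3_6) x3_7) x3_8) x3_9) x3_10) x3_11) x3_12) x3_13) x3_14) x3_15) x3_16) x3_17) x3_18)
theorem x4 : ∀ d ∈ Px4, H26.ev T.π d.1 = H26.ev T.π d.2 := wf.prs lgc (all_succ (all_succ (all_succ (all_succ (all_succ (all_succ (all_succ (all_succ (all_succ (all_succ (all_succ (all_succ (all_succ (all_succ (all_succ (all_succ (all_succ (all_succ (all_succ all_zero x4_0) x4_1) x4_2) x4_3) x4_4) x4_5) x4_6) x4_7) x4_8) x4_9) x4_10) x4_11) x4_12) x4_13) x4_14) x4_15) x4_16) x4_17) x4_18)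
theorem xa : ∀ d ∈ PR, H26.ev T.π d.1 = H26.ev T.π d.2 := (List.forall_mem_append.2 ⟨(List.forall_mem_append.2 ⟨(List.forall_mem_append.2 ⟨(List.forall_mem_append.2 ⟨x0, x1⟩), x2⟩), x3⟩), x4⟩)
theorem otr : DH.OrbA (genW T.π WN) (nat_lit 0) (H26.full T.n) :=
  (DH.OrbA.step wf (mem_genW _ _) (DH.OrbA.step wf (mem_genW _ _) (DH.OrbA.zero _ _) rtr_1) rtr_2)
theorem trans : Trans (gen T.π 10) T.n := otr.trans ltc
theorem act : Act T.π id (SP T H26.F23.R0 (nat_lit 19)) T.n (nat_lit 10) := act_S wf rels ivc lgc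
theorem mmH : ∀ w ∈ IH.map (flat VH), evA T.π w ∈ genW T.π WH := DH.mem_flat (DH.sub_of xa sbH) _
theorem oH0 : DH.OrbA (genW T.π WH) (nat_lit 0) mH0_1 :=
  (DH.OrbA.step wf mmH (DH.OrbA.zero _ _) rH0_1)
theorem oH1 : DH.OrbA (genW T.π WH) (nat_lit 264) mH1_1 :=
  (DH.OrbA.step wf mmH (DH.OrbA.zero _ _) rH1_1)
theorem oH2 : DH.OrbA (genW T.π WH) (nat_lit 4) mH2_2 :=
  (DH.OrbA.step wf mmH (DH.OrbA.step wf mmH (DH.OrbA.zero _ _) rH2_1) rH2_2)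
theorem mmP : ∀ w ∈ IP.map (flat VP), evA T.π w ∈ genW T.π WP := DH.mem_flat (DH.sub_of xa sbP) _
theorem oP0 : DH.OrbA (genW T.π WP) (nat_lit 0) mP0_1 :=
  (DH.OrbA.step wf mmP (DH.OrbA.zero _ _) rP0_1)
theorem oP1 : DH.OrbA (genW T.π WP) (nat_lit 272) mP1_1 :=
  (DH.OrbA.step wf mmP (DH.OrbA.zero _ _) rP1_1)
theorem oP2 : DH.OrbA (genW T.π WP) (nat_lit 1) mP2_1 :=
  (DH.OrbA.step wf mmP (DH.OrbA.zero _ _) rP2_1)
theorem oP3 : DH.OrbA (genW T.π WP) (nat_lit 258) mP3_1 :=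
  (DH.OrbA.step wf mmP (DH.OrbA.zero _ _) rP3_1)
theorem oP4 : DH.OrbA (genW T.π WP) (nat_lit 14) mP4_1 :=
  (DH.OrbA.step wf mmP (DH.OrbA.zero _ _) rP4_1)
theorem mmA : ∀ w ∈ IA.map (flat VA), evA T.π w ∈ genW T.π WA := DH.mem_flat (DH.sub_of xa sbA) _
theorem oA0 : DH.OrbA (genW T.π WA) (nat_lit 0) mA0_1 :=
  (DH.OrbA.step wf mmA (DH.OrbA.zero _ _) rA0_1)
theorem oA1 : DH.OrbA (genW T.π WA) (nat_lit 264) mA1_1 :=
  (DH.OrbA.step wf mmA (DH.OrbA.zero _ _) rA1_1)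
theorem oA2 : DH.OrbA (genW T.π WA) (nat_lit 265) mA2_1 :=
  (DH.OrbA.step wf mmA (DH.OrbA.zero _ _) rA2_1)
theorem oA3 : DH.OrbA (genW T.π WA) (nat_lit 22) mA3_1 :=
  (DH.OrbA.step wf mmA (DH.OrbA.zero _ _) rA3_1)
theorem oA4 : DH.OrbA (genW T.π WA) (nat_lit 1536) mA4_1 :=
  (DH.OrbA.step wf mmA (DH.OrbA.zero _ _) rA4_1)
theorem oA5 : DH.OrbA (genW T.π WA) (nat_lit 10) mA5_1 :=
  (DH.OrbA.step wf mmA (DH.OrbA.zero _ _) rA5_1)
theorem oA6 : DH.OrbA (genW T.π WA) (nat_lit 256) mA6_1 :=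
  (DH.OrbA.step wf mmA (DH.OrbA.zero _ _) rA6_1)
theorem oA7 : DH.OrbA (genW T.π WA) (nat_lit 257) mA7_1 :=
  (DH.OrbA.step wf mmA (DH.OrbA.zero _ _) rA7_1)
theorem oA8 : DH.OrbA (genW T.π WA) (nat_lit 1088) mA8_1 :=
  (DH.OrbA.step wf mmA (DH.OrbA.zero _ _) rA8_1)
theorem mmO : ∀ w ∈ IO.map (flat VO), evA T.π w ∈ genW T.π WO := DH.mem_flat (DH.sub_of xa sbO) _
theorem oO0 : DH.OrbA (genW T.π WO) (nat_lit 17) (maskL [(nat_lit 17)]) :=
  (DH.OrbA.zero _ _)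
theorem oO1 : DH.OrbA (genW T.π WO) (nat_lit 2364) (maskL [(nat_lit 2364)]) :=
  (DH.OrbA.zero _ _)
theorem oO2 : DH.OrbA (genW T.π WO) (nat_lit 2365) (maskL [(nat_lit 2365)]) :=
  (DH.OrbA.zero _ _)
theorem oO3 : DH.OrbA (genW T.π WO) (nat_lit 0) mO3_1 :=
  (DH.OrbA.step wf mmO (DH.OrbA.zero _ _) rO3_1)
theorem oO4 : DH.OrbA (genW T.π WO) (nat_lit 270) mO4_1 :=
  (DH.OrbA.step wf mmO (DH.OrbA.zero _ _) rO4_1)
theorem oO5 : DH.OrbA (genW T.π WO) (nat_lit 271) mO5_1 :=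
  (DH.OrbA.step wf mmO (DH.OrbA.zero _ _) rO5_1)
theorem oO6 : DH.OrbA (genW T.π WO) (nat_lit 86) mO6_1 :=
  (DH.OrbA.step wf mmO (DH.OrbA.zero _ _) rO6_1)
theorem oO7 : DH.OrbA (genW T.π WO) (nat_lit 2) mO7_1 :=
  (DH.OrbA.step wf mmO (DH.OrbA.zero _ _) rO7_1)
theorem mmT : ∀ w ∈ IT.map (flat VT), evA T.π w ∈ genW T.π WT := DH.mem_flat (DH.sub_of xa sbT) _
theorem oT0 : DH.OrbA (genW T.π WT) (nat_lit 18) mT0_1 :=
  (DH.OrbA.step wf mmT (DH.OrbA.zero _ _) rT0_1)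
theorem oT1 : DH.OrbA (genW T.π WT) (nat_lit 0) mT1_1 :=
  (DH.OrbA.step wf mmT (DH.OrbA.zero _ _) rT1_1)
theorem oT2 : DH.OrbA (genW T.π WT) (nat_lit 1656) mT2_1 :=
  (DH.OrbA.step wf mmT (DH.OrbA.zero _ _) rT2_1)
theorem oT3 : DH.OrbA (genW T.π WT) (nat_lit 256) mT3_1 :=
  (DH.OrbA.step wf mmT (DH.OrbA.zero _ _) rT3_1)
theorem oT4 : DH.OrbA (genW T.π WT) (nat_lit 14976) mT4_1 :=
  (DH.OrbA.step wf mmT (DH.OrbA.zero _ _) rT4_1)
theorem oT5 : DH.OrbA (genW T.π WT) (nat_lit 83200) mT5_1 :=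
  (DH.OrbA.step wf mmT (DH.OrbA.zero _ _) rT5_1)
theorem oT6 : DH.OrbA (genW T.π WT) (nat_lit 2368) mT6_1 :=
  (DH.OrbA.step wf mmT (DH.OrbA.zero _ _) rT6_1)
theorem oT7 : DH.OrbA (genW T.π WT) (nat_lit 36704) mT7_1 :=
  (DH.OrbA.step wf mmT (DH.OrbA.zero _ _) rT7_1)

end H15.YB.X2
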