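import Cfsg.Agent.H15.YB.Y1.C0
import Cfsg.Agent.H15.YB.Y1.C1

/-! Generated by tools/h15/yb.py. -/

set_option maxRecDepth 100000
set_option maxHeartbeats 0
set_option Elab.async false

namespace H15.YB.Y1

open H16 H16.DC
open H26 (jn)

theorem sj0 : ∀ i < 12, (slJ T (nat_lit 12) (nth [] Ws (nat_lit 0)) (nth (BT.leaf 0) Ts (nat_lit 0))) i = 0 := allZ_sound0 sj0_0
theorem sl0 : slChk T (nat_lit 12) (nth [] Ws (nat_lit 0)) (nth (BT.leaf 0) Ts (nat_lit 0)) = true := slChk_of sj0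
theorem sj1 : ∀ i < 12, (slJ T (nat_lit 12) (nth [] Ws (nat_lit 1)) (nth (BT.leaf 0) Ts (nat_lit 1))) i = 0 := allZ_sound0 sj1_0
theorem sl1 : slChk T (nat_lit 12) (nth [] Ws (nat_lit 1)) (nth (BT.leaf 0) Ts (nat_lit 1)) = true := slChk_of sj1
theorem sj2 : ∀ i < 12, (slJ T (nat_lit 12) (nth [] Ws (nat_lit 2)) (nth (BT.leaf 0) Ts (nat_lit 2))) i = 0 := allZ_sound0 sj2_0
theorem sl2 : slChk T (nat_lit 12) (nth [] Ws (nat_lit 2)) (nth (BT.leaf 0) Ts (nat_lit 2)) = true := slChk_of sj2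
theorem sj3 : ∀ i < 12, (slJ T (nat_lit 12) (nth [] Ws (nat_lit 3)) (nth (BT.leaf 0) Ts (nat_lit 3))) i = 0 := allZ_sound0 sj3_0
theorem sl3 : slChk T (nat_lit 12) (nth [] Ws (nat_lit 3)) (nth (BT.leaf 0) Ts (nat_lit 3)) = true := slChk_of sj3
theorem sj4 : ∀ i < 12, (slJ T (nat_lit 12) (nth [] Ws (nat_lit 4)) (nth (BT.leaf 0) Ts (nat_lit 4))) i = 0 := allZ_sound0 sj4_0
theorem sl4 : slChk T (nat_lit 12) (nth [] Ws (nat_lit 4)) (nth (BT.leaf 0) Ts (nat_lit 4)) = true := slChk_of sj4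
theorem sj5 : ∀ i < 12, (slJ T (nat_lit 12) (nth [] Ws (nat_lit 5)) (nth (BT.leaf 0) Ts (nat_lit 5))) i = 0 := allZ_sound0 sj5_0
theorem sl5 : slChk T (nat_lit 12) (nth [] Ws (nat_lit 5)) (nth (BT.leaf 0) Ts (nat_lit 5)) = true := slChk_of sj5
theorem sj6 : ∀ i < 12, (slJ T (nat_lit 12) (nth [] Ws (nat_lit 6)) (nth (BT.leaf 0) Ts (nat_lit 6))) i = 0 := allZ_sound0 sj6_0
theorem sl6 : slChk T (nat_lit 12) (nth [] Ws (nat_lit 6)) (nth (BT.leaf 0) Ts (nat_lit 6)) = true := slChk_of sj6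
theorem sj7 : ∀ i < 12, (slJ T (nat_lit 12) (nth [] Ws (nat_lit 7)) (nth (BT.leaf 0) Ts (nat_lit 7))) i = 0 := allZ_sound0 sj7_0
theorem sl7 : slChk T (nat_lit 12) (nth [] Ws (nat_lit 7)) (nth (BT.leaf 0) Ts (nat_lit 7)) = true := slChk_of sj7
theorem sj8 : ∀ i < 12, (slJ T (nat_lit 12) (nth [] Ws (nat_lit 8)) (nth (BT.leaf 0) Ts (nat_lit 8))) i = 0 := allZ_sound0 sj8_0
theorem sl8 : slChk T (nat_lit 12) (nth [] Ws (nat_lit 8)) (nth (BT.leaf 0) Ts (nat_lit 8)) = true := slChk_of sj8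
theorem sj9 : ∀ i < 12, (slJ T (nat_lit 12) (nth [] Ws (nat_lit 9)) (nth (BT.leaf 0) Ts (nat_lit 9))) i = 0 := allZ_sound0 sj9_0
theorem sl9 : slChk T (nat_lit 12) (nth [] Ws (nat_lit 9)) (nth (BT.leaf 0) Ts (nat_lit 9)) = true := slChk_of sj9
theorem sj10 : ∀ i < 12, (slJ T (nat_lit 12) (nth [] Ws (nat_lit 10)) (nth (BT.leaf 0) Ts (nat_lit 10))) i = 0 := allZ_sound0 sj10_0
theorem sl10 : slChk T (nat_lit 12) (nth [] Ws (nat_lit 10)) (nth (BT.leaf 0) Ts (nat_lit 10)) = true := slChk_of sj10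
theorem sj11 : ∀ i < 12, (slJ T (nat_lit 12) (nth [] Ws (nat_lit 11)) (nth (BT.leaf 0) Ts (nat_lit 11))) i = 0 := allZ_sound0 sj11_0
theorem sl11 : slChk T (nat_lit 12) (nth [] Ws (nat_lit 11)) (nth (BT.leaf 0) Ts (nat_lit 11)) = true := slChk_of sj11
theorem sj12 : ∀ i < 12, (slJ T (nat_lit 12) (nth [] Ws (nat_lit 12)) (nth (BT.leaf 0) Ts (nat_lit 12))) i = 0 := allZ_sound0 sj12_0
theorem sl12 : slChk T (nat_lit 12) (nth [] Ws (nat_lit 12)) (nth (BT.leaf 0) Ts (nat_lit 12)) = true := slChk_of sj12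
theorem sj13 : ∀ i < 12, (slJ T (nat_lit 12) (nth [] Ws (nat_lit 13)) (nth (BT.leaf 0) Ts (nat_lit 13))) i = 0 := allZ_sound0 sj13_0
theorem sl13 : slChk T (nat_lit 12) (nth [] Ws (nat_lit 13)) (nth (BT.leaf 0) Ts (nat_lit 13)) = true := slChk_of sj13
theorem sj14 : ∀ i < 12, (slJ T (nat_lit 12) (nth [] Ws (nat_lit 14)) (nth (BT.leaf 0) Ts (nat_lit 14))) i = 0 := allZ_sound0 sj14_0
theorem sl14 : slChk T (nat_lit 12) (nth [] Ws (nat_lit 14)) (nth (BT.leaf 0) Ts (nat_lit 14)) = true := slChk_of sj14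
theorem sj15 : ∀ i < 12, (slJ T (nat_lit 12) (nth [] Ws (nat_lit 15)) (nth (BT.leaf 0) Ts (nat_lit 15))) i = 0 := allZ_sound0 sj15_0
theorem sl15 : slChk T (nat_lit 12) (nth [] Ws (nat_lit 15)) (nth (BT.leaf 0) Ts (nat_lit 15)) = true := slChk_of sj15
theorem sj16 : ∀ i < 12, (slJ T (nat_lit 12) (nth [] Ws (nat_lit 16)) (nth (BT.leaf 0) Ts (nat_lit 16))) i = 0 := allZ_sound0 sj16_0
theorem sl16 : slChk T (nat_lit 12) (nth [] Ws (nat_lit 16)) (nth (BT.leaf 0) Ts (nat_lit 16)) = true := slChk_of sj16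
theorem sj17 : ∀ i < 12, (slJ T (nat_lit 12) (nth [] Ws (nat_lit 17)) (nth (BT.leaf 0) Ts (nat_lit 17))) i = 0 := allZ_sound0 sj17_0
theorem sl17 : slChk T (nat_lit 12) (nth [] Ws (nat_lit 17)) (nth (BT.leaf 0) Ts (nat_lit 17)) = true := slChk_of sj17
theorem sj18 : ∀ i < 12, (slJ T (nat_lit 12) (nth [] Ws (nat_lit 18)) (nth (BT.leaf 0) Ts (nat_lit 18))) i = 0 := allZ_sound0 sj18_0
theorem sl18 : slChk T (nat_lit 12) (nth [] Ws (nat_lit 18)) (nth (BT.leaf 0) Ts (nat_lit 18)) = true := slChk_of sj18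
theorem sj19 : ∀ i < 12, (slJ T (nat_lit 12) (nth [] Ws (nat_lit 19)) (nth (BT.leaf 0) Ts (nat_lit 19))) i = 0 := allZ_sound0 sj19_0
theorem sl19 : slChk T (nat_lit 12) (nth [] Ws (nat_lit 19)) (nth (BT.leaf 0) Ts (nat_lit 19)) = true := slChk_of sj19
theorem sj20 : ∀ i < 12, (slJ T (nat_lit 12) (nth [] Ws (nat_lit 20)) (nth (BT.leaf 0) Ts (nat_lit 20))) i = 0 := allZ_sound0 sj20_0
theorem sl20 : slChk T (nat_lit 12) (nth [] Ws (nat_lit 20)) (nth (BT.leaf 0) Ts (nat_lit 20)) = true := slChk_of sj20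
theorem sj21 : ∀ i < 12, (slJ T (nat_lit 12) (nth [] Ws (nat_lit 21)) (nth (BT.leaf 0) Ts (nat_lit 21))) i = 0 := allZ_sound0 sj21_0
theorem sl21 : slChk T (nat_lit 12) (nth [] Ws (nat_lit 21)) (nth (BT.leaf 0) Ts (nat_lit 21)) = true := slChk_of sj21
theorem sj22 : ∀ i < 12, (slJ T (nat_lit 12) (nth [] Ws (nat_lit 22)) (nth (BT.leaf 0) Ts (nat_lit 22))) i = 0 := allZ_sound0 sj22_0
theorem sl22 : slChk T (nat_lit 12) (nth [] Ws (nat_lit 22)) (nth (BT.leaf 0) Ts (nat_lit 22)) = true := slChk_of sj22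
theorem sj23 : ∀ i < 12, (slJ T (nat_lit 12) (nth [] Ws (nat_lit 23)) (nth (BT.leaf 0) Ts (nat_lit 23))) i = 0 := allZ_sound0 sj23_0
theorem sl23 : slChk T (nat_lit 12) (nth [] Ws (nat_lit 23)) (nth (BT.leaf 0) Ts (nat_lit 23)) = true := slChk_of sj23
theorem sj24 : ∀ i < 12, (slJ T (nat_lit 12) (nth [] Ws (nat_lit 24)) (nth (BT.leaf 0) Ts (nat_lit 24))) i = 0 := allZ_sound0 sj24_0
theorem sl24 : slChk T (nat_lit 12) (nth [] Ws (nat_lit 24)) (nth (BT.leaf 0) Ts (nat_lit 24)) = true := slChk_of sj24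
theorem sj25 : ∀ i < 12, (slJ T (nat_lit 12) (nth [] Ws (nat_lit 25)) (nth (BT.leaf 0) Ts (nat_lit 25))) i = 0 := allZ_sound0 sj25_0
theorem sl25 : slChk T (nat_lit 12) (nth [] Ws (nat_lit 25)) (nth (BT.leaf 0) Ts (nat_lit 25)) = true := slChk_of sj25
theorem sj26 : ∀ i < 12, (slJ T (nat_lit 12) (nth [] Ws (nat_lit 26)) (nth (BT.leaf 0) Ts (nat_lit 26))) i = 0 := allZ_sound0 sj26_0
theorem sl26 : slChk T (nat_lit 12) (nth [] Ws (nat_lit 26)) (nth (BT.leaf 0) Ts (nat_lit 26)) = true := slChk_of sj26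
theorem sj27 : ∀ i < 12, (slJ T (nat_lit 12) (nth [] Ws (nat_lit 27)) (nth (BT.leaf 0) Ts (nat_lit 27))) i = 0 := allZ_sound0 sj27_0
theorem sl27 : slChk T (nat_lit 12) (nth [] Ws (nat_lit 27)) (nth (BT.leaf 0) Ts (nat_lit 27)) = true := slChk_of sj27
theorem sj28 : ∀ i < 12, (slJ T (nat_lit 12) (nth [] Ws (nat_lit 28)) (nth (BT.leaf 0) Ts (nat_lit 28))) i = 0 := allZ_sound0 sj28_0
theorem sl28 : slChk T (nat_lit 12) (nth [] Ws (nat_lit 28)) (nth (BT.leaf 0) Ts (nat_lit 28)) = true := slChk_of sj28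
theorem sj29 : ∀ i < 12, (slJ T (nat_lit 12) (nth [] Ws (nat_lit 29)) (nth (BT.leaf 0) Ts (nat_lit 29))) i = 0 := allZ_sound0 sj29_0
theorem sl29 : slChk T (nat_lit 12) (nth [] Ws (nat_lit 29)) (nth (BT.leaf 0) Ts (nat_lit 29)) = true := slChk_of sj29
theorem sj30 : ∀ i < 12, (slJ T (nat_lit 12) (nth [] Ws (nat_lit 30)) (nth (BT.leaf 0) Ts (nat_lit 30))) i = 0 := allZ_sound0 sj30_0
theorem sl30 : slChk T (nat_lit 12) (nth [] Ws (nat_lit 30)) (nth (BT.leaf 0) Ts (nat_lit 30)) = true := slChk_of sj30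
theorem sj31 : ∀ i < 12, (slJ T (nat_lit 12) (nth [] Ws (nat_lit 31)) (nth (BT.leaf 0) Ts (nat_lit 31))) i = 0 := allZ_sound0 sj31_0
theorem sl31 : slChk T (nat_lit 12) (nth [] Ws (nat_lit 31)) (nth (BT.leaf 0) Ts (nat_lit 31)) = true := slChk_of sj31
theorem sj32 : ∀ i < 12, (slJ T (nat_lit 12) (nth [] Ws (nat_lit 32)) (nth (BT.leaf 0) Ts (nat_lit 32))) i = 0 := allZ_sound0 sj32_0
theorem sl32 : slChk T (nat_lit 12) (nth [] Ws (nat_lit 32)) (nth (BT.leaf 0) Ts (nat_lit 32)) = true := slChk_of sj32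
theorem sj33 : ∀ i < 12, (slJ T (nat_lit 12) (nth [] Ws (nat_lit 33)) (nth (BT.leaf 0) Ts (nat_lit 33))) i = 0 := allZ_sound0 sj33_0
theorem sl33 : slChk T (nat_lit 12) (nth [] Ws (nat_lit 33)) (nth (BT.leaf 0) Ts (nat_lit 33)) = true := slChk_of sj33
theorem sj34 : ∀ i < 12, (slJ T (nat_lit 12) (nth [] Ws (nat_lit 34)) (nth (BT.leaf 0) Ts (nat_lit 34))) i = 0 := allZ_sound0 sj34_0
theorem sl34 : slChk T (nat_lit 12) (nth [] Ws (nat_lit 34)) (nth (BT.leaf 0) Ts (nat_lit 34)) = true := slChk_of sj34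
theorem sj35 : ∀ i < 12, (slJ T (nat_lit 12) (nth [] Ws (nat_lit 35)) (nth (BT.leaf 0) Ts (nat_lit 35))) i = 0 := allZ_sound0 sj35_0
theorem sl35 : slChk T (nat_lit 12) (nth [] Ws (nat_lit 35)) (nth (BT.leaf 0) Ts (nat_lit 35)) = true := slChk_of sj35
theorem sj36 : ∀ i < 12, (slJ T (nat_lit 12) (nth [] Ws (nat_lit 36)) (nth (BT.leaf 0) Ts (nat_lit 36))) i = 0 := allZ_sound0 sj36_0
theorem sl36 : slChk T (nat_lit 12) (nth [] Ws (nat_lit 36)) (nth (BT.leaf 0) Ts (nat_lit 36)) = true := slChk_of sj36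
theorem sj37 : ∀ i < 12, (slJ T (nat_lit 12) (nth [] Ws (nat_lit 37)) (nth (BT.leaf 0) Ts (nat_lit 37))) i = 0 := allZ_sound0 sj37_0
theorem sl37 : slChk T (nat_lit 12) (nth [] Ws (nat_lit 37)) (nth (BT.leaf 0) Ts (nat_lit 37)) = true := slChk_of sj37
theorem sj38 : ∀ i < 12, (slJ T (nat_lit 12) (nth [] Ws (nat_lit 38)) (nth (BT.leaf 0) Ts (nat_lit 38))) i = 0 := allZ_sound0 sj38_0
theorem sl38 : slChk T (nat_lit 12) (nth [] Ws (nat_lit 38)) (nth (BT.leaf 0) Ts (nat_lit 38)) = true := slChk_of sj38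
theorem sj39 : ∀ i < 12, (slJ T (nat_lit 12) (nth [] Ws (nat_lit 39)) (nth (BT.leaf 0) Ts (nat_lit 39))) i = 0 := allZ_sound0 sj39_0
theorem sl39 : slChk T (nat_lit 12) (nth [] Ws (nat_lit 39)) (nth (BT.leaf 0) Ts (nat_lit 39)) = true := slChk_of sj39
theorem sj40 : ∀ i < 12, (slJ T (nat_lit 12) (nth [] Ws (nat_lit 40)) (nth (BT.leaf 0) Ts (nat_lit 40))) i = 0 := allZ_sound0 sj40_0
theorem sl40 : slChk T (nat_lit 12) (nth [] Ws (nat_lit 40)) (nth (BT.leaf 0) Ts (nat_lit 40)) = true := slChk_of sj40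
theorem sj41 : ∀ i < 12, (slJ T (nat_lit 12) (nth [] Ws (nat_lit 41)) (nth (BT.leaf 0) Ts (nat_lit 41))) i = 0 := allZ_sound0 sj41_0
theorem sl41 : slChk T (nat_lit 12) (nth [] Ws (nat_lit 41)) (nth (BT.leaf 0) Ts (nat_lit 41)) = true := slChk_of sj41
theorem sj42 : ∀ i < 12, (slJ T (nat_lit 12) (nth [] Ws (nat_lit 42)) (nth (BT.leaf 0) Ts (nat_lit 42))) i = 0 := allZ_sound0 sj42_0
theorem sl42 : slChk T (nat_lit 12) (nth [] Ws (nat_lit 42)) (nth (BT.leaf 0) Ts (nat_lit 42)) = true := slChk_of sj42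
theorem sj43 : ∀ i < 12, (slJ T (nat_lit 12) (nth [] Ws (nat_lit 43)) (nth (BT.leaf 0) Ts (nat_lit 43))) i = 0 := allZ_sound0 sj43_0
theorem sl43 : slChk T (nat_lit 12) (nth [] Ws (nat_lit 43)) (nth (BT.leaf 0) Ts (nat_lit 43)) = true := slChk_of sj43
theorem sj44 : ∀ i < 12, (slJ T (nat_lit 12) (nth [] Ws (nat_lit 44)) (nth (BT.leaf 0) Ts (nat_lit 44))) i = 0 := allZ_sound0 sj44_0
theorem sl44 : slChk T (nat_lit 12) (nth [] Ws (nat_lit 44)) (nth (BT.leaf 0) Ts (nat_lit 44)) = true := slChk_of sj44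
theorem sj45 : ∀ i < 12, (slJ T (nat_lit 12) (nth [] Ws (nat_lit 45)) (nth (BT.leaf 0) Ts (nat_lit 45))) i = 0 := allZ_sound0 sj45_0
theorem sl45 : slChk T (nat_lit 12) (nth [] Ws (nat_lit 45)) (nth (BT.leaf 0) Ts (nat_lit 45)) = true := slChk_of sj45
theorem sj46 : ∀ i < 12, (slJ T (nat_lit 12) (nth [] Ws (nat_lit 46)) (nth (BT.leaf 0) Ts (nat_lit 46))) i = 0 := allZ_sound0 sj46_0
theorem sl46 : slChk T (nat_lit 12) (nth [] Ws (nat_lit 46)) (nth (BT.leaf 0) Ts (nat_lit 46)) = true := slChk_of sj46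
theorem sj47 : ∀ i < 12, (slJ T (nat_lit 12) (nth [] Ws (nat_lit 47)) (nth (BT.leaf 0) Ts (nat_lit 47))) i = 0 := allZ_sound0 sj47_0
theorem sl47 : slChk T (nat_lit 12) (nth [] Ws (nat_lit 47)) (nth (BT.leaf 0) Ts (nat_lit 47)) = true := slChk_of sj47
theorem sj48 : ∀ i < 12, (slJ T (nat_lit 12) (nth [] Ws (nat_lit 48)) (nth (BT.leaf 0) Ts (nat_lit 48))) i = 0 := allZ_sound0 sj48_0
theorem sl48 : slChk T (nat_lit 12) (nth [] Ws (nat_lit 48)) (nth (BT.leaf 0) Ts (nat_lit 48)) = true := slChk_of sj48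
theorem sj49 : ∀ i < 12, (slJ T (nat_lit 12) (nth [] Ws (nat_lit 49)) (nth (BT.leaf 0) Ts (nat_lit 49))) i = 0 := allZ_sound0 sj49_0
theorem sl49 : slChk T (nat_lit 12) (nth [] Ws (nat_lit 49)) (nth (BT.leaf 0) Ts (nat_lit 49)) = true := slChk_of sj49
theorem sj50 : ∀ i < 12, (slJ T (nat_lit 12) (nth [] Ws (nat_lit 50)) (nth (BT.leaf 0) Ts (nat_lit 50))) i = 0 := allZ_sound0 sj50_0
theorem sl50 : slChk T (nat_lit 12) (nth [] Ws (nat_lit 50)) (nth (BT.leaf 0) Ts (nat_lit 50)) = true := slChk_of sj50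
theorem sj51 : ∀ i < 12, (slJ T (nat_lit 12) (nth [] Ws (nat_lit 51)) (nth (BT.leaf 0) Ts (nat_lit 51))) i = 0 := allZ_sound0 sj51_0
theorem sl51 : slChk T (nat_lit 12) (nth [] Ws (nat_lit 51)) (nth (BT.leaf 0) Ts (nat_lit 51)) = true := slChk_of sj51
theorem sj52 : ∀ i < 12, (slJ T (nat_lit 12) (nth [] Ws (nat_lit 52)) (nth (BT.leaf 0) Ts (nat_lit 52))) i = 0 := allZ_sound0 sj52_0
theorem sl52 : slChk T (nat_lit 12) (nth [] Ws (nat_lit 52)) (nth (BT.leaf 0) Ts (nat_lit 52)) = true := slChk_of sj52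
theorem sj53 : ∀ i < 12, (slJ T (nat_lit 12) (nth [] Ws (nat_lit 53)) (nth (BT.leaf 0) Ts (nat_lit 53))) i = 0 := allZ_sound0 sj53_0
theorem sl53 : slChk T (nat_lit 12) (nth [] Ws (nat_lit 53)) (nth (BT.leaf 0) Ts (nat_lit 53)) = true := slChk_of sj53
theorem sj54 : ∀ i < 12, (slJ T (nat_lit 12) (nth [] Ws (nat_lit 54)) (nth (BT.leaf 0) Ts (nat_lit 54))) i = 0 := allZ_sound0 sj54_0
theorem sl54 : slChk T (nat_lit 12) (nth [] Ws (nat_lit 54)) (nth (BT.leaf 0) Ts (nat_lit 54)) = true := slChk_of sj54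
theorem sj55 : ∀ i < 12, (slJ T (nat_lit 12) (nth [] Ws (nat_lit 55)) (nth (BT.leaf 0) Ts (nat_lit 55))) i = 0 := allZ_sound0 sj55_0
theorem sl55 : slChk T (nat_lit 12) (nth [] Ws (nat_lit 55)) (nth (BT.leaf 0) Ts (nat_lit 55)) = true := slChk_of sj55
theorem sj56 : ∀ i < 12, (slJ T (nat_lit 12) (nth [] Ws (nat_lit 56)) (nth (BT.leaf 0) Ts (nat_lit 56))) i = 0 := allZ_sound0 sj56_0
theorem sl56 : slChk T (nat_lit 12) (nth [] Ws (nat_lit 56)) (nth (BT.leaf 0) Ts (nat_lit 56)) = true := slChk_of sj56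
theorem sj57 : ∀ i < 12, (slJ T (nat_lit 12) (nth [] Ws (nat_lit 57)) (nth (BT.leaf 0) Ts (nat_lit 57))) i = 0 := allZ_sound0 sj57_0
theorem sl57 : slChk T (nat_lit 12) (nth [] Ws (nat_lit 57)) (nth (BT.leaf 0) Ts (nat_lit 57)) = true := slChk_of sj57
theorem sj58 : ∀ i < 12, (slJ T (nat_lit 12) (nth [] Ws (nat_lit 58)) (nth (BT.leaf 0) Ts (nat_lit 58))) i = 0 := allZ_sound0 sj58_0
theorem sl58 : slChk T (nat_lit 12) (nth [] Ws (nat_lit 58)) (nth (BT.leaf 0) Ts (nat_lit 58)) = true := slChk_of sj58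
theorem sj59 : ∀ i < 12, (slJ T (nat_lit 12) (nth [] Ws (nat_lit 59)) (nth (BT.leaf 0) Ts (nat_lit 59))) i = 0 := allZ_sound0 sj59_0
theorem sl59 : slChk T (nat_lit 12) (nth [] Ws (nat_lit 59)) (nth (BT.leaf 0) Ts (nat_lit 59)) = true := slChk_of sj59
theorem sj60 : ∀ i < 12, (slJ T (nat_lit 12) (nth [] Ws (nat_lit 60)) (nth (BT.leaf 0) Ts (nat_lit 60))) i = 0 := allZ_sound0 sj60_0
theorem sl60 : slChk T (nat_lit 12) (nth [] Ws (nat_lit 60)) (nth (BT.leaf 0) Ts (nat_lit 60)) = true := slChk_of sj60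
theorem sj61 : ∀ i < 12, (slJ T (nat_lit 12) (nth [] Ws (nat_lit 61)) (nth (BT.leaf 0) Ts (nat_lit 61))) i = 0 := allZ_sound0 sj61_0
theorem sl61 : slChk T (nat_lit 12) (nth [] Ws (nat_lit 61)) (nth (BT.leaf 0) Ts (nat_lit 61)) = true := slChk_of sj61
theorem sj62 : ∀ i < 12, (slJ T (nat_lit 12) (nth [] Ws (nat_lit 62)) (nth (BT.leaf 0) Ts (nat_lit 62))) i = 0 := allZ_sound0 sj62_0
theorem sl62 : slChk T (nat_lit 12) (nth [] Ws (nat_lit 62)) (nth (BT.leaf 0) Ts (nat_lit 62)) = true := slChk_of sj62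
theorem act : Act (wds T.π Ws) id q.P T.n q.Ks := act_sl wf hd (all_succ (all_succ (all_succ (all_succ (all_succ (all_succ (all_succ (all_succ (all_succ (all_succ (all_succ (all_succ (all_succ (all_succ (all_succ (all_succ (all_succ (all_succ (all_succ (all_succ (all_succ (all_succ (all_succ (all_succ (all_succ (all_succ (all_succ (all_succ (all_succ (all_succ (all_succ (all_succ (all_succ (all_succ (all_succ (all_succ (all_succ (all_succ (all_succ (all_succ (all_succ (all_succ (all_succ (all_succ (all_succ (all_succ (all_succ (all_succ (all_succ (all_succ (all_succ (all_succ (all_succ (all_succ (all_succ (all_succ (all_succ (all_succ (all_succ (all_succ (all_succ (all_succ (all_succ all_zero sl0) sl1) sl2) sl3) sl4) sl5) sl6) sl7) sl8) sl9) sl10) sl11) sl12) sl13) sl14) sl15) sl16) sl17) sl18) sl19) sl20) sl21) sl22) sl23) sl24) sl25) sl26) sl27) sl28) sl29) sl30) sl31) sl32)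 sl33) sl34) sl35) sl36) sl37) sl38) sl39) sl40) sl41) sl42) sl43) sl44) sl45) sl46) sl47) sl48) sl49) sl50) sl51) sl52) sl53) sl54) sl55) sl56) sl57) sl58) sl59) sl60) sl61) sl62)
theorem act0 : Act T.π id P T.n (nat_lit 9) := act.sing sg
theorem ms0 : ∀ w ∈ pick Ws [nat_lit 0, nat_lit 1, nat_lit 2, nat_lit 3, nat_lit 4, nat_lit 5, nat_lit 6, nat_lit 7, nat_lit 8], evA T.π w ∈ stab (gen T.π 9) [] := DH.mem_stab_of act0 (DH.mem_of_lt _ wc) fx0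
theorem o0 : DH.OrbA (stab (gen T.π 9) []) (nat_lit 0) m0_1 :=
  (DH.OrbA.step wf ms0 (DH.OrbA.zero _ _) r0_1)
theorem low0 : Low (gen T.π 9) [nat_lit 0] 3510 :=
  have := (supp_gen wf 9).finite; DH.low_step (Low.nil (gen T.π 9)) o0 pp0
theorem ms1 : ∀ w ∈ pick Ws [nat_lit 15, nat_lit 19, nat_lit 20, nat_lit 31, nat_lit 33, nat_lit 48, nat_lit 51, nat_lit 60], evA T.π w ∈ stab (gen T.π 9) [nat_lit 0] := DH.mem_stab_of act0 (DH.mem_of_lt _ wc) fx1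
theorem o1 : DH.OrbA (stab (gen T.π 9) [nat_lit 0]) (nat_lit 2030) m1_1 :=
  (DH.OrbA.step wf ms1 (DH.OrbA.zero _ _) r1_1)
theorem low1 : Low (gen T.π 9) [nat_lit 2030, nat_lit 0] 9884160 :=
  have := (supp_gen wf 9).finite; DH.low_step (low0) o1 pp1
theorem ms2 : ∀ w ∈ pick Ws [nat_lit 26, nat_lit 31, nat_lit 33, nat_lit 48, nat_lit 51, nat_lit 60], evA T.π w ∈ stab (gen T.π 9) [nat_lit 2030, nat_lit 0] := DH.mem_stab_of act0 (DH.mem_of_lt _ wc) fx2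
theorem o2 : DH.OrbA (stab (gen T.π 9) [nat_lit 2030, nat_lit 0]) (nat_lit 3117) m2_1 :=
  (DH.OrbA.step wf ms2 (DH.OrbA.zero _ _) r2_1)
theorem low2 : Low (gen T.π 9) [nat_lit 3117, nat_lit 2030, nat_lit 0] 16605388800 :=
  have := (supp_gen wf 9).finite; DH.low_step (low1) o2 pp2
theorem ms3 : ∀ w ∈ pick Ws [nat_lit 41, nat_lit 44, nat_lit 46, nat_lit 48, nat_lit 51, nat_lit 60], evA T.π w ∈ stab (gen T.π 9) [nat_lit 3117, nat_lit 2030, nat_lit 0] := DH.mem_stab_of act0 (DH.mem_of_lt _ wc) fx3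
theorem o3 : DH.OrbA (stab (gen T.π 9) [nat_lit 3117, nat_lit 2030, nat_lit 0]) (nat_lit 1842) m3_1 :=
  (DH.OrbA.step wf ms3 (DH.OrbA.zero _ _) r3_1)
theorem low3 : Low (gen T.π 9) [nat_lit 1842, nat_lit 3117, nat_lit 2030, nat_lit 0] 4035109478400 :=
  have := (supp_gen wf 9).finite; DH.low_step (low2) o3 pp3
theorem ms4 : ∀ w ∈ pick Ws [nat_lit 48, nat_lit 51, nat_lit 57, nat_lit 60], evA T.π w ∈ stab (gen T.π 9) [nat_lit 1842, nat_lit 3117, nat_lit 2030, nat_lit 0] := DH.mem_stab_of act0 (DH.mem_of_lt _ wc) fx4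
theorem o4 : DH.OrbA (stab (gen T.π 9) [nat_lit 1842, nat_lit 3117, nat_lit 2030, nat_lit 0]) (nat_lit 1935) m4_1 :=
  (DH.OrbA.step wf ms4 (DH.OrbA.zero _ _) r4_1)
theorem low4 : Low (gen T.π 9) [nat_lit 1935, nat_lit 1842, nat_lit 3117, nat_lit 2030, nat_lit 0] 64561751654400 :=
  have := (supp_gen wf 9).finite; DH.low_step (low3) o4 pp4
theorem card : Nat.card (gen T.π 9) = 64561751654400 := card22
theorem ok : q.OK (gen T.π 9) (wds T.π Ws) :=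
  DH.SF.OK.of wf act low4 card rfl qc (by decide +kernel)
theorem msK0 : ∀ w ∈ pick WK [nat_lit 0, nat_lit 1, nat_lit 2, nat_lit 3, nat_lit 4, nat_lit 5, nat_lit 6, nat_lit 7], evA T.π w ∈ stab (genW T.π UK) [] := DH.mem_stab_of act0 (DH.mem_of_lets _ wcK) fxK0
theorem oK0 : DH.OrbA (stab (genW T.π UK) []) (nat_lit 3423) mK0_1 :=
  (DH.OrbA.step wf msK0 (DH.OrbA.zero _ _) rK0_1)
theorem lowK0 : Low (genW T.π UK) [nat_lit 3423] 3159 :=
  have := DH.fin_genW wf ucK; DH.low_step (Low.nil (genW T.π UK)) oK0 ppK0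
theorem msK1 : ∀ w ∈ pick WK [nat_lit 8, nat_lit 9, nat_lit 10, nat_lit 11, nat_lit 15], evA T.π w ∈ stab (genW T.π UK) [nat_lit 3423] := DH.mem_stab_of act0 (DH.mem_of_lets _ wcK) fxK1
theorem oK1 : DH.OrbA (stab (genW T.π UK) [nat_lit 3423]) (nat_lit 1596) mK1_1 :=
  (DH.OrbA.step wf msK1 (DH.OrbA.zero _ _) rK1_1)
theorem lowK1 : Low (genW T.π UK) [nat_lit 1596, nat_lit 3423] 7076160 :=
  have := DH.fin_genW wf ucK; DH.low_step (lowK0) oK1 ppK1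
theorem msK2 : ∀ w ∈ pick WK [nat_lit 16, nat_lit 17, nat_lit 18, nat_lit 19, nat_lit 20, nat_lit 23], evA T.π w ∈ stab (genW T.π UK) [nat_lit 1596, nat_lit 3423] := DH.mem_stab_of act0 (DH.mem_of_lets _ wcK) fxK2
theorem oK2 : DH.OrbA (stab (genW T.π UK) [nat_lit 1596, nat_lit 3423]) (nat_lit 0) mK2_1 :=
  (DH.OrbA.step wf msK2 (DH.OrbA.zero _ _) rK2_1)
theorem lowK2 : Low (genW T.π UK) [nat_lit 0, nat_lit 1596, nat_lit 3423] 4585351680 :=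
  have := DH.fin_genW wf ucK; DH.low_step (lowK1) oK2 ppK2
theorem lowK : ∃ B, Low (genW T.π UK) B 4585351680 := ⟨_, lowK2⟩
theorem msS0 : ∀ w ∈ pick WS [nat_lit 0, nat_lit 1, nat_lit 2, nat_lit 3, nat_lit 4, nat_lit 5, nat_lit 6, nat_lit 7], evA T.π w ∈ stab (genW T.π US) [] := DH.mem_stab_of act0 (DH.mem_of_lets _ wcS) fxS0
theorem oS0 : DH.OrbA (stab (genW T.π US) []) (nat_lit 2722) mS0_1 :=
  (DH.OrbA.step wf msS0 (DH.OrbA.zero _ _) rS0_1)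
theorem lowS0 : Low (genW T.π US) [nat_lit 2722] 3159 :=
  have := DH.fin_genW wf ucS; DH.low_step (Low.nil (genW T.π US)) oS0 ppS0
theorem msS1 : ∀ w ∈ pick WS [nat_lit 8, nat_lit 9, nat_lit 10, nat_lit 12, nat_lit 13], evA T.π w ∈ stab (genW T.π US) [nat_lit 2722] := DH.mem_stab_of act0 (DH.mem_of_lets _ wcS) fxS1
theorem oS1 : DH.OrbA (stab (genW T.π US) [nat_lit 2722]) (nat_lit 708) mS1_1 :=
  (DH.OrbA.step wf msS1 (DH.OrbA.zero _ _) rS1_1)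
theorem lowS1 : Low (genW T.π US) [nat_lit 708, nat_lit 2722] 7076160 :=
  have := DH.fin_genW wf ucS; DH.low_step (lowS0) oS1 ppS1
theorem msS2 : ∀ w ∈ pick WS [nat_lit 16, nat_lit 17, nat_lit 18, nat_lit 19], evA T.π w ∈ stab (genW T.π US) [nat_lit 708, nat_lit 2722] := DH.mem_stab_of act0 (DH.mem_of_lets _ wcS) fxS2
theorem oS2 : DH.OrbA (stab (genW T.π US) [nat_lit 708, nat_lit 2722]) (nat_lit 3) mS2_1 :=
  (DH.OrbA.step wf msS2 (DH.OrbA.zero _ _) rS2_1)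
theorem lowS2 : Low (genW T.π US) [nat_lit 3, nat_lit 708, nat_lit 2722] 4585351680 :=
  have := DH.fin_genW wf ucS; DH.low_step (lowS1) oS2 ppS2
theorem lowS : ∃ B, Low (genW T.π US) B 4585351680 := ⟨_, lowS2⟩

end H15.YB.Y1
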