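import Cfsg.Agent.H15.YB.Y2.C0
import Cfsg.Agent.H15.YB.Y2.C1

/-! Generated by tools/h15/yb.py. -/

set_option maxRecDepth 100000
set_option maxHeartbeats 0
set_option Elab.async false

namespace H15.YB.Y2

open H16 H16.DC
open H26 (jn)

theorem sj0 : ∀ i < 15, (slJ T (nat_lit 15) (nth [] Ws (nat_lit 0)) (nth (BT.leaf 0) Ts (nat_lit 0))) i = 0 := allZ_sound0 sj0_0
theorem sl0 : slChk T (nat_lit 15) (nth [] Ws (nat_lit 0)) (nth (BT.leaf 0) Ts (nat_lit 0)) = true := slChk_of sj0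
theorem sj1 : ∀ i < 15, (slJ T (nat_lit 15) (nth [] Ws (nat_lit 1)) (nth (BT.leaf 0) Ts (nat_lit 1))) i = 0 := allZ_sound0 sj1_0
theorem sl1 : slChk T (nat_lit 15) (nth [] Ws (nat_lit 1)) (nth (BT.leaf 0) Ts (nat_lit 1)) = true := slChk_of sj1
theorem sj2 : ∀ i < 15, (slJ T (nat_lit 15) (nth [] Ws (nat_lit 2)) (nth (BT.leaf 0) Ts (nat_lit 2))) i = 0 := allZ_sound0 sj2_0
theorem sl2 : slChk T (nat_lit 15) (nth [] Ws (nat_lit 2)) (nth (BT.leaf 0) Ts (nat_lit 2)) = true := slChk_of sj2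
theorem sj3 : ∀ i < 15, (slJ T (nat_lit 15) (nth [] Ws (nat_lit 3)) (nth (BT.leaf 0) Ts (nat_lit 3))) i = 0 := allZ_sound0 sj3_0
theorem sl3 : slChk T (nat_lit 15) (nth [] Ws (nat_lit 3)) (nth (BT.leaf 0) Ts (nat_lit 3)) = true := slChk_of sj3
theorem sj4 : ∀ i < 15, (slJ T (nat_lit 15) (nth [] Ws (nat_lit 4)) (nth (BT.leaf 0) Ts (nat_lit 4))) i = 0 := allZ_sound0 sj4_0
theorem sl4 : slChk T (nat_lit 15) (nth [] Ws (nat_lit 4)) (nth (BT.leaf 0) Ts (nat_lit 4)) = true := slChk_of sj4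
theorem sj5 : ∀ i < 15, (slJ T (nat_lit 15) (nth [] Ws (nat_lit 5)) (nth (BT.leaf 0) Ts (nat_lit 5))) i = 0 := allZ_sound0 sj5_0
theorem sl5 : slChk T (nat_lit 15) (nth [] Ws (nat_lit 5)) (nth (BT.leaf 0) Ts (nat_lit 5)) = true := slChk_of sj5
theorem sj6 : ∀ i < 15, (slJ T (nat_lit 15) (nth [] Ws (nat_lit 6)) (nth (BT.leaf 0) Ts (nat_lit 6))) i = 0 := allZ_sound0 sj6_0
theorem sl6 : slChk T (nat_lit 15) (nth [] Ws (nat_lit 6)) (nth (BT.leaf 0) Ts (nat_lit 6)) = true := slChk_of sj6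
theorem sj7 : ∀ i < 15, (slJ T (nat_lit 15) (nth [] Ws (nat_lit 7)) (nth (BT.leaf 0) Ts (nat_lit 7))) i = 0 := allZ_sound0 sj7_0
theorem sl7 : slChk T (nat_lit 15) (nth [] Ws (nat_lit 7)) (nth (BT.leaf 0) Ts (nat_lit 7)) = true := slChk_of sj7
theorem sj8 : ∀ i < 15, (slJ T (nat_lit 15) (nth [] Ws (nat_lit 8)) (nth (BT.leaf 0) Ts (nat_lit 8))) i = 0 := allZ_sound0 sj8_0
theorem sl8 : slChk T (nat_lit 15) (nth [] Ws (nat_lit 8)) (nth (BT.leaf 0) Ts (nat_lit 8)) = true := slChk_of sj8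
theorem sj9 : ∀ i < 15, (slJ T (nat_lit 15) (nth [] Ws (nat_lit 9)) (nth (BT.leaf 0) Ts (nat_lit 9))) i = 0 := allZ_sound0 sj9_0
theorem sl9 : slChk T (nat_lit 15) (nth [] Ws (nat_lit 9)) (nth (BT.leaf 0) Ts (nat_lit 9)) = true := slChk_of sj9
theorem sj10_g0 : ∀ i < 8, (slJ T (nat_lit 15) (nth [] Ws (nat_lit 10)) (nth (BT.leaf 0) Ts (nat_lit 10))) i = 0 := allZ_sound0 sj10_0
theorem sj10 : ∀ i < 15, (slJ T (nat_lit 15) (nth [] Ws (nat_lit 10)) (nth (BT.leaf 0) Ts (nat_lit 10))) i = 0 := range_glue sj10_g0 sj10_1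
theorem sl10 : slChk T (nat_lit 15) (nth [] Ws (nat_lit 10)) (nth (BT.leaf 0) Ts (nat_lit 10)) = true := slChk_of sj10
theorem sj11_g0 : ∀ i < 8, (slJ T (nat_lit 15) (nth [] Ws (nat_lit 11)) (nth (BT.leaf 0) Ts (nat_lit 11))) i = 0 := allZ_sound0 sj11_0
theorem sj11 : ∀ i < 15, (slJ T (nat_lit 15) (nth [] Ws (nat_lit 11)) (nth (BT.leaf 0) Ts (nat_lit 11))) i = 0 := range_glue sj11_g0 sj11_1
theorem sl11 : slChk T (nat_lit 15) (nth [] Ws (nat_lit 11)) (nth (BT.leaf 0) Ts (nat_lit 11)) = true := slChk_of sj11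
theorem sj12_g0 : ∀ i < 8, (slJ T (nat_lit 15) (nth [] Ws (nat_lit 12)) (nth (BT.leaf 0) Ts (nat_lit 12))) i = 0 := allZ_sound0 sj12_0
theorem sj12 : ∀ i < 15, (slJ T (nat_lit 15) (nth [] Ws (nat_lit 12)) (nth (BT.leaf 0) Ts (nat_lit 12))) i = 0 := range_glue sj12_g0 sj12_1
theorem sl12 : slChk T (nat_lit 15) (nth [] Ws (nat_lit 12)) (nth (BT.leaf 0) Ts (nat_lit 12)) = true := slChk_of sj12
theorem sj13 : ∀ i < 15, (slJ T (nat_lit 15) (nth [] Ws (nat_lit 13)) (nth (BT.leaf 0) Ts (nat_lit 13))) i = 0 := allZ_sound0 sj13_0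
theorem sl13 : slChk T (nat_lit 15) (nth [] Ws (nat_lit 13)) (nth (BT.leaf 0) Ts (nat_lit 13)) = true := slChk_of sj13
theorem sj14 : ∀ i < 15, (slJ T (nat_lit 15) (nth [] Ws (nat_lit 14)) (nth (BT.leaf 0) Ts (nat_lit 14))) i = 0 := allZ_sound0 sj14_0
theorem sl14 : slChk T (nat_lit 15) (nth [] Ws (nat_lit 14)) (nth (BT.leaf 0) Ts (nat_lit 14)) = true := slChk_of sj14
theorem sj15 : ∀ i < 15, (slJ T (nat_lit 15) (nth [] Ws (nat_lit 15)) (nth (BT.leaf 0) Ts (nat_lit 15))) i = 0 := allZ_sound0 sj15_0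
theorem sl15 : slChk T (nat_lit 15) (nth [] Ws (nat_lit 15)) (nth (BT.leaf 0) Ts (nat_lit 15)) = true := slChk_of sj15
theorem sj16 : ∀ i < 15, (slJ T (nat_lit 15) (nth [] Ws (nat_lit 16)) (nth (BT.leaf 0) Ts (nat_lit 16))) i = 0 := allZ_sound0 sj16_0
theorem sl16 : slChk T (nat_lit 15) (nth [] Ws (nat_lit 16)) (nth (BT.leaf 0) Ts (nat_lit 16)) = true := slChk_of sj16
theorem sj17 : ∀ i < 15, (slJ T (nat_lit 15) (nth [] Ws (nat_lit 17)) (nth (BT.leaf 0) Ts (nat_lit 17))) i = 0 := allZ_sound0 sj17_0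
theorem sl17 : slChk T (nat_lit 15) (nth [] Ws (nat_lit 17)) (nth (BT.leaf 0) Ts (nat_lit 17)) = true := slChk_of sj17
theorem sj18 : ∀ i < 15, (slJ T (nat_lit 15) (nth [] Ws (nat_lit 18)) (nth (BT.leaf 0) Ts (nat_lit 18))) i = 0 := allZ_sound0 sj18_0
theorem sl18 : slChk T (nat_lit 15) (nth [] Ws (nat_lit 18)) (nth (BT.leaf 0) Ts (nat_lit 18)) = true := slChk_of sj18
theorem sj19 : ∀ i < 15, (slJ T (nat_lit 15) (nth [] Ws (nat_lit 19)) (nth (BT.leaf 0) Ts (nat_lit 19))) i = 0 := allZ_sound0 sj19_0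
theorem sl19 : slChk T (nat_lit 15) (nth [] Ws (nat_lit 19)) (nth (BT.leaf 0) Ts (nat_lit 19)) = true := slChk_of sj19
theorem sj20 : ∀ i < 15, (slJ T (nat_lit 15) (nth [] Ws (nat_lit 20)) (nth (BT.leaf 0) Ts (nat_lit 20))) i = 0 := allZ_sound0 sj20_0
theorem sl20 : slChk T (nat_lit 15) (nth [] Ws (nat_lit 20)) (nth (BT.leaf 0) Ts (nat_lit 20)) = true := slChk_of sj20
theorem sj21 : ∀ i < 15, (slJ T (nat_lit 15) (nth [] Ws (nat_lit 21)) (nth (BT.leaf 0) Ts (nat_lit 21))) i = 0 := allZ_sound0 sj21_0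
theorem sl21 : slChk T (nat_lit 15) (nth [] Ws (nat_lit 21)) (nth (BT.leaf 0) Ts (nat_lit 21)) = true := slChk_of sj21
theorem sj22 : ∀ i < 15, (slJ T (nat_lit 15) (nth [] Ws (nat_lit 22)) (nth (BT.leaf 0) Ts (nat_lit 22))) i = 0 := allZ_sound0 sj22_0
theorem sl22 : slChk T (nat_lit 15) (nth [] Ws (nat_lit 22)) (nth (BT.leaf 0) Ts (nat_lit 22)) = true := slChk_of sj22
theorem sj23 : ∀ i < 15, (slJ T (nat_lit 15) (nth [] Ws (nat_lit 23)) (nth (BT.leaf 0) Ts (nat_lit 23))) i = 0 := allZ_sound0 sj23_0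
theorem sl23 : slChk T (nat_lit 15) (nth [] Ws (nat_lit 23)) (nth (BT.leaf 0) Ts (nat_lit 23)) = true := slChk_of sj23
theorem sj24 : ∀ i < 15, (slJ T (nat_lit 15) (nth [] Ws (nat_lit 24)) (nth (BT.leaf 0) Ts (nat_lit 24))) i = 0 := allZ_sound0 sj24_0
theorem sl24 : slChk T (nat_lit 15) (nth [] Ws (nat_lit 24)) (nth (BT.leaf 0) Ts (nat_lit 24)) = true := slChk_of sj24
theorem sj25 : ∀ i < 15, (slJ T (nat_lit 15) (nth [] Ws (nat_lit 25)) (nth (BT.leaf 0) Ts (nat_lit 25))) i = 0 := allZ_sound0 sj25_0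
theorem sl25 : slChk T (nat_lit 15) (nth [] Ws (nat_lit 25)) (nth (BT.leaf 0) Ts (nat_lit 25)) = true := slChk_of sj25
theorem sj26 : ∀ i < 15, (slJ T (nat_lit 15) (nth [] Ws (nat_lit 26)) (nth (BT.leaf 0) Ts (nat_lit 26))) i = 0 := allZ_sound0 sj26_0
theorem sl26 : slChk T (nat_lit 15) (nth [] Ws (nat_lit 26)) (nth (BT.leaf 0) Ts (nat_lit 26)) = true := slChk_of sj26
theorem sj27 : ∀ i < 15, (slJ T (nat_lit 15) (nth [] Ws (nat_lit 27)) (nth (BT.leaf 0) Ts (nat_lit 27))) i = 0 := allZ_sound0 sj27_0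
theorem sl27 : slChk T (nat_lit 15) (nth [] Ws (nat_lit 27)) (nth (BT.leaf 0) Ts (nat_lit 27)) = true := slChk_of sj27
theorem sj28 : ∀ i < 15, (slJ T (nat_lit 15) (nth [] Ws (nat_lit 28)) (nth (BT.leaf 0) Ts (nat_lit 28))) i = 0 := allZ_sound0 sj28_0
theorem sl28 : slChk T (nat_lit 15) (nth [] Ws (nat_lit 28)) (nth (BT.leaf 0) Ts (nat_lit 28)) = true := slChk_of sj28
theorem sj29 : ∀ i < 15, (slJ T (nat_lit 15) (nth [] Ws (nat_lit 29)) (nth (BT.leaf 0) Ts (nat_lit 29))) i = 0 := allZ_sound0 sj29_0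
theorem sl29 : slChk T (nat_lit 15) (nth [] Ws (nat_lit 29)) (nth (BT.leaf 0) Ts (nat_lit 29)) = true := slChk_of sj29
theorem sj30 : ∀ i < 15, (slJ T (nat_lit 15) (nth [] Ws (nat_lit 30)) (nth (BT.leaf 0) Ts (nat_lit 30))) i = 0 := allZ_sound0 sj30_0
theorem sl30 : slChk T (nat_lit 15) (nth [] Ws (nat_lit 30)) (nth (BT.leaf 0) Ts (nat_lit 30)) = true := slChk_of sj30
theorem sj31 : ∀ i < 15, (slJ T (nat_lit 15) (nth [] Ws (nat_lit 31)) (nth (BT.leaf 0) Ts (nat_lit 31))) i = 0 := allZ_sound0 sj31_0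
theorem sl31 : slChk T (nat_lit 15) (nth [] Ws (nat_lit 31)) (nth (BT.leaf 0) Ts (nat_lit 31)) = true := slChk_of sj31
theorem sj32 : ∀ i < 15, (slJ T (nat_lit 15) (nth [] Ws (nat_lit 32)) (nth (BT.leaf 0) Ts (nat_lit 32))) i = 0 := allZ_sound0 sj32_0
theorem sl32 : slChk T (nat_lit 15) (nth [] Ws (nat_lit 32)) (nth (BT.leaf 0) Ts (nat_lit 32)) = true := slChk_of sj32
theorem sj33 : ∀ i < 15, (slJ T (nat_lit 15) (nth [] Ws (nat_lit 33)) (nth (BT.leaf 0) Ts (nat_lit 33))) i = 0 := allZ_sound0 sj33_0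
theorem sl33 : slChk T (nat_lit 15) (nth [] Ws (nat_lit 33)) (nth (BT.leaf 0) Ts (nat_lit 33)) = true := slChk_of sj33
theorem sj34 : ∀ i < 15, (slJ T (nat_lit 15) (nth [] Ws (nat_lit 34)) (nth (BT.leaf 0) Ts (nat_lit 34))) i = 0 := allZ_sound0 sj34_0
theorem sl34 : slChk T (nat_lit 15) (nth [] Ws (nat_lit 34)) (nth (BT.leaf 0) Ts (nat_lit 34)) = true := slChk_of sj34
theorem sj35 : ∀ i < 15, (slJ T (nat_lit 15) (nth [] Ws (nat_lit 35)) (nth (BT.leaf 0) Ts (nat_lit 35))) i = 0 := allZ_sound0 sj35_0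
theorem sl35 : slChk T (nat_lit 15) (nth [] Ws (nat_lit 35)) (nth (BT.leaf 0) Ts (nat_lit 35)) = true := slChk_of sj35
theorem sj36 : ∀ i < 15, (slJ T (nat_lit 15) (nth [] Ws (nat_lit 36)) (nth (BT.leaf 0) Ts (nat_lit 36))) i = 0 := allZ_sound0 sj36_0
theorem sl36 : slChk T (nat_lit 15) (nth [] Ws (nat_lit 36)) (nth (BT.leaf 0) Ts (nat_lit 36)) = true := slChk_of sj36
theorem sj37 : ∀ i < 15, (slJ T (nat_lit 15) (nth [] Ws (nat_lit 37)) (nth (BT.leaf 0) Ts (nat_lit 37))) i = 0 := allZ_sound0 sj37_0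
theorem sl37 : slChk T (nat_lit 15) (nth [] Ws (nat_lit 37)) (nth (BT.leaf 0) Ts (nat_lit 37)) = true := slChk_of sj37
theorem sj38 : ∀ i < 15, (slJ T (nat_lit 15) (nth [] Ws (nat_lit 38)) (nth (BT.leaf 0) Ts (nat_lit 38))) i = 0 := allZ_sound0 sj38_0
theorem sl38 : slChk T (nat_lit 15) (nth [] Ws (nat_lit 38)) (nth (BT.leaf 0) Ts (nat_lit 38)) = true := slChk_of sj38
theorem sj39 : ∀ i < 15, (slJ T (nat_lit 15) (nth [] Ws (nat_lit 39)) (nth (BT.leaf 0) Ts (nat_lit 39))) i = 0 := allZ_sound0 sj39_0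
theorem sl39 : slChk T (nat_lit 15) (nth [] Ws (nat_lit 39)) (nth (BT.leaf 0) Ts (nat_lit 39)) = true := slChk_of sj39
theorem sj40 : ∀ i < 15, (slJ T (nat_lit 15) (nth [] Ws (nat_lit 40)) (nth (BT.leaf 0) Ts (nat_lit 40))) i = 0 := allZ_sound0 sj40_0
theorem sl40 : slChk T (nat_lit 15) (nth [] Ws (nat_lit 40)) (nth (BT.leaf 0) Ts (nat_lit 40)) = true := slChk_of sj40
theorem sj41 : ∀ i < 15, (slJ T (nat_lit 15) (nth [] Ws (nat_lit 41)) (nth (BT.leaf 0) Ts (nat_lit 41))) i = 0 := allZ_sound0 sj41_0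
theorem sl41 : slChk T (nat_lit 15) (nth [] Ws (nat_lit 41)) (nth (BT.leaf 0) Ts (nat_lit 41)) = true := slChk_of sj41
theorem sj42 : ∀ i < 15, (slJ T (nat_lit 15) (nth [] Ws (nat_lit 42)) (nth (BT.leaf 0) Ts (nat_lit 42))) i = 0 := allZ_sound0 sj42_0
theorem sl42 : slChk T (nat_lit 15) (nth [] Ws (nat_lit 42)) (nth (BT.leaf 0) Ts (nat_lit 42)) = true := slChk_of sj42
theorem sj43 : ∀ i < 15, (slJ T (nat_lit 15) (nth [] Ws (nat_lit 43)) (nth (BT.leaf 0) Ts (nat_lit 43))) i = 0 := allZ_sound0 sj43_0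
theorem sl43 : slChk T (nat_lit 15) (nth [] Ws (nat_lit 43)) (nth (BT.leaf 0) Ts (nat_lit 43)) = true := slChk_of sj43
theorem sj44 : ∀ i < 15, (slJ T (nat_lit 15) (nth [] Ws (nat_lit 44)) (nth (BT.leaf 0) Ts (nat_lit 44))) i = 0 := allZ_sound0 sj44_0
theorem sl44 : slChk T (nat_lit 15) (nth [] Ws (nat_lit 44)) (nth (BT.leaf 0) Ts (nat_lit 44)) = true := slChk_of sj44
theorem sj45 : ∀ i < 15, (slJ T (nat_lit 15) (nth [] Ws (nat_lit 45)) (nth (BT.leaf 0) Ts (nat_lit 45))) i = 0 := allZ_sound0 sj45_0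
theorem sl45 : slChk T (nat_lit 15) (nth [] Ws (nat_lit 45)) (nth (BT.leaf 0) Ts (nat_lit 45)) = true := slChk_of sj45
theorem sj46 : ∀ i < 15, (slJ T (nat_lit 15) (nth [] Ws (nat_lit 46)) (nth (BT.leaf 0) Ts (nat_lit 46))) i = 0 := allZ_sound0 sj46_0
theorem sl46 : slChk T (nat_lit 15) (nth [] Ws (nat_lit 46)) (nth (BT.leaf 0) Ts (nat_lit 46)) = true := slChk_of sj46
theorem sj47 : ∀ i < 15, (slJ T (nat_lit 15) (nth [] Ws (nat_lit 47)) (nth (BT.leaf 0) Ts (nat_lit 47))) i = 0 := allZ_sound0 sj47_0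
theorem sl47 : slChk T (nat_lit 15) (nth [] Ws (nat_lit 47)) (nth (BT.leaf 0) Ts (nat_lit 47)) = true := slChk_of sj47
theorem sj48 : ∀ i < 15, (slJ T (nat_lit 15) (nth [] Ws (nat_lit 48)) (nth (BT.leaf 0) Ts (nat_lit 48))) i = 0 := allZ_sound0 sj48_0
theorem sl48 : slChk T (nat_lit 15) (nth [] Ws (nat_lit 48)) (nth (BT.leaf 0) Ts (nat_lit 48)) = true := slChk_of sj48
theorem sj49 : ∀ i < 15, (slJ T (nat_lit 15) (nth [] Ws (nat_lit 49)) (nth (BT.leaf 0) Ts (nat_lit 49))) i = 0 := allZ_sound0 sj49_0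
theorem sl49 : slChk T (nat_lit 15) (nth [] Ws (nat_lit 49)) (nth (BT.leaf 0) Ts (nat_lit 49)) = true := slChk_of sj49
theorem sj50 : ∀ i < 15, (slJ T (nat_lit 15) (nth [] Ws (nat_lit 50)) (nth (BT.leaf 0) Ts (nat_lit 50))) i = 0 := allZ_sound0 sj50_0
theorem sl50 : slChk T (nat_lit 15) (nth [] Ws (nat_lit 50)) (nth (BT.leaf 0) Ts (nat_lit 50)) = true := slChk_of sj50
theorem sj51 : ∀ i < 15, (slJ T (nat_lit 15) (nth [] Ws (nat_lit 51)) (nth (BT.leaf 0) Ts (nat_lit 51))) i = 0 := allZ_sound0 sj51_0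
theorem sl51 : slChk T (nat_lit 15) (nth [] Ws (nat_lit 51)) (nth (BT.leaf 0) Ts (nat_lit 51)) = true := slChk_of sj51
theorem sj52 : ∀ i < 15, (slJ T (nat_lit 15) (nth [] Ws (nat_lit 52)) (nth (BT.leaf 0) Ts (nat_lit 52))) i = 0 := allZ_sound0 sj52_0
theorem sl52 : slChk T (nat_lit 15) (nth [] Ws (nat_lit 52)) (nth (BT.leaf 0) Ts (nat_lit 52)) = true := slChk_of sj52
theorem sj53 : ∀ i < 15, (slJ T (nat_lit 15) (nth [] Ws (nat_lit 53)) (nth (BT.leaf 0) Ts (nat_lit 53))) i = 0 := allZ_sound0 sj53_0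
theorem sl53 : slChk T (nat_lit 15) (nth [] Ws (nat_lit 53)) (nth (BT.leaf 0) Ts (nat_lit 53)) = true := slChk_of sj53
theorem act : Act (wds T.π Ws) id q.P T.n q.Ks := act_sl wf hd (all_succ (all_succ (all_succ (all_succ (all_succ (all_succ (all_succ (all_succ (all_succ (all_succ (all_succ (all_succ (all_succ (all_succ (all_succ (all_succ (all_succ (all_succ (all_succ (all_succ (all_succ (all_succ (all_succ (all_succ (all_succ (all_succ (all_succ (all_succ (all_succ (all_succ (all_succ (all_succ (all_succ (all_succ (all_succ (all_succ (all_succ (all_succ (all_succ (all_succ (all_succ (all_succ (all_succ (all_succ (all_succ (all_succ (all_succ (all_succ (all_succ (all_succ (all_succ (all_succ (all_succ (all_succ all_zero sl0) sl1) sl2) sl3) sl4) sl5) sl6) sl7) sl8) sl9) sl10) sl11) sl12) sl13) sl14) sl15) sl16) sl17) sl18) sl19) sl20) sl21) sl22) sl23) sl24) sl25) sl26) sl27)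 sl28) sl29) sl30) sl31) sl32) sl33) sl34) sl35) sl36) sl37) sl38) sl39) sl40) sl41) sl42) sl43) sl44) sl45) sl46) sl47) sl48) sl49) sl50) sl51) sl52) sl53)
theorem act0 : Act T.π id P T.n (nat_lit 10) := act.sing sg
theorem ms0 : ∀ w ∈ pick Ws [nat_lit 0, nat_lit 1, nat_lit 2, nat_lit 3, nat_lit 4, nat_lit 5, nat_lit 6, nat_lit 7, nat_lit 8, nat_lit 9], evA T.π w ∈ stab (gen T.π 10) [] := DH.mem_stab_of act0 (DH.mem_of_lt _ wc) fx0
theorem o0 : DH.OrbA (stab (gen T.π 10) []) (nat_lit 0) m0_1 :=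
  (DH.OrbA.step wf ms0 (DH.OrbA.zero _ _) r0_1)
theorem low0 : Low (gen T.π 10) [nat_lit 0] 31671 :=
  have := (supp_gen wf 10).finite; DH.low_step (Low.nil (gen T.π 10)) o0 pp0
theorem ms1 : ∀ w ∈ pick Ws [nat_lit 18, nat_lit 19, nat_lit 20, nat_lit 30, nat_lit 31, nat_lit 34, nat_lit 40, nat_lit 46, nat_lit 50], evA T.π w ∈ stab (gen T.π 10) [nat_lit 0] := DH.mem_stab_of act0 (DH.mem_of_lt _ wc) fx1
theorem o1 : DH.OrbA (stab (gen T.π 10) [nat_lit 0]) (nat_lit 16235) m1_2 :=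
  (DH.OrbA.step wf ms1 (DH.OrbA.step wf ms1 (DH.OrbA.zero _ _) r1_1) r1_2)
theorem low1 : Low (gen T.π 10) [nat_lit 16235, nat_lit 0] 891855360 :=
  have := (supp_gen wf 10).finite; DH.low_step (low0) o1 pp1
theorem ms2 : ∀ w ∈ pick Ws [nat_lit 22, nat_lit 24, nat_lit 30, nat_lit 31, nat_lit 34, nat_lit 40, nat_lit 46, nat_lit 50], evA T.π w ∈ stab (gen T.π 10) [nat_lit 16235, nat_lit 0] := DH.mem_stab_of act0 (DH.mem_of_lt _ wc) fx2
theorem o2 : DH.OrbA (stab (gen T.π 10) [nat_lit 16235, nat_lit 0]) (nat_lit 24936) m2_2 :=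
  (DH.OrbA.step wf ms2 (DH.OrbA.step wf ms2 (DH.OrbA.zero _ _) r2_1) r2_2)
theorem low2 : Low (gen T.π 10) [nat_lit 24936, nat_lit 16235, nat_lit 0] 19478121062400 :=
  have := (supp_gen wf 10).finite; DH.low_step (low1) o2 pp2
theorem ms3 : ∀ w ∈ pick Ws [nat_lit 31, nat_lit 34, nat_lit 35, nat_lit 40, nat_lit 46, nat_lit 48, nat_lit 50], evA T.π w ∈ stab (gen T.π 10) [nat_lit 24936, nat_lit 16235, nat_lit 0] := DH.mem_stab_of act0 (DH.mem_of_lt _ wc) fx3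
theorem o3 : DH.OrbA (stab (gen T.π 10) [nat_lit 24936, nat_lit 16235, nat_lit 0]) (nat_lit 14729) m3_2 :=
  (DH.OrbA.step wf ms3 (DH.OrbA.step wf ms3 (DH.OrbA.zero _ _) r3_1) r3_2)
theorem low3 : Low (gen T.π 10) [nat_lit 14729, nat_lit 24936, nat_lit 16235, nat_lit 0] 151461869381222400 :=
  have := (supp_gen wf 10).finite; DH.low_step (low2) o3 pp3
theorem ms4 : ∀ w ∈ pick Ws [nat_lit 45, nat_lit 46, nat_lit 48, nat_lit 50, nat_lit 52], evA T.π w ∈ stab (gen T.π 10) [nat_lit 14729, nat_lit 24936, nat_lit 16235, nat_lit 0] := DH.mem_stab_of act0 (DH.mem_of_lt _ wc) fx4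
theorem o4 : DH.OrbA (stab (gen T.π 10) [nat_lit 14729, nat_lit 24936, nat_lit 16235, nat_lit 0]) (nat_lit 15475) m4_1 :=
  (DH.OrbA.step wf ms4 (DH.OrbA.zero _ _) r4_1)
theorem low4 : Low (gen T.π 10) [nat_lit 15475, nat_lit 14729, nat_lit 24936, nat_lit 16235, nat_lit 0] 4089470473293004800 :=
  have := (supp_gen wf 10).finite; DH.low_step (low3) o4 pp4
theorem card : Nat.card (gen T.π 10) = 4089470473293004800 := card23
theorem ok : q.OK (gen T.π 10) (wds T.π Ws) :=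
  DH.SF.OK.of wf act low4 card rfl qc (by decide +kernel)
theorem msK0 : ∀ w ∈ pick WK [nat_lit 0, nat_lit 1, nat_lit 2, nat_lit 3, nat_lit 4, nat_lit 5, nat_lit 6, nat_lit 7, nat_lit 8], evA T.π w ∈ stab (genW T.π UK) [] := DH.mem_stab_of act0 (DH.mem_of_lets _ wcK) fxK0
theorem oK0 : DH.OrbA (stab (genW T.π UK) []) (nat_lit 3508) mK0_1 :=
  (DH.OrbA.step wf msK0 (DH.OrbA.zero _ _) rK0_1)
theorem lowK0 : Low (genW T.π UK) [nat_lit 3508] 28431 :=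
  have := DH.fin_genW wf ucK; DH.low_step (Low.nil (genW T.π UK)) oK0 ppK0
theorem msK1 : ∀ w ∈ pick WK [nat_lit 1, nat_lit 2, nat_lit 3, nat_lit 4, nat_lit 5, nat_lit 6, nat_lit 7, nat_lit 8], evA T.π w ∈ stab (genW T.π UK) [nat_lit 3508] := DH.mem_stab_of act0 (DH.mem_of_lets _ wcK) fxK1
theorem oK1 : DH.OrbA (stab (genW T.π UK) [nat_lit 3508]) (nat_lit 0) mK1_1 :=
  (DH.OrbA.step wf msK1 (DH.OrbA.zero _ _) rK1_1)
theorem lowK1 : Low (genW T.π UK) [nat_lit 0, nat_lit 3508] 3411720 :=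
  have := DH.fin_genW wf ucK; DH.low_step (lowK0) oK1 ppK1
theorem msK2 : ∀ w ∈ pick WK [nat_lit 1, nat_lit 2, nat_lit 3, nat_lit 4, nat_lit 5, nat_lit 6, nat_lit 7], evA T.π w ∈ stab (genW T.π UK) [nat_lit 0, nat_lit 3508] := DH.mem_stab_of act0 (DH.mem_of_lets _ wcK) fxK2
theorem oK2 : DH.OrbA (stab (genW T.π UK) [nat_lit 0, nat_lit 3508]) (nat_lit 17735) mK2_1 :=
  (DH.OrbA.step wf msK2 (DH.OrbA.zero _ _) rK2_1)
theorem lowK2 : Low (genW T.π UK) [nat_lit 17735, nat_lit 0, nat_lit 3508] 191056320 :=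
  have := DH.fin_genW wf ucK; DH.low_step (lowK1) oK2 ppK2
theorem msK3 : ∀ w ∈ pick WK [nat_lit 1, nat_lit 2, nat_lit 3, nat_lit 4, nat_lit 6, nat_lit 7], evA T.π w ∈ stab (genW T.π UK) [nat_lit 17735, nat_lit 0, nat_lit 3508] := DH.mem_stab_of act0 (DH.mem_of_lets _ wcK) fxK3
theorem oK3 : DH.OrbA (stab (genW T.π UK) [nat_lit 17735, nat_lit 0, nat_lit 3508]) (nat_lit 17737) mK3_1 :=
  (DH.OrbA.step wf msK3 (DH.OrbA.zero _ _) rK3_1)
theorem lowK3 : Low (genW T.π UK) [nat_lit 17737, nat_lit 17735, nat_lit 0, nat_lit 3508] 5158520640 :=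
  have := DH.fin_genW wf ucK; DH.low_step (lowK2) oK3 ppK3
theorem msK4 : ∀ w ∈ pick WK [nat_lit 1, nat_lit 2, nat_lit 3, nat_lit 4, nat_lit 6], evA T.π w ∈ stab (genW T.π UK) [nat_lit 17737, nat_lit 17735, nat_lit 0, nat_lit 3508] := DH.mem_stab_of act0 (DH.mem_of_lets _ wcK) fxK4
theorem oK4 : DH.OrbA (stab (genW T.π UK) [nat_lit 17737, nat_lit 17735, nat_lit 0, nat_lit 3508]) (nat_lit 17740) mK4_1 :=
  (DH.OrbA.step wf msK4 (DH.OrbA.zero _ _) rK4_1)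
theorem lowK4 : Low (genW T.π UK) [nat_lit 17740, nat_lit 17737, nat_lit 17735, nat_lit 0, nat_lit 3508] 51585206400 :=
  have := DH.fin_genW wf ucK; DH.low_step (lowK3) oK4 ppK4
theorem msK5 : ∀ w ∈ pick WK [nat_lit 1, nat_lit 2, nat_lit 3, nat_lit 6], evA T.π w ∈ stab (genW T.π UK) [nat_lit 17740, nat_lit 17737, nat_lit 17735, nat_lit 0, nat_lit 3508] := DH.mem_stab_of act0 (DH.mem_of_lets _ wcK) fxK5
theorem oK5 : DH.OrbA (stab (genW T.π UK) [nat_lit 17740, nat_lit 17737, nat_lit 17735, nat_lit 0, nat_lit 3508]) (nat_lit 755) mK5_1 :=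
  (DH.OrbA.step wf msK5 (DH.OrbA.zero _ _) rK5_1)
theorem lowK5 : Low (genW T.π UK) [nat_lit 755, nat_lit 17740, nat_lit 17737, nat_lit 17735, nat_lit 0, nat_lit 3508] 412681651200 :=
  have := DH.fin_genW wf ucK; DH.low_step (lowK4) oK5 ppK5
theorem msK6 : ∀ w ∈ pick WK [nat_lit 2, nat_lit 3, nat_lit 6], evA T.π w ∈ stab (genW T.π UK) [nat_lit 755, nat_lit 17740, nat_lit 17737, nat_lit 17735, nat_lit 0, nat_lit 3508] := DH.mem_stab_of act0 (DH.mem_of_lets _ wcK) fxK6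
theorem oK6 : DH.OrbA (stab (genW T.π UK) [nat_lit 755, nat_lit 17740, nat_lit 17737, nat_lit 17735, nat_lit 0, nat_lit 3508]) (nat_lit 31402) mK6_1 :=
  (DH.OrbA.step wf msK6 (DH.OrbA.zero _ _) rK6_1)
theorem lowK6 : Low (genW T.π UK) [nat_lit 31402, nat_lit 755, nat_lit 17740, nat_lit 17737, nat_lit 17735, nat_lit 0, nat_lit 3508] 1650726604800 :=
  have := DH.fin_genW wf ucK; DH.low_step (lowK5) oK6 ppK6
theorem msK7 : ∀ w ∈ pick WK [nat_lit 2, nat_lit 6], evA T.π w ∈ stab (genW T.π UK) [nat_lit 31402, nat_lit 755, nat_lit 17740, nat_lit 17737, nat_lit 17735, nat_lit 0, nat_lit 3508] := DH.mem_stab_of act0 (DH.mem_of_lets _ wcK) fxK7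
theorem oK7 : DH.OrbA (stab (genW T.π UK) [nat_lit 31402, nat_lit 755, nat_lit 17740, nat_lit 17737, nat_lit 17735, nat_lit 0, nat_lit 3508]) (nat_lit 356) mK7_1 :=
  (DH.OrbA.step wf msK7 (DH.OrbA.zero _ _) rK7_1)
theorem lowK7 : Low (genW T.π UK) [nat_lit 356, nat_lit 31402, nat_lit 755, nat_lit 17740, nat_lit 17737, nat_lit 17735, nat_lit 0, nat_lit 3508] 4952179814400 :=
  have := DH.fin_genW wf ucK; DH.low_step (lowK6) oK7 ppK7
theorem msK8 : ∀ w ∈ pick WK [nat_lit 2], evA T.π w ∈ stab (genW T.π UK) [nat_lit 356, nat_lit 31402, nat_lit 755, nat_lit 17740, nat_lit 17737, nat_lit 17735, nat_lit 0, nat_lit 3508] := DH.mem_stab_of act0 (DH.mem_of_lets _ wcK) fxK8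
theorem oK8 : DH.OrbA (stab (genW T.π UK) [nat_lit 356, nat_lit 31402, nat_lit 755, nat_lit 17740, nat_lit 17737, nat_lit 17735, nat_lit 0, nat_lit 3508]) (nat_lit 351) mK8_1 :=
  (DH.OrbA.step wf msK8 (DH.OrbA.zero _ _) rK8_1)
theorem lowK8 : Low (genW T.π UK) [nat_lit 351, nat_lit 356, nat_lit 31402, nat_lit 755, nat_lit 17740, nat_lit 17737, nat_lit 17735, nat_lit 0, nat_lit 3508] 9904359628800 :=
  have := DH.fin_genW wf ucK; DH.low_step (lowK7) oK8 ppK8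
theorem lowK : ∃ B, Low (genW T.π UK) B 9904359628800 := ⟨_, lowK8⟩

end H15.YB.Y2
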